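import Cfsg.Agent.Lib.Exceptional.SelfNine.Basic
import Cfsg.Agent.Lib.SelfCentThree.Basic
import Cfsg.Agent.Lib.PComplement.FixedPointFree
import Cfsg.Agent.Lib.Coprime.Generation

/-!
# One class of elements of order three with centraliser of type `3 × 3`

For an element `y` of order three, the `Good` subgroups are the `y`-invariant ones of order prime
to three. `y` fixes only `1` on such a subgroup.
-/

set_option autoImplicit false
set_option linter.style.haveILetI false
set_option linter.unusedSectionVars false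

namespace Cfsg.Agent.SelfNineEight

open Cfsg Cfsg.Agent Cfsg.Agent.Exceptional.SelfNine Cfsg.Agent.SelfCentThree

universe u

variable {G : Type u} [Group G] [Finite G]

/-- The hypotheses. -/
structure Config (G : Type u) [Group G] [Finite G] (q a b : ℕ) : Prop where
  hq : q.Prime
  hq5 : 5 ≤ q
  nc : ¬ IsMulCommutative G
  card : Nat.card G = 9 * (2 ^ a * q ^ b)
  conj : ∀ y z : G, orderOf y = 3 → orderOf z = 3 → IsConj y z
  syl : ∀ y : G, orderOf y = 3 → ∃ S : Sylow 3 G, Setup S ∧ y ∈ (S : Subgroup G)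

theorem ne_one_of_three {y : G} (hy : orderOf y = 3) : y ≠ 1 := fun e => by
  rw [e, orderOf_one] at hy
  omega

theorem conj_order {y : G} (hy : orderOf y = 3) (g : G) : orderOf (g * y * g⁻¹) = 3 := by
  rw [show g * y * g⁻¹ = MulAut.conj g y from rfl, MulEquiv.orderOf_eq, hy]

variable {q a b : ℕ}

theorem Config.cent_cube (hC : Config G q a b) {y g : G} (hy : orderOf y = 3) (hg : g * y = y * g) :
    g ^ 3 = 1 := by
  obtain ⟨S, hS, hyS⟩ := hC.syl y hy
  exact hS.exp g (hS.mem_of_commute hyS (ne_one_of_three hy) hg)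

theorem Config.not_three_n (hC : Config G q a b) : ¬ 3 ∣ 2 ^ a * q ^ b := by
  intro h
  rcases (Nat.Prime.dvd_mul Nat.prime_three).1 h with h | h
  · have := (Nat.prime_dvd_prime_iff_eq Nat.prime_three Nat.prime_two).1
      (Nat.prime_three.dvd_of_dvd_pow h)
    omega
  · have := (Nat.prime_dvd_prime_iff_eq Nat.prime_three hC.hq).1
      (Nat.prime_three.dvd_of_dvd_pow h)
    have := hC.hq5
    omega

/-- A subgroup of order prime to three invariant under `y`. -/
structure Good (y : G) (D : Subgroup G) : Prop where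
  inv : ∀ d ∈ D, y * d * y⁻¹ ∈ D
  p' : ¬ 3 ∣ Nat.card D

/-- The same subgroup seen by a group of bigger size. -/
theorem card_subgroupOf {D H : Subgroup G} (h : D ≤ H) :
    Nat.card (D.subgroupOf H) = Nat.card D :=
  Nat.card_congr (Subgroup.subgroupOfEquivOfLe h).toEquiv

theorem mem_normalizer_of_conj {g : G} {D : Subgroup G} (h : ∀ d ∈ D, g * d * g⁻¹ ∈ D) :
    g ∈ Subgroup.normalizer (D : Set G) := by
  rw [Subgroup.mem_normalizer_iff_map_conj_eq]
  refine Subgroup.eq_of_le_of_card_ge ?_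
    (by rw [Subgroup.card_map_of_injective (MulAut.conj g).injective])
  rintro - ⟨d, hd, rfl⟩
  exact h d hd

variable {y : G} {D : Subgroup G}

theorem Good.mem_normalizer (h : Good y D) : y ∈ Subgroup.normalizer (D : Set G) :=
  mem_normalizer_of_conj h.inv

theorem Good.map_conj (h : Good y D) (g : G) :
    Good (g * y * g⁻¹) (D.map (MulAut.conj g).toMonoidHom) where
  inv := by
    rintro - ⟨d, hd, rfl⟩
    refine ⟨y * d * y⁻¹, h.inv d hd, ?_⟩
    show g * (y * d * y⁻¹) * g⁻¹ = g * y * g⁻¹ * (g * d * g⁻¹) * (g * y * g⁻¹)⁻¹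
    group
  p' := by
    rw [Subgroup.card_map_of_injective (MulAut.conj g).injective]
    exact h.p'

theorem Good.eq_one_of_commute (hC : Config G q a b) (hy : orderOf y = 3) (h : Good y D) {d : G}
    (hd : d ∈ D) (hc : d * y = y * d) : d = 1 := by
  by_contra hne
  have ho : orderOf d = 3 := orderOf_eq_prime (hC.cent_cube hy hc) hne
  exact h.p' (ho ▸ Subgroup.orderOf_dvd_natCard D hd)

theorem Good.eq_bot_of_forall (hC : Config G q a b) {S : Sylow 3 G} (hS : Setup S)
    (h3 : ¬ 3 ∣ Nat.card D) (hle : (S : Subgroup G) ≤ Subgroup.normalizer (D : Set G)) : D = ⊥ := by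
  haveI : IsMulCommutative (S : Subgroup G) :=
    ⟨⟨fun x z => Subtype.ext (hS.comm x.2 z.2)⟩⟩
  have hnc : ¬ IsCyclic (S : Subgroup G) := fun hcy => by
    obtain ⟨t, ht⟩ := hcy.exists_ofOrder_eq_natCard
    have h1 : orderOf t ∣ 3 := orderOf_dvd_of_pow_eq_one (Subtype.ext (hS.exp t t.2))
    rw [ht, hS.card] at h1
    norm_num at h1
  have hcop : (Nat.card (S : Subgroup G)).Coprime (Nat.card D) := by
    rw [hS.card, show (9 : ℕ) = 3 ^ 2 by norm_num]
    exact Nat.Coprime.pow_left 2 (Nat.prime_three.coprime_iff_not_dvd.2 h3)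
  refine (Coprime.eq_of_forall_centralizer_le hnc hle hcop bot_le fun r hr hr1 => ?_).symm
  rintro d ⟨hd, hdr⟩
  have hds := hS.mem_of_commute hr hr1 (Subgroup.mem_centralizer_singleton_iff.1 hdr)
  by_contra hne
  rw [Subgroup.mem_bot] at hne
  exact h3 (orderOf_eq_prime (hS.exp d hds) hne ▸ Subgroup.orderOf_dvd_natCard D hd)

/-- In the normaliser of a nontrivial good subgroup, `y` is self-centralising. -/
theorem Good.selfThree (hC : Config G q a b) (hy : orderOf y = 3) (h : Good y D) (hD : D ≠ ⊥) :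
    SelfThree (⟨y, h.mem_normalizer⟩ : Subgroup.normalizer (D : Set G)) := by
  haveI : Fact (Nat.Prime 3) := ⟨Nat.prime_three⟩
  obtain ⟨S, hS, hyS⟩ := hC.syl y hy
  set H := Subgroup.normalizer (D : Set G) with hH
  refine ⟨by rw [← Subgroup.orderOf_coe]; exact hy, fun g hg => ?_⟩
  have hgS : (g : G) ∈ (S : Subgroup G) :=
    hS.mem_of_commute hyS (ne_one_of_three hy) (congrArg Subtype.val hg)
  set K := (S : Subgroup G) ⊓ H with hK
  have hne : K ≠ (S : Subgroup G) := fun e =>
    hD (Good.eq_bot_of_forall hC hS h.p' (e ▸ inf_le_right))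
  have hzK : Subgroup.zpowers y ≤ K := Subgroup.zpowers_le.2 ⟨hyS, h.mem_normalizer⟩
  have hdvd : Nat.card K ∣ 3 ^ 2 := by
    rw [show (3 : ℕ) ^ 2 = 9 by norm_num, ← hS.card]
    exact Subgroup.card_dvd_of_le inf_le_left
  obtain ⟨i, hi, hKc⟩ := (Nat.dvd_prime_pow Nat.prime_three).1 hdvd
  have h2 : i ≠ 2 := fun e => hne (Subgroup.eq_of_le_of_card_ge inf_le_left
    (le_of_eq (hS.card.trans (by rw [hKc, e]; norm_num))))
  have hle : Nat.card K ≤ Nat.card (Subgroup.zpowers y) := by
    rw [Nat.card_zpowers, hy, hKc]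
    calc 3 ^ i ≤ 3 ^ 1 := Nat.pow_le_pow_right (by norm_num) (by omega)
      _ = 3 := pow_one 3
  have hKe := Subgroup.eq_of_le_of_card_ge hzK hle
  obtain ⟨k, hk⟩ := Subgroup.mem_zpowers_iff.1
    (hKe.symm ▸ (⟨hgS, g.2⟩ : (g : G) ∈ K) : (g : G) ∈ Subgroup.zpowers y)
  exact Subgroup.mem_zpowers_iff.2 ⟨k, Subtype.ext (by rw [SubgroupClass.coe_zpow]; exact hk)⟩

theorem Good.subgroupOf_inv (h : Good y D) {H : Subgroup G} (hy : y ∈ H) :
    ∀ d ∈ D.subgroupOf H, (⟨y, hy⟩ : H) * d * (⟨y, hy⟩ : H)⁻¹ ∈ D.subgroupOf H := fun d hd => by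
  rw [Subgroup.mem_subgroupOf] at hd ⊢
  exact h.inv d hd

theorem Good.subgroupOf_p' (h : Good y D) {H : Subgroup G} (hle : D ≤ H) :
    ¬ 3 ∣ Nat.card (D.subgroupOf H) := by
  rw [card_subgroupOf hle]
  exact h.p'

theorem Good.card_mod_three (hC : Config G q a b) (hy : orderOf y = 3) (h : Good y D) :
    Nat.card D % 3 = 1 := by
  rcases eq_or_ne D ⊥ with rfl | hD
  · rw [Subgroup.card_bot]
  have := (h.selfThree hC hy hD).card_mod_three (h.subgroupOf_inv _)
    (h.subgroupOf_p' Subgroup.le_normalizer)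
  rwa [card_subgroupOf Subgroup.le_normalizer] at this

theorem Good.commute_conj (hC : Config G q a b) (hy : orderOf y = 3) (h : Good y D) {d : G}
    (hd : d ∈ D) : d * (y * d * y⁻¹) = y * d * y⁻¹ * d := by
  rcases eq_or_ne D ⊥ with rfl | hD
  · rw [Subgroup.mem_bot] at hd
    subst hd
    group
  exact congrArg Subtype.val ((h.selfThree hC hy hD).commute_conj (h.subgroupOf_inv _)
    (h.subgroupOf_p' Subgroup.le_normalizer) (d := ⟨d, Subgroup.le_normalizer hd⟩) hd)

theorem Good.norm_eq_one (hC : Config G q a b) (hy : orderOf y = 3) (h : Good y D) {d : G}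
    (hd : d ∈ D) : d * (y * d * y⁻¹) * (y⁻¹ * d * y) = 1 := by
  rcases eq_or_ne D ⊥ with rfl | hD
  · rw [Subgroup.mem_bot] at hd
    subst hd
    group
  exact congrArg Subtype.val ((h.selfThree hC hy hD).norm_eq_one (h.subgroupOf_inv _)
    (h.subgroupOf_p' Subgroup.le_normalizer) (d := ⟨d, Subgroup.le_normalizer hd⟩) hd)

theorem Good.order_coset (hC : Config G q a b) (hy : orderOf y = 3) (h : Good y D) {d : G}
    (hd : d ∈ D) : orderOf (d * y) = 3 := by
  rcases eq_or_ne D ⊥ with rfl | hD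
  · rw [Subgroup.mem_bot] at hd
    subst hd
    rw [one_mul, hy]
  have := (h.selfThree hC hy hD).orderOf_coset (h.subgroupOf_inv _)
    (h.subgroupOf_p' Subgroup.le_normalizer) (d := ⟨d, Subgroup.le_normalizer hd⟩) hd
  rwa [← Subgroup.orderOf_coe] at this

theorem Good.inv_mem_conj (h : Good y D) {d : G} (hd : d ∈ D) : y⁻¹ * d * y ∈ D := by
  have := (Subgroup.mem_normalizer_iff''.1 h.mem_normalizer d).1 hd
  simpa using this

theorem Good.inverse (h : Good y D) : Good y⁻¹ D :=
  ⟨fun d hd => by rw [inv_inv]; exact h.inv_mem_conj hd, h.p'⟩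

theorem Good.isNilpotent (hC : Config G q a b) (hy : orderOf y = 3) (h : Good y D) :
    Group.IsNilpotent D := by
  haveI : Fact (Nat.Prime 3) := ⟨Nat.prime_three⟩
  have h3 : y * y * y = 1 := pow_three_of_order hy
  let α : MulAut D :=
    { toFun := fun d => ⟨y * d * y⁻¹, h.inv d d.2⟩
      invFun := fun d => ⟨y⁻¹ * d * y, h.inv_mem_conj d.2⟩
      left_inv := fun d => Subtype.ext (show y⁻¹ * (y * d * y⁻¹) * y = d by group)
      right_inv := fun d => Subtype.ext (show y * (y⁻¹ * d * y) * y⁻¹ = d by group)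
      map_mul' := fun u v => Subtype.ext (show y * (u * v : G) * y⁻¹ = y * u * y⁻¹ * (y * v * y⁻¹) by
        group) }
  refine PComplement.isNilpotent_of_fpf (p := 3) D α ?_ fun d hd => Subtype.ext
    (h.eq_one_of_commute hC hy d.2 ?_)
  · refine MulEquiv.ext fun d => Subtype.ext ?_
    show y * (y * (y * (d : G) * y⁻¹) * y⁻¹) * y⁻¹ = d
    rw [show y * (y * (y * (d : G) * y⁻¹) * y⁻¹) * y⁻¹ = y * y * y * d * (y * y * y)⁻¹ by group, h3]
    simp
  · exact (mul_inv_eq_iff_eq_mul.1 (congrArg Subtype.val hd : y * (d : G) * y⁻¹ = d)).symm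

end Cfsg.Agent.SelfNineEight
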