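import Cfsg.Agent.Lib.SelfNineEight.Search

/-!
# Consequences of the identities between signed degrees
-/

set_option autoImplicit false

namespace Cfsg.Agent.SelfNineEight

variable {n : ℕ}

theorem weight_mul {x : ℤ × ℕ} (hd : x.2 ∣ n) : weightOf n x * x.2 = x.1 ^ 3 * n := by
  rw [weightOf, mul_assoc, ← Nat.cast_mul, Nat.div_mul_cancel hd]

/-- An item of positive value. -/
theorem weight_pos {x : ℤ × ℕ} (hx : AdmItem n x) (hd : x.2 ∣ n) (hn : 0 < n) (hc : 0 < x.1) :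
    0 < weightOf n x :=
  mul_pos (pow_pos hc 3) (by exact_mod_cast Nat.div_pos (Nat.le_of_dvd hn hd) (by linarith [hx.2.1]))

/-- The weight of one item is at most `2/11` and at least `-1/8` per unit. -/
theorem weight_bounds {x : ℤ × ℕ} (hx : AdmItem n x) (hd : x.2 ∣ n) :
    11 * weightOf n x ≤ 2 * (unitsOf x * n : ℤ) ∧ -(unitsOf x * n : ℤ) ≤ 8 * weightOf n x := by
  have hw := weight_mul hd
  have hnn : (0 : ℤ) ≤ n := Int.natCast_nonneg n
  obtain ⟨hc, h1, -, h9, hm, hne⟩ := hx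
  obtain ⟨c, d⟩ := x
  dsimp only at hc h1 h9 hm hne hw ⊢
  set w := weightOf n (c, d) with hwdef
  have hd0 : (0 : ℤ) < d := by exact_mod_cast (by omega : 0 < d)
  rcases hc with rfl | rfl | rfl | rfl
  · have : (10 : ℤ) ≤ d := by omega
    have hu : (unitsOf ((1 : ℤ), d) : ℤ) = 1 := by simp [unitsOf]
    rw [hu]
    constructor <;> nlinarith
  · have : (8 : ℤ) ≤ d := by omega
    have hu : (unitsOf ((-1 : ℤ), d) : ℤ) = 1 := by simp [unitsOf]
    rw [hu]
    constructor <;> nlinarith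
  · have : (11 : ℤ) ≤ d := by omega
    have hu : (unitsOf ((2 : ℤ), d) : ℤ) = 4 := by simp [unitsOf]
    rw [hu]
    constructor <;> nlinarith
  · have : (16 : ℤ) ≤ d := by omega
    have hu : (unitsOf ((-2 : ℤ), d) : ℤ) = 4 := by simp [unitsOf]
    rw [hu]
    constructor <;> nlinarith

theorem cast_sum_units (s : Multiset (ℤ × ℕ)) :
    (s.map fun x => (unitsOf x : ℤ)).sum = ((s.map unitsOf).sum : ℕ) := by
  induction s using Multiset.induction_on with
  | empty => simp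
  | cons x s ih =>
    rw [Multiset.map_cons, Multiset.sum_cons, Multiset.map_cons, Multiset.sum_cons, ih, Nat.cast_add]

variable {q a b E : ℕ} {s : Multiset (ℤ × ℕ)}

theorem Items.dvd (h : Items q a b E s) {x : ℤ × ℕ} (hx : x ∈ s) : x.2 ∣ 2 ^ a * q ^ b := by
  obtain ⟨-, i, j, hi, hj, hd⟩ := h.adm x hx
  rw [hd]
  exact Nat.mul_dvd_mul (pow_dvd_pow 2 hi) (pow_dvd_pow q hj)

theorem Items.cast_units (h : Items q a b E s) : (s.map fun x => (unitsOf x : ℤ)).sum = 8 := by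
  rw [cast_sum_units, h.units]; rfl

/-- `F > 1/8`. -/
theorem Items.lower (h : Items q a b E s) (hn : 0 < 2 ^ a * q ^ b) :
    2 ^ a * q ^ b < 72 * E := by
  classical
  set n := 2 ^ a * q ^ b with hndef
  obtain ⟨y, hys, hy⟩ : ∃ y ∈ s, 0 < y.1 := by
    by_contra hne
    push Not at hne
    have : (s.map signedDeg).sum ≤ (s.map fun x => (-1 : ℤ) * (unitsOf x : ℤ)).sum :=
      Multiset.sum_map_le_sum_map _ _ fun x hx => by
        obtain ⟨hc, h1, -, h9, hm, -⟩ := (h.adm x hx).1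
        have := hne x hx
        rcases hc with e | e | e | e <;> simp [signedDeg, unitsOf, e] at * <;> omega
    rw [Multiset.sum_map_mul_left, h.cast_units] at this
    have := h.degs
    omega
  obtain ⟨r, rfl⟩ := Multiset.exists_cons_of_mem hys
  have hyA := (h.adm y hys).1
  have hpos := weight_pos hyA (h.dvd hys) hn hy
  have hu := h.cast_units
  have hp := h.pairs
  simp only [Multiset.map_cons, Multiset.sum_cons] at hu hp
  have hle : (r.map fun x => (-(n : ℤ)) * (unitsOf x : ℤ)).sum ≤ (r.map fun x => 8 * weightOf n x).sum :=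
    Multiset.sum_map_le_sum_map _ _ fun x hx =>
      le_of_eq_of_le (by ring) (weight_bounds (h.adm x (Multiset.mem_cons_of_mem hx)).1
        (h.dvd (Multiset.mem_cons_of_mem hx))).2
  rw [Multiset.sum_map_mul_left, Multiset.sum_map_mul_left] at hle
  have h1 : (1 : ℤ) ≤ unitsOf y := by exact_mod_cast unitsOf_pos hyA
  have h2 : (0 : ℤ) < n := by exact_mod_cast hn
  have : (n : ℤ) < 72 * E := by nlinarith
  exact_mod_cast this

/-- `F ≤ 27/11`. -/
theorem Items.upper (h : Items q a b E s) : 99 * E ≤ 27 * (2 ^ a * q ^ b) := by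
  set n := 2 ^ a * q ^ b with hndef
  have hle : (s.map fun x => 11 * weightOf n x).sum ≤ (s.map fun x => 2 * (unitsOf x * n : ℤ)).sum :=
    Multiset.sum_map_le_sum_map _ _ fun x hx => (weight_bounds (h.adm x hx).1 (h.dvd hx)).1
  rw [Multiset.sum_map_mul_left, Multiset.sum_map_mul_left, Multiset.sum_map_mul_right,
    h.cast_units] at hle
  have hp := h.pairs
  have : (99 * E : ℤ) ≤ 27 * n := by linarith
  exact_mod_cast this

/-- An odd degree, necessarily a power of `q`. -/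
theorem Items.exists_odd (h : Items q a b E s) :
    ∃ x ∈ s, ∃ j, (x.1 = 1 ∨ x.1 = -1) ∧ 1 ≤ j ∧ j ≤ b ∧ x.2 = q ^ j ∧
      ((q ^ j % 9 = 1 ∧ x.1 = 1) ∨ (q ^ j % 9 = 8 ∧ x.1 = -1)) := by
  obtain ⟨x, hxs, hx⟩ : ∃ x ∈ s, ¬ (2 : ℤ) ∣ signedDeg x := by
    by_contra hne
    push Not at hne
    have : (2 : ℤ) ∣ (s.map signedDeg).sum :=
      Multiset.dvd_sum fun z hz => by
        obtain ⟨w, hw, rfl⟩ := Multiset.mem_map.1 hz
        exact hne w hw
    have := h.degs
    omega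
  obtain ⟨hA, i, j, hi, hj, hd⟩ := h.adm x hxs
  have hi0 : i = 0 := by
    by_contra hi0
    refine hx (dvd_mul_of_dvd_right ((Int.natCast_dvd_natCast (m := 2)).2 ?_) _)
    rw [hd]
    exact dvd_mul_of_dvd_left (dvd_pow_self 2 hi0) _
  rw [hi0, pow_zero, one_mul] at hd
  have hj0 : 1 ≤ j := by
    by_contra hj0
    have := hA.2.1
    rw [hd, show j = 0 by omega, pow_zero] at this
    omega
  refine ⟨x, hxs, j, ?_, hj0, hj, hd, ?_⟩
  · rcases hA.1 with e | e | e | e
    · exact Or.inl e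
    · exact Or.inr e
    all_goals exact absurd (dvd_mul_of_dvd_left (by rw [e] <;> decide) _) hx
  · have h9 := hA.2.2.2.1
    rw [hd] at h9
    rcases hA.1 with e | e | e | e
    · exact Or.inl ⟨by rw [e] at h9; omega, e⟩
    · exact Or.inr ⟨by rw [e] at h9; omega, e⟩
    all_goals exact absurd (dvd_mul_of_dvd_left (by rw [e] <;> decide) _) hx

/-- If `2 ^ (v + 1)` does not divide `9 E`, some degree has 2-part at least `2 ^ (a - v)`. -/
theorem Items.two_part (h : Items q a b E s) {v : ℕ} (hv : v < a) (hE : ¬ 2 ^ (v + 1) ∣ 9 * E) :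
    2 ^ a < 9 * q ^ b * 4 ^ v := by
  set n := 2 ^ a * q ^ b with hndef
  obtain ⟨x, hxs, hx⟩ : ∃ x ∈ s, ¬ (2 ^ (v + 1) : ℤ) ∣ weightOf n x := by
    by_contra hne
    push Not at hne
    have h1 : (2 ^ (v + 1) : ℤ) ∣ (s.map (weightOf n)).sum :=
      Multiset.dvd_sum fun z hz => by
        obtain ⟨w, hw, rfl⟩ := Multiset.mem_map.1 hz
        exact hne w hw
    have h2 : (2 ^ (v + 1) : ℤ) ∣ (n : ℤ) := by
      have : (2 ^ (v + 1) : ℕ) ∣ n := dvd_mul_of_dvd_left (pow_dvd_pow 2 (by omega)) _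
      exact_mod_cast this
    refine hE ?_
    have h3 := h.pairs ▸ dvd_add h2 h1
    exact_mod_cast h3
  obtain ⟨hA, i, j, hi, hj, hd⟩ := h.adm x hxs
  have hiv : a ≤ i + v := by
    by_contra hlt
    refine hx (dvd_mul_of_dvd_right ?_ _)
    have hdiv : n / x.2 = 2 ^ (a - i) * (q ^ b / q ^ j) := by
      rw [hd, hndef, Nat.mul_div_mul_comm (pow_dvd_pow 2 hi) (pow_dvd_pow q hj),
        Nat.pow_div hi (by norm_num)]
    have : 2 ^ (v + 1) ∣ n / x.2 := hdiv ▸ dvd_mul_of_dvd_left (pow_dvd_pow 2 (by omega)) _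
    exact_mod_cast this
  have hq : 0 < q ^ j := by
    rcases Nat.eq_zero_or_pos (q ^ j) with e | e
    · have := hA.2.1
      rw [hd, e] at this
      omega
    · exact e
  have h1 : 2 ^ a ≤ x.2 * 2 ^ v := by
    calc 2 ^ a ≤ 2 ^ (i + v) := Nat.pow_le_pow_right (by norm_num) hiv
      _ = 2 ^ i * 1 * 2 ^ v := by rw [pow_add, mul_one]
      _ ≤ x.2 * 2 ^ v := by rw [hd]; gcongr; exact hq
  have h2 := hA.2.2.1
  have h4 : (4 : ℕ) ^ v = 2 ^ v * 2 ^ v := by rw [← mul_pow]; norm_num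
  have h5 : 2 ^ a * 2 ^ a < 2 ^ a * (9 * q ^ b * 4 ^ v) := by
    calc 2 ^ a * 2 ^ a ≤ x.2 * 2 ^ v * (x.2 * 2 ^ v) := Nat.mul_le_mul h1 h1
      _ = x.2 * x.2 * (2 ^ v * 2 ^ v) := by ring
      _ < 9 * (2 ^ a * q ^ b) * (2 ^ v * 2 ^ v) := by
        have : 0 < 2 ^ v * 2 ^ v := by positivity
        exact Nat.mul_lt_mul_of_pos_right h2 this
      _ = _ := by rw [h4]; ring
  exact Nat.lt_of_mul_lt_mul_left h5

end Cfsg.Agent.SelfNineEight
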