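import Cfsg.Agent.Lib.SelfNineEight.Bounds

/-!
# The numerical cases

`A = 2 ^ a`, `B = q ^ b`, and `E = 7 + U` where `U` is the number of non-identity elements in
invariant subgroups of order prime to three.
-/

set_option autoImplicit false

namespace Cfsg.Agent.SelfNineEight

variable {q a b E : ℕ} {s : Multiset (ℤ × ℕ)}

/-- Some power `q ^ j`, `1 ≤ j ≤ b`, is `1` or `8` modulo nine. -/
def degMod (q b : ℕ) : Bool :=
  (List.range b).any fun j => q ^ (j + 1) % 9 == 1 || q ^ (j + 1) % 9 == 8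

theorem Items.degMod_true (h : Items q a b E s) : degMod q b = true := by
  obtain ⟨x, -, j, -, h1, hjb, -, h9⟩ := h.exists_odd
  rw [degMod, List.any_eq_true]
  refine ⟨j - 1, List.mem_range.2 (by omega), ?_⟩
  rw [show j - 1 + 1 = j by omega]
  rcases h9 with ⟨e, -⟩ | ⟨e, -⟩ <;> simp [e]

theorem pow_two_mod_three (a : ℕ) : 2 ^ a % 3 = if Even a then 1 else 2 := by
  induction a with
  | zero => decide
  | succ a ih =>
    rw [pow_succ, Nat.mul_mod, ih]
    rcases Nat.even_or_odd a with h | h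
    · simp [h, Nat.even_add_one]
    · simp [Nat.not_even_iff_odd.2 h, Nat.even_add_one]

theorem pow_two_mod_nine (a : ℕ) : 2 ^ a % 9 = 2 ^ (a % 6) % 9 := by
  conv_lhs => rw [← Nat.div_add_mod a 6, pow_add, pow_mul, Nat.mul_mod, Nat.pow_mod]
  simp

theorem not_sq_dvd_factorial {p m : ℕ} (hp : p.Prime) (hm : m < 2 * p) :
    ¬ p ^ 2 ∣ Nat.factorial m := fun hd => by
  have h2 : Nat.log p m < 2 := Nat.log_lt_of_lt_pow' (by norm_num) (by nlinarith [hp.two_le])
  have := (hp.pow_dvd_factorial_iff h2).1 hd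
  simp at this
  have : m / p < 2 := Nat.div_lt_of_lt_mul (by linarith)
  omega

theorem zero_list : ((List.range 307).all fun q => (List.range 9).all fun a => (List.range 5).all
    fun b => !(decide (5 ≤ q) && q % 2 == 1 && q % 5 != 0 && 3 ≤ a && decide (2 ^ a * q ^ b < 2448)
      && 2 ^ a * q ^ b % 72 == 8 && degMod q b &&
      (List.range (a + 1)).any (fun i => 9 * 2 ^ i % q == 1 &&
        Nat.factorial (9 * 2 ^ i) % q ^ b == 0)) ||
      (q == 17 && a == 6 && b == 1)) = true := by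
  decide +kernel

/-- No big invariant subgroups at all. -/
theorem case_zero (h : Items q a b E s) (hq : q.Prime) (hq5 : 5 ≤ q) (ha : 3 ≤ a)
    (hn : 2 ^ a * q ^ b % 72 = 8) {c : ℕ} (hc : c ≤ 3) (hE : E = 7 + 9 * c)
    (hm : ∃ i ≤ a, 9 * 2 ^ i % q = 1 ∧ q ^ b ∣ Nat.factorial (9 * 2 ^ i)) :
    q = 17 ∧ a = 6 ∧ b = 1 := by
  have hpos : 0 < 2 ^ a * q ^ b := Nat.mul_pos (by positivity) (pow_pos hq.pos b)
  have hlt : 2 ^ a * q ^ b < 2448 := by
    have := h.lower hpos
    omega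
  have hdm := h.degMod_true
  have hb0 : 1 ≤ b := by
    obtain ⟨-, -, j, -, h1, hjb, -⟩ := h.exists_odd
    omega
  have hA : 8 ≤ 2 ^ a := le_trans (by norm_num) (Nat.pow_le_pow_right (by norm_num) ha)
  have hB : q ^ b < 307 := by nlinarith
  have hqB : q ≤ q ^ b := Nat.le_self_pow (by omega) q
  have ha9 : a < 9 := by
    by_contra hge
    have : 2 ^ 9 ≤ 2 ^ a := Nat.pow_le_pow_right (by norm_num) (not_lt.1 hge)
    nlinarith
  have hb5 : b < 5 := by
    by_contra hge
    have : 5 ^ 5 ≤ q ^ b := le_trans (Nat.pow_le_pow_left hq5 5)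
      (Nat.pow_le_pow_right hq.pos (not_lt.1 hge))
    omega
  have hodd : q % 2 = 1 := Nat.odd_iff.1 (hq.odd_of_ne_two (by omega))
  obtain ⟨i, hi, h1, h2⟩ := hm
  have key := List.all_eq_true.1 (List.all_eq_true.1 (List.all_eq_true.1 zero_list q
    (List.mem_range.2 (by omega))) a (List.mem_range.2 ha9)) b (List.mem_range.2 hb5)
  by_cases h5 : q % 5 = 0
  · have : q = 5 := ((Nat.prime_dvd_prime_iff_eq (by norm_num) hq).1 (Nat.dvd_of_mod_eq_zero h5)).symm
    subst this
    -- three factors `5` and a small order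
    obtain ⟨x, -, j, -, hj1, hjb, -, h9⟩ := h.exists_odd
    have hb3 : 3 ≤ b := by
      by_contra hlt3
      have : j = 1 ∨ j = 2 := by omega
      rcases this with rfl | rfl <;> simp at h9
    have : b = 3 := by
      by_contra hne
      have : 5 ^ 4 ≤ 5 ^ b := Nat.pow_le_pow_right (by norm_num) (by omega)
      omega
    subst this
    have : a = 3 ∨ a = 4 := by
      by_contra hne
      have : 2 ^ 5 ≤ 2 ^ a := Nat.pow_le_pow_right (by norm_num) (by omega)
      omega
    rcases this with rfl | rfl <;> norm_num at hn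
  have hany : (List.range (a + 1)).any (fun i => 9 * 2 ^ i % q == 1 &&
      Nat.factorial (9 * 2 ^ i) % q ^ b == 0) = true :=
    List.any_eq_true.2 ⟨i, List.mem_range.2 (by omega), by
      rw [h1, Nat.mod_eq_zero_of_dvd h2]; rfl⟩
  simpa [hq5, hodd, h5, ha, hlt, hn, hdm, hany, and_assoc] using key

theorem six_list : ((List.range 437).all fun q => (List.range 4).all fun b =>
    !(decide (5 ≤ q) && q % 2 == 1 && decide (q ^ b ≤ 436) && q ^ b % 3 == 2 && degMod q b) ||
      (q ^ b % 9 == 8 && ((q == 5 && b == 3) || b == 1))) = true := by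
  decide +kernel

theorem six_srch : ((List.range 432).all fun q => !(decide (17 ≤ q) && q % 9 == 8 && q % 2 == 1) ||
    !srch (fun T => decide (T = 9 * ((385 : ℕ) : ℤ))) (2 ^ 6 * q ^ 1) (options q 6 1) 8 1
      ((2 ^ 6 * q ^ 1 : ℕ) : ℤ)) = true := by
  decide +kernel

/-- The invariant Sylow 2-subgroups. -/
theorem case_six (h : Items q a b E s) (hq : q.Prime) (hq5 : 5 ≤ q) (ha : 4 ≤ a) (hev : Even a)
    (hn : 2 ^ a * q ^ b % 9 = 8) (hle : E ≤ 6 * 2 ^ a + 1) (heq : q ≠ 5 → E = 6 * 2 ^ a + 1) :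
    q = 5 ∧ b = 3 ∧ a % 6 = 0 := by
  have hpos : 0 < 2 ^ a * q ^ b := Nat.mul_pos (by positivity) (pow_pos hq.pos b)
  have hA : 16 ≤ 2 ^ a := le_trans (by norm_num) (Nat.pow_le_pow_right (by norm_num) ha)
  have hlo := h.lower hpos
  have hB : q ^ b ≤ 436 := by
    by_contra hgt
    have : 437 * 2 ^ a ≤ 2 ^ a * q ^ b := by nlinarith
    omega
  have hb0 : 1 ≤ b := by
    obtain ⟨-, -, j, -, h1, hjb, -⟩ := h.exists_odd
    omega
  have hqB : q ≤ q ^ b := Nat.le_self_pow (by omega) q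
  have hb4 : b < 4 := by
    by_contra hge
    have : 5 ^ 4 ≤ q ^ b := le_trans (Nat.pow_le_pow_left hq5 4)
      (Nat.pow_le_pow_right hq.pos (not_lt.1 hge))
    omega
  have hodd : q % 2 = 1 := Nat.odd_iff.1 (hq.odd_of_ne_two (by omega))
  have h3 : 2 ^ a * q ^ b % 3 = 2 := by omega
  have hA3 : 2 ^ a % 3 = 1 := by rw [pow_two_mod_three, if_pos hev]
  have hB3 : q ^ b % 3 = 2 := by
    rw [Nat.mul_mod, hA3] at h3
    omega
  have key := List.all_eq_true.1 (List.all_eq_true.1 six_list q (List.mem_range.2 (by omega))) b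
    (List.mem_range.2 hb4)
  simp [hq5, hodd, hB, hB3, h.degMod_true] at key
  obtain ⟨hB9, hcase⟩ := key
  have ha6 : a % 6 = 0 := by
    rw [Nat.mul_mod, hB9, pow_two_mod_nine] at hn
    have : a % 6 < 6 := Nat.mod_lt _ (by norm_num)
    interval_cases (a % 6) <;> simp at hn ⊢
  by_cases h5 : q = 5
  · refine ⟨h5, ?_, ha6⟩
    rcases hcase with ⟨-, hb⟩ | hb
    · exact hb
    · subst h5 hb
      simp at hB9
  exfalso
  obtain rfl : b = 1 := by
    rcases hcase with ⟨e, -⟩ | e
    · exact absurd e h5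
    · exact e
  rw [pow_one] at hB hB9
  have hE := heq h5
  have h2 := h.two_part (v := 0) (by omega) (by rw [hE]; omega)
  simp at h2
  have : a = 6 := by
    by_contra hne
    have : 2 ^ 12 ≤ 2 ^ a := Nat.pow_le_pow_right (by norm_num) (by omega)
    omega
  subst this
  have hup := h.upper
  have hq17 : 17 ≤ q := by omega
  have hq432 : q < 432 := by norm_num at hlo hE; omega
  refine h.false_of_srch_eq ?_
  rw [hE]
  have := List.all_eq_true.1 six_srch q (List.mem_range.2 hq432)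
  simp [hq17, hB9, hodd] at this
  simpa using this

theorem half_list : ((List.range 217).all fun q => (List.range 4).all fun b =>
    !(decide (5 ≤ q) && q % 2 == 1 && q % 3 != 0 && q % 5 != 0 && decide (q ^ b ≤ 216) &&
      q ^ b % 3 == 1 && degMod q b) ||
      (b == 1 && q ∈ [19, 37, 73, 91, 109, 127, 163, 181, 199])) = true := by
  decide +kernel

theorem half_srch : ([19, 37, 73, 91, 109, 127, 163].all fun q => (List.range 4).all fun c =>
    !srch (fun T => decide (T = 9 * ((4 + 3 * 2 ^ 8 + 9 * c : ℕ) : ℤ))) (2 ^ 9 * q ^ 1)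
      (options q 9 1) 8 1 ((2 ^ 9 * q ^ 1 : ℕ) : ℤ)) = true := by
  decide +kernel

theorem half_small (h : Items q a b E s) (hq : q.Prime) (hq5 : 5 ≤ q) (hB : q ^ b ≤ 216)
    (hB3 : q ^ b % 3 = 1) :
    b = 1 ∧ q ∈ [19, 37, 73, 91, 109, 127, 163, 181, 199] := by
  have hb0 : 1 ≤ b := by
    obtain ⟨-, -, j, -, h1, hjb, -⟩ := h.exists_odd
    omega
  have hqB : q ≤ q ^ b := Nat.le_self_pow (by omega) q
  have hb4 : b < 4 := by
    by_contra hge
    have : 5 ^ 4 ≤ q ^ b := le_trans (Nat.pow_le_pow_left hq5 4)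
      (Nat.pow_le_pow_right hq.pos (not_lt.1 hge))
    omega
  have hodd : q % 2 = 1 := Nat.odd_iff.1 (hq.odd_of_ne_two (by omega))
  have h3 : q % 3 ≠ 0 := fun e => by
    have : 3 = q := (Nat.prime_dvd_prime_iff_eq (by norm_num) hq).1 (Nat.dvd_of_mod_eq_zero e)
    omega
  have h5 : q % 5 ≠ 0 := fun e => by
    obtain rfl : 5 = q := (Nat.prime_dvd_prime_iff_eq (by norm_num) hq).1 (Nat.dvd_of_mod_eq_zero e)
    have := h.degMod_true
    interval_cases b <;> simp [degMod, List.range_succ] at this hB hB3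
  have key := List.all_eq_true.1 (List.all_eq_true.1 half_list q (List.mem_range.2 (by omega))) b
    (List.mem_range.2 hb4)
  simp [hq5, hodd, h3, h5, hB, hB3, h.degMod_true] at key
  exact ⟨key.1, by simpa using key.2⟩

theorem odd_of_B (hn : 2 ^ a * q ^ b % 9 = 8) (hB3 : q ^ b % 3 = 1) : Odd a := by
  by_contra hev
  rw [Nat.not_odd_iff_even] at hev
  have h3 : 2 ^ a * q ^ b % 3 = 2 := by omega
  rw [Nat.mul_mod, pow_two_mod_three, if_pos hev, hB3] at h3
  norm_num at h3

theorem B_of_odd (hn : 2 ^ a * q ^ b % 9 = 8) (ho : Odd a) : q ^ b % 3 = 1 := by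
  have h3 : 2 ^ a * q ^ b % 3 = 2 := by omega
  rw [Nat.mul_mod, pow_two_mod_three, if_neg (Nat.not_even_iff_odd.2 ho)] at h3
  omega

theorem mod_six_of_B (hn : 2 ^ a * q ^ b % 9 = 8) (hB9 : q ^ b % 9 = 1) : a % 6 = 3 := by
  rw [Nat.mul_mod, hB9, pow_two_mod_nine] at hn
  have : a % 6 < 6 := Nat.mod_lt _ (by norm_num)
  interval_cases (a % 6) <;> simp at hn ⊢

/-- Invariant subgroups of index two in Sylow 2-subgroups, no invariant Sylow `q`-subgroup. -/
theorem case_half (h : Items q a b E s) (hq : q.Prime) (hq5 : 5 ≤ q) (ha : 5 ≤ a) (ho : Odd a)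
    (hn : 2 ^ a * q ^ b % 9 = 8) {c : ℕ} (hc : c ≤ 3)
    (hle : E ≤ 4 + 3 * 2 ^ (a - 1) + 9 * c) (heq : q ≠ 5 → E = 4 + 3 * 2 ^ (a - 1) + 9 * c) :
    False := by
  have hpos : 0 < 2 ^ a * q ^ b := Nat.mul_pos (by positivity) (pow_pos hq.pos b)
  have hA : 32 ≤ 2 ^ a := le_trans (by norm_num) (Nat.pow_le_pow_right (by norm_num) ha)
  have hpa : 2 * 2 ^ (a - 1) = 2 ^ a := by rw [← pow_succ']; congr 1; omega
  have hlo := h.lower hpos
  have hB3 := B_of_odd hn ho
  have hB : q ^ b ≤ 177 := by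
    by_contra hgt
    have : 178 * 2 ^ a ≤ 2 ^ a * q ^ b := by nlinarith
    omega
  obtain ⟨rfl, hmem⟩ := half_small h hq hq5 (by omega) hB3
  rw [pow_one] at hB
  have hq7 : q ∈ [19, 37, 73, 91, 109, 127, 163] := by
    simp only [List.mem_cons, List.not_mem_nil, or_false] at hmem ⊢
    omega
  have hB9 : q ^ 1 % 9 = 1 := by
    simp only [List.mem_cons, List.not_mem_nil, or_false] at hq7
    rcases hq7 with rfl | rfl | rfl | rfl | rfl | rfl | rfl <;> norm_num
  have ha6 := mod_six_of_B hn hB9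
  have hq_ne : q ≠ 5 := by
    rintro rfl
    simp at hB9
  have hE := heq hq_ne
  have h2 := h.two_part (v := 2) (by omega) (by
    rw [hE]
    have : 2 ^ (a - 1) = 2 ^ (a - 4) * 8 := by
      rw [show (8 : ℕ) = 2 ^ 3 from rfl, ← pow_add]; congr 1; omega
    rintro ⟨t, ht⟩
    interval_cases c <;> omega)
  simp at h2
  have : a = 9 := by
    by_contra hne
    have : 2 ^ 15 ≤ 2 ^ a := Nat.pow_le_pow_right (by norm_num) (by omega)
    omega
  subst this
  refine h.false_of_srch_eq ?_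
  rw [hE]
  have := List.all_eq_true.1 (List.all_eq_true.1 half_srch q hq7) c (List.mem_range.2 (by omega))
  simpa using this

theorem half_cong : ([19, 37, 73, 91, 109, 127, 163, 181, 199].all fun q =>
    (2 ^ 180 % q == 1 || 2 ^ 108 % q == 1 || 2 ^ 18 % q == 1 || 2 ^ 36 % q == 1 ||
      2 ^ 126 % q == 1 || 2 ^ 162 % q == 1 || 2 ^ 198 % q == 1 || 2 ^ 12 % q == 1) &&
    (List.range 200).all fun r => !(r % 6 == 3) ||
      (!(3 * 2 ^ r % q == 1) && !(3 * 2 ^ (r - 1) % q == 1))) = true := by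
  decide +kernel

theorem half_cong' {P : ℕ} (hP6 : P % 6 = 0) (hP0 : 6 ≤ P) (hP : P ≤ 198) (hq : 2 ^ P % q = 1)
    (hr : (List.range 200).all (fun r => !(r % 6 == 3) ||
      (!(3 * 2 ^ r % q == 1) && !(3 * 2 ^ (r - 1) % q == 1))) = true)
    (ha6 : a % 6 = 3) : 3 * 2 ^ a % q ≠ 1 ∧ 3 * 2 ^ (a - 1) % q ≠ 1 := by
  have hr6 : a % P % 6 = 3 := by
    rw [Nat.mod_mod_of_dvd a (Nat.dvd_of_mod_eq_zero hP6)]
    exact ha6
  have hlt : a % P < 200 := by
    have := Nat.mod_lt a (show P > 0 by omega)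
    omega
  have key := List.all_eq_true.1 hr (a % P) (List.mem_range.2 hlt)
  simp [hr6] at key
  have hred : ∀ k e : ℕ, k * 2 ^ (P * e) % q = k % q := fun k e => by
    rw [pow_mul, Nat.mul_mod, Nat.pow_mod, hq, one_pow, ← Nat.mul_mod, mul_one]
  constructor
  · rw [show 2 ^ a = 2 ^ (a % P) * 2 ^ (P * (a / P)) by rw [← pow_add, Nat.mod_add_div],
      ← mul_assoc, hred]
    exact key.1
  · rw [show 2 ^ (a - 1) = 2 ^ (a % P - 1) * 2 ^ (P * (a / P)) by
        rw [← pow_add]; congr 1; have := Nat.mod_add_div a P; omega,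
      ← mul_assoc, hred]
    exact key.2

/-- Primes dividing a product of two primes. -/
theorem eq_or_eq_of_dvd {x y : ℕ} (hq : q.Prime) (hx : x.Prime) (hy : y.Prime) (h : q ∣ x * y) :
    q = x ∨ q = y :=
  ((Nat.Prime.dvd_mul hq).1 h).imp (Nat.prime_dvd_prime_iff_eq hq hx).1
    (Nat.prime_dvd_prime_iff_eq hq hy).1

theorem srch307 : srch (fun T => decide (T ≤ 9 * ((2635 : ℕ) : ℤ))) (2 ^ 9 * 307 ^ 1)
    (options 307 9 1) 8 1 ((2 ^ 9 * 307 ^ 1 : ℕ) : ℤ) = false := by
  decide +kernel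

/-- There are invariant Sylow `q`-subgroups; this leaves `A = 32`, `q = 5`. -/
theorem case_pos (h : Items q a b E s) (hq : q.Prime) (hq5 : 5 ≤ q) (ha : 3 ≤ a)
    (hn : 2 ^ a * q ^ b % 9 = 8) (hB3 : q ^ b % 3 = 1) {k l c m : ℕ}
    (hk : k = 0 ∨ k = 3 ∧ 5 ≤ a) (hc : c ≤ 3)
    (hl : l = 3 ∧ m = 3 * 2 ^ (a - 1) ∨ l = 6 ∧ m = 3 * 2 ^ a)
    (hm : m % q = 1) (hfac : q ^ b ∣ Nat.factorial m)
    (hle : E + k ≤ 7 + k * 2 ^ (a - 1) + 9 * c + l * (q ^ b - 1)) :
    a = 5 ∧ q = 5 ∧ l = 6 := by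
  have ho := odd_of_B hn hB3
  have hpos : 0 < 2 ^ a * q ^ b := Nat.mul_pos (by positivity) (pow_pos hq.pos b)
  have hpa : 2 * 2 ^ (a - 1) = 2 ^ a := by rw [← pow_succ']; congr 1; omega
  have hlo := h.lower hpos
  have hl6 : l * (q ^ b - 1) ≤ 6 * (q ^ b - 1) := Nat.mul_le_mul_right _ (by omega)
  have hb0 : 1 ≤ b := by
    obtain ⟨-, -, j, -, h1, hjb, -⟩ := h.exists_odd
    omega
  have hqB : q ≤ q ^ b := Nat.le_self_pow (by omega) q
  have hA8 : 8 ≤ 2 ^ a := le_trans (by norm_num) (Nat.pow_le_pow_right (by norm_num) ha)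
  have ha9 : a ≤ 9 := by
    by_contra hgt
    have hA : 2 ^ 11 ≤ 2 ^ a := Nat.pow_le_pow_right (by norm_num) (by
      obtain ⟨t, rfl⟩ := ho; omega)
    rcases hk with rfl | ⟨rfl, -⟩
    · have : 2 ^ 11 * q ^ b ≤ 2 ^ a * q ^ b := Nat.mul_le_mul_right _ hA
      omega
    rcases le_or_gt (q ^ b) 216 with hB | hB
    · obtain ⟨rfl, hmem⟩ := half_small h hq hq5 hB hB3
      have hB9 : q ^ 1 % 9 = 1 := by
        simp only [List.mem_cons, List.not_mem_nil, or_false] at hmem
        rcases hmem with rfl | rfl | rfl | rfl | rfl | rfl | rfl | rfl | rfl <;> norm_num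
      have ha6 := mod_six_of_B hn hB9
      have key := List.all_eq_true.1 half_cong q hmem
      simp only [Bool.and_eq_true, Bool.or_eq_true, beq_iff_eq] at key
      obtain ⟨hP, hr⟩ := key
      have : 3 * 2 ^ a % q ≠ 1 ∧ 3 * 2 ^ (a - 1) % q ≠ 1 := by
        rcases hP with ((((((hP | hP) | hP) | hP) | hP) | hP) | hP) | hP <;>
          exact half_cong' (by norm_num) (by norm_num) (by norm_num) hP hr ha6
      rcases hl with ⟨-, rfl⟩ | ⟨-, rfl⟩
      · exact this.2 hm
      · exact this.1 hm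
    · have : 217 * 2 ^ a ≤ 2 ^ a * q ^ b := by nlinarith
      have : 2 ^ 11 * q ^ b ≤ 2 ^ a * q ^ b := Nat.mul_le_mul_right _ hA
      omega
  have hdvd : q ∣ m - 1 := by
    refine ⟨m / q, ?_⟩
    have := Nat.div_add_mod m q
    omega
  have hone : ∀ p : ℕ, p.Prime → m < 2 * p → q = p → b = 1 := fun p hp hlt hqp => by
    subst hqp
    by_contra hne
    exact not_sq_dvd_factorial hp hlt ((pow_dvd_pow q (by omega : 2 ≤ b)).trans hfac)
  have p5 : Nat.Prime 5 := by norm_num
  obtain ⟨t, rfl⟩ := ho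
  have : t = 1 ∨ t = 2 ∨ t = 3 ∨ t = 4 := by omega
  rcases this with rfl | rfl | rfl | rfl
  · -- `A = 8`
    exfalso
    norm_num at hn hl
    rcases hl with ⟨-, rfl⟩ | ⟨-, rfl⟩
    · have := (Nat.prime_dvd_prime_iff_eq hq (by norm_num : Nat.Prime 11)).1 (by simpa using hdvd)
      obtain rfl := hone 11 (by norm_num) (by norm_num) this
      subst this
      norm_num at hn
    · have := (Nat.prime_dvd_prime_iff_eq hq (by norm_num : Nat.Prime 23)).1 (by simpa using hdvd)
      obtain rfl := hone 23 (by norm_num) (by norm_num) this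
      subst this
      norm_num at hn
  · -- `A = 32`
    norm_num at hn hl
    rcases hl with ⟨rfl, rfl⟩ | ⟨rfl, rfl⟩
    · exfalso
      have := (Nat.prime_dvd_prime_iff_eq hq (by norm_num : Nat.Prime 47)).1 (by simpa using hdvd)
      obtain rfl := hone 47 (by norm_num) (by norm_num) this
      subst this
      norm_num at hn
    · rcases eq_or_eq_of_dvd (x := 5) (y := 19) hq p5 (by norm_num) (by simpa using hdvd) with
        rfl | rfl
      · exact ⟨rfl, rfl, rfl⟩
      · exfalso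
        rw [Nat.mul_mod, Nat.pow_mod] at hn
        norm_num at hn
  · -- `A = 128`
    exfalso
    norm_num at hn hl
    rcases hl with ⟨-, rfl⟩ | ⟨-, rfl⟩
    · have := (Nat.prime_dvd_prime_iff_eq hq (by norm_num : Nat.Prime 191)).1 (by simpa using hdvd)
      obtain rfl := hone 191 (by norm_num) (by norm_num) this
      subst this
      norm_num at hn
    · have := (Nat.prime_dvd_prime_iff_eq hq (by norm_num : Nat.Prime 383)).1 (by simpa using hdvd)
      obtain rfl := hone 383 (by norm_num) (by norm_num) this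
      subst this
      norm_num at hn
  · -- `A = 512`
    exfalso
    norm_num at hn hl hlo hle hpa
    have hkb : k * 256 ≤ 7 + 3 * 256 + k * 0 := by rcases hk with rfl | ⟨rfl, -⟩ <;> norm_num
    have hB : q ^ b ≤ 713 := by omega
    have hB9 : q ^ b % 9 = 1 := by omega
    have hdm := h.degMod_true
    have hbs : ∀ {e : ℕ}, 713 < q ^ e → b < e := fun {e} he => by
      by_contra hge
      have := Nat.pow_le_pow_right hq.pos (not_lt.1 hge)
      omega
    rcases hl with ⟨rfl, rfl⟩ | ⟨rfl, rfl⟩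
    · rcases eq_or_eq_of_dvd (x := 13) (y := 59) hq (by norm_num) (by norm_num)
        (by simpa using hdvd) with rfl | rfl
      · have := hbs (e := 3) (by norm_num)
        interval_cases b <;> simp at hB9
      · have := hbs (e := 2) (by norm_num)
        interval_cases b <;> simp at hB9
    · rcases eq_or_eq_of_dvd (x := 5) (y := 307) hq p5 (by norm_num) (by simpa using hdvd) with
        rfl | rfl
      · have := hbs (e := 5) (by norm_num)
        interval_cases b <;> simp at hB9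
      · have := hbs (e := 2) (by norm_num)
        obtain rfl : b = 1 := by omega
        refine h.false_of_srch (fun T => decide (T ≤ 9 * ((2635 : ℕ) : ℤ))) ?_ srch307
        rw [decide_eq_true_eq]
        norm_num at hle
        omega

end Cfsg.Agent.SelfNineEight
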