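import Cfsg.Agent.Lib.SelfNineEight.Maximal
import Cfsg.Agent.Lib.SelfNineEight.Bounds
import Cfsg.Agent.Lib.SelfCentThree.CharData
import Cfsg.Agent.Lib.NineTwoQ.PrimeDegree
import Cfsg.Agent.Lib.Char.PRegular
import Cfsg.Agent.Lib.Exceptional.ClassPairs

/-!
# The characters which do not vanish at the elements of order three
-/

set_option autoImplicit false
set_option linter.style.haveILetI false
set_option linter.unusedSectionVars false

namespace Cfsg.Agent.SelfNineEight

open Cfsg Cfsg.Agent Cfsg.Agent.Exceptional.SelfNine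
open scoped ComplexConjugate Classical

universe u

variable {G : Type u} [Group G] [Fintype G] {q a b : ℕ}

theorem Config.hna (hC : Config G q a b) : ∃ x y : G, x * y ≠ y * x := by
  by_contra h
  push Not at h
  exact hC.nc ⟨⟨h⟩⟩

/-- The number of pairs of elements of order three with product `y`. -/
noncomputable def pairCount (y : G) : ℕ :=
  Nat.card {u : G // orderOf u = 3 ∧ orderOf (u⁻¹ * y) = 3}

variable {z : G}

/-- The value and the multiplicity of the trivial character of the Sylow subgroup. -/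
theorem Config.value (hC : Config G q a b) (hz : orderOf z = 3) (χ : IrrCharacter G) :
    ∃ (c : ℤ) (m : ℕ), χ.1 z = c ∧ χ.1 z⁻¹ = c ∧ (Char.degree χ : ℤ) + 8 * c = 9 * m := by
  obtain ⟨S, hS, hzS⟩ := hC.syl z hz
  have hcl := Char.IsCharacter.isClassFunction (Char.irr_isCharacter χ)
  obtain ⟨m, hm⟩ := Char.IsCharacter.exists_nat_classInner
    (Char.IsCharacter.restrict (Char.irr_isCharacter χ) (S : Subgroup G))
    (Char.irr_isCharacter (Char.trivialChar (S : Subgroup G)))
  simp only [classInner, Char.trivialChar_apply, map_one, mul_one] at hm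
  have hval : ∀ s : (S : Subgroup G), s ≠ 1 → χ.1 (s : G) = χ.1 z := fun s hs => by
    refine Char.IsClassFunction.apply_of_isConj hcl (hC.conj _ _ ?_ hz)
    exact orderOf_eq_prime (hS.exp s s.2) fun e => hs (Subtype.ext e)
  rw [← Finset.add_sum_erase _ _ (Finset.mem_univ (1 : (S : Subgroup G))), OneMemClass.coe_one,
    Char.apply_one_eq_degree,
    Finset.sum_congr rfl fun s hs => hval s (Finset.mem_erase.1 hs).1, Finset.sum_const,
    Finset.card_erase_of_mem (Finset.mem_univ _), Finset.card_univ, ← Nat.card_eq_fintype_card,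
    show Nat.card (S : Subgroup G) = 9 from hS.card,
    inv_mul_eq_iff_eq_mul₀ (by norm_num)] at hm
  have h8 : ((8 : ℤ) : ℂ) * χ.1 z = ((9 * m - Char.degree χ : ℤ) : ℂ) := by
    push_cast
    rw [nsmul_eq_mul] at hm
    push_cast at hm
    linear_combination hm
  obtain ⟨c, hc⟩ := Char.exists_int_of_isIntegral_mul
    (CharInt.isIntegral_char (Char.irr_isCharacter χ) z) (by norm_num) h8
  refine ⟨c, m, hc, ?_, ?_⟩
  · rw [← hc]
    exact Char.IsClassFunction.apply_of_isConj hcl
      (hC.conj _ _ (by rw [orderOf_inv, hz]) hz)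
  · rw [hc] at h8
    have : 8 * c = 9 * (m : ℤ) - Char.degree χ := by exact_mod_cast h8
    omega

/-- The value at `z`. -/
noncomputable def cval (z : G) (χ : IrrCharacter G) : ℤ :=
  if h : ∃ c : ℤ, χ.1 z = c then h.choose else 0

theorem Config.cval_eq (hC : Config G q a b) (hz : orderOf z = 3) (χ : IrrCharacter G) :
    χ.1 z = (cval z χ : ℂ) ∧ χ.1 z⁻¹ = (cval z χ : ℂ) := by
  obtain ⟨c, m, h1, h2, -⟩ := hC.value hz χ
  have h : ∃ c : ℤ, χ.1 z = c := ⟨c, h1⟩
  have e : cval z χ = c := by
    rw [cval, dif_pos h]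
    exact_mod_cast h.choose_spec.symm.trans h1
  rw [e]
  exact ⟨h1, h2⟩

/-- The nontrivial characters not vanishing at `z`. -/
noncomputable def nonvan (z : G) : Finset (IrrCharacter G) :=
  Finset.univ.filter fun χ => χ ≠ Char.trivialChar G ∧ cval z χ ≠ 0

/-- The item of a character. -/
noncomputable def itemOf (z : G) (χ : IrrCharacter G) : ℤ × ℕ := (cval z χ, Char.degree χ)

/-- The items. -/
noncomputable def items (z : G) : Multiset (ℤ × ℕ) := (nonvan z).val.map (itemOf z)

theorem Config.cval_trivial (hC : Config G q a b) (hz : orderOf z = 3) :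
    cval z (Char.trivialChar G) = 1 := by
  have := (hC.cval_eq hz (Char.trivialChar G)).1
  rw [Char.trivialChar_apply] at this
  exact_mod_cast this.symm

/-- Sums over all characters with a factor vanishing outside the principal set. -/
theorem Config.sum_split (hC : Config G q a b) (hz : orderOf z = 3) (f : IrrCharacter G → ℂ)
    (hf : ∀ χ, cval z χ = 0 → f χ = 0) :
    ∑ χ : IrrCharacter G, f χ = f (Char.trivialChar G) + ∑ χ ∈ nonvan z, f χ := by
  rw [← Finset.add_sum_erase _ _ (Finset.mem_univ (Char.trivialChar G))]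
  congr 1
  refine (Finset.sum_subset (fun χ hχ => ?_) fun χ hχ hn => hf χ ?_).symm
  · exact Finset.mem_erase.2 ⟨(Finset.mem_filter.1 hχ).2.1, Finset.mem_univ _⟩
  · by_contra h0
    exact hn (Finset.mem_filter.2 ⟨Finset.mem_univ _, (Finset.mem_erase.1 hχ).1, h0⟩)

theorem Config.card_cent (hC : Config G q a b) (hz : orderOf z = 3) :
    Nat.card (Subgroup.centralizer ({z} : Set G)) = 9 := by
  obtain ⟨S, hS, hzS⟩ := hC.syl z hz
  rw [hS.cent z hzS (ne_one_of_three hz)]
  exact hS.card

theorem Config.n_pos (hC : Config G q a b) : 0 < 2 ^ a * q ^ b :=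
  Nat.mul_pos (by positivity) (pow_pos hC.hq.pos b)

theorem sum_items (z : G) {M : Type*} [AddCommMonoid M] (g : ℤ × ℕ → M) :
    ((items z).map g).sum = ∑ χ ∈ nonvan z, g (itemOf z χ) := by
  rw [items, Multiset.map_map]
  rfl

variable [IsSimpleGroup G]

theorem Config.item_adm (hC : Config G q a b) (hz : orderOf z = 3)
    (hsq : ∑ χ ∈ nonvan z, (cval z χ) ^ 2 = 8) {χ : IrrCharacter G} (hχ : χ ∈ nonvan z) :
    AdmItem (2 ^ a * q ^ b) (itemOf z χ) ∧
      ∃ i j, i ≤ a ∧ j ≤ b ∧ (itemOf z χ).2 = 2 ^ i * q ^ j := by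
  obtain ⟨c, m, h1, -, hm⟩ := hC.value hz χ
  have hc : cval z χ = c := by
    have := (hC.cval_eq hz χ).1
    rw [h1] at this
    exact_mod_cast this.symm
  obtain ⟨-, hne, hc0⟩ := Finset.mem_filter.1 hχ
  rw [hc] at hc0
  have hc2 : c ^ 2 ≤ 8 := by
    rw [← hsq, ← hc]
    exact Finset.single_le_sum (f := fun χ => (cval z χ) ^ 2) (fun _ _ => sq_nonneg _) hχ
  have hcc : c = 1 ∨ c = -1 ∨ c = 2 ∨ c = -2 := by
    have h3 : c ≤ 2 := by nlinarith
    have h4 : -2 ≤ c := by nlinarith
    omega
  have hdne : (Char.degree χ : ℤ) ≠ c := by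
    intro e
    refine ne_one_of_three hz (NineTwoQ.eq_one_of_norm hC.hna hne ?_)
    rw [h1, Char.apply_one_eq_degree, ← e, Int.cast_natCast]
  set d := Char.degree χ with hd
  have h1d : 1 < d := NineTwoQ.one_lt_degree hC.hna hne
  have hd3 : ¬ 3 ∣ d := fun hd3 => by omega
  have hdn : d ∣ 2 ^ a * q ^ b := by
    refine (Nat.Coprime.dvd_of_dvd_mul_left ?_ (hC.card ▸ Char.degree_dvd_natCard χ))
    rw [show (9 : ℕ) = 3 ^ 2 by norm_num]
    exact Nat.Coprime.pow_right 2 (Nat.prime_three.coprime_iff_not_dvd.2 hd3).symm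
  have hlt : d * d < 9 * (2 ^ a * q ^ b) := by
    have hsum := Char.sum_degree_sq (G := G)
    rw [hC.card] at hsum
    have hle : ∑ φ ∈ ({Char.trivialChar G, χ} : Finset _), Char.degree φ ^ 2 ≤
        ∑ φ, Char.degree φ ^ 2 := Finset.sum_le_univ_sum_of_nonneg fun φ => Nat.zero_le _
    rw [hsum, Finset.sum_pair (Ne.symm hne), ← hd] at hle
    have ht : Char.degree (Char.trivialChar G) = 1 := by
      have := Char.apply_one_eq_degree (Char.trivialChar G)
      rw [Char.trivialChar_apply] at this
      exact_mod_cast this.symm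
    rw [ht] at hle
    nlinarith
  refine ⟨⟨by rw [itemOf, hc]; exact hcc, h1d, hlt, ?_, ?_, ?_⟩, ?_⟩
  · simp only [itemOf, hc]; omega
  · simp only [itemOf, hc]; omega
  · simp only [itemOf, hc]; exact hdne
  obtain ⟨x, y, hx, hy, hxy⟩ := exists_dvd_and_dvd_of_dvd_mul hdn
  obtain ⟨i, hi, rfl⟩ := (Nat.dvd_prime_pow Nat.prime_two).1 hx
  obtain ⟨j, hj, rfl⟩ := (Nat.dvd_prime_pow hC.hq).1 hy
  exact ⟨i, j, hi, hj, hxy⟩

/-- The character identities. -/
theorem Config.items_spec (hC : Config G q a b) (hz : orderOf z = 3) :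
    Items q a b (pairCount z) (items z) := by
  have hsq : ∑ χ ∈ nonvan z, (cval z χ) ^ 2 = 8 := by
    have h := Char.sum_irr_mul_conj z z
    rw [if_pos (IsConj.refl z), hC.card_cent hz,
      Finset.sum_congr rfl (fun χ _ => show χ.1 z * conj (χ.1 z) = ((cval z χ) ^ 2 : ℤ) by
        rw [(hC.cval_eq hz χ).1, map_intCast]; push_cast; ring),
      hC.sum_split hz _ (fun χ h0 => by rw [h0]; simp), hC.cval_trivial hz] at h
    have h' : ((1 : ℤ) : ℂ) + ((∑ χ ∈ nonvan z, cval z χ ^ 2 : ℤ) : ℂ) = ((9 : ℤ) : ℂ) := by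
      push_cast at h ⊢
      linear_combination h
    have : (1 : ℤ) + ∑ χ ∈ nonvan z, cval z χ ^ 2 = 9 := by exact_mod_cast h'
    omega
  have hadm := fun χ (hχ : χ ∈ nonvan z) => hC.item_adm hz hsq hχ
  refine ⟨fun x hx => ?_, ?_, ?_, ?_⟩
  · obtain ⟨χ, hχ, rfl⟩ := Multiset.mem_map.1 hx
    exact hadm χ hχ
  · rw [sum_items]
    have h1 : ∀ χ, ((unitsOf (itemOf z χ) : ℕ) : ℤ) = cval z χ ^ 2 := fun χ => by
      rw [unitsOf, itemOf, sq]
      push_cast
      exact abs_mul_abs_self _
    have : ((∑ χ ∈ nonvan z, unitsOf (itemOf z χ) : ℕ) : ℤ) = ((8 : ℕ) : ℤ) := by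
      rw [Nat.cast_sum, Finset.sum_congr rfl fun χ _ => h1 χ, hsq]; rfl
    exact_mod_cast this
  · rw [sum_items]
    have h := Char.sum_irr_degree_mul z
    rw [if_neg (ne_one_of_three hz),
      Finset.sum_congr rfl (fun χ _ => show χ.1 1 * χ.1 z = ((cval z χ * Char.degree χ : ℤ) : ℂ) by
        rw [(hC.cval_eq hz χ).1, Char.apply_one_eq_degree]; push_cast; ring),
      hC.sum_split hz _ (fun χ h0 => by rw [h0]; simp)] at h
    have ht : ((cval z (Char.trivialChar G) * Char.degree (Char.trivialChar G) : ℤ) : ℂ) = 1 := by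
      have := Char.apply_one_eq_degree (Char.trivialChar G)
      rw [Char.trivialChar_apply] at this
      rw [hC.cval_trivial hz]
      push_cast
      rw [← this]; ring
    rw [ht] at h
    have h' : ((1 + ∑ χ ∈ nonvan z, signedDeg (itemOf z χ) : ℤ) : ℂ) = ((0 : ℤ) : ℂ) := by
      simp only [signedDeg, itemOf]
      push_cast at h ⊢
      linear_combination h
    exact_mod_cast h'
  · rw [sum_items]
    set n := 2 ^ a * q ^ b with hn
    have h := Char.card_conj_mul_conj_eq z z z
    rw [SelfCentThree.card_pairs, hC.card_cent hz] at h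
    have hset : Nat.card {t : G // IsConj z t ∧ IsConj z (t⁻¹ * z)} = pairCount z := by
      refine Nat.card_congr (Equiv.subtypeEquivRight fun t => ⟨fun ⟨h1, h2⟩ => ?_, fun ⟨h1, h2⟩ =>
        ⟨hC.conj _ _ hz h1, hC.conj _ _ hz h2⟩⟩)
      obtain ⟨g, rfl⟩ := isConj_iff.1 h1
      obtain ⟨k, hk⟩ := isConj_iff.1 h2
      exact ⟨conj_order hz g, hk ▸ conj_order hz k⟩
    rw [hset, hC.sum_split hz _ (fun χ h0 => by
      rw [(hC.cval_eq hz χ).1, h0]; simp)] at h
    rw [Char.trivialChar_apply, Char.trivialChar_apply, Char.trivialChar_apply,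
      Finset.sum_congr rfl (fun χ hχ => show χ.1 z * χ.1 z * χ.1 z⁻¹ / χ.1 1 =
          ((weightOf n (itemOf z χ) : ℤ) : ℂ) / (n : ℂ) by
        have hdn : (itemOf z χ).2 ∣ n := by
          obtain ⟨-, i, j, hi, hj, hd⟩ := hadm χ hχ
          rw [hd]
          exact Nat.mul_dvd_mul (pow_dvd_pow 2 hi) (pow_dvd_pow q hj)
        rw [(hC.cval_eq hz χ).1, (hC.cval_eq hz χ).2, Char.apply_one_eq_degree,
          div_eq_div_iff (Nat.cast_ne_zero.2 (Char.degree_pos χ).ne')
            (Nat.cast_ne_zero.2 hC.n_pos.ne')]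
        have hw : weightOf n (itemOf z χ) * (Char.degree χ : ℤ) = cval z χ ^ 3 * n := weight_mul hdn
        have hw' : ((weightOf n (itemOf z χ) : ℤ) : ℂ) * (Char.degree χ : ℂ) =
            (cval z χ : ℂ) ^ 3 * (n : ℂ) := by exact_mod_cast congrArg (fun k : ℤ => (k : ℂ)) hw
        linear_combination -hw'),
      ← Finset.sum_div, hC.card] at h
    have hn0 : (n : ℂ) ≠ 0 := Nat.cast_ne_zero.2 hC.n_pos.ne'
    have h' : ((n + ∑ χ ∈ nonvan z, weightOf n (itemOf z χ) : ℤ) : ℂ) =
        ((9 * pairCount z : ℤ) : ℂ) := by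
      push_cast at h ⊢
      have hnc : (n : ℂ) = 2 ^ a * (q : ℂ) ^ b := by rw [hn]; push_cast; ring
      rw [← hnc] at h
      field_simp at h
      linear_combination -h / 9
    exact_mod_cast h'

/-- No involution centralises a Sylow `q`-subgroup: some degree is a power of `q`. -/
theorem Config.noMix (hC : Config G q a b) (hz : orderOf z = 3) : NoMix G q := by
  haveI := Fact.mk hC.hq
  intro Q u hu hQ
  obtain ⟨x, hx, j, -, hj, -, hd, -⟩ := (hC.items_spec hz).exists_odd
  obtain ⟨χ, hχ, rfl⟩ := Multiset.mem_map.1 hx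
  obtain ⟨-, hne, -⟩ := Finset.mem_filter.1 hχ
  have hd' : Char.degree χ = q ^ j := hd
  have hu1 : u ≠ 1 := fun e => by rw [e, orderOf_one] at hu; omega
  have hle : (Q : Subgroup G) ≤ Subgroup.centralizer ({u} : Set G) := fun p hp =>
    Subgroup.mem_centralizer_singleton_iff.2 (Subgroup.mem_centralizer_iff.1 hQ p hp)
  have hco : (Subgroup.centralizer ({u} : Set G)).index.Coprime (Char.degree χ) := by
    rw [hd']
    refine Nat.Coprime.pow_right _ (Nat.Coprime.symm (hC.hq.coprime_iff_not_dvd.2 fun hdi => ?_))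
    exact Q.not_dvd_index (hdi.trans (Subgroup.index_dvd_of_le hle))
  have h0 := NineTwoQ.apply_eq_zero_of_coprime hC.hna hne hu1 hco
  have h2 := NineTwoQ.card_dvd_of_vanish χ (Subgroup.zpowers u) (fun w hw hw1 => by
    obtain ⟨k, rfl⟩ := Subgroup.mem_zpowers_iff.1 hw
    rw [← zpow_mod_orderOf, hu] at hw1 ⊢
    rcases (show k % ((2 : ℕ) : ℤ) = 0 ∨ k % ((2 : ℕ) : ℤ) = 1 by omega) with e | e
    · rw [e] at hw1; simp at hw1
    · rw [e, zpow_one]; exact h0)
  rw [Nat.card_zpowers, hu, hd'] at h2
  have := (Nat.prime_dvd_prime_iff_eq Nat.prime_two hC.hq).1 (Nat.prime_two.dvd_of_dvd_pow h2)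
  have := hC.hq5
  omega

omit [IsSimpleGroup G] in
/-- An involution inverting the centraliser of `z`. -/
theorem Config.exists_inverter (hC : Config G q a b) (hz : orderOf z = 3) {S : Sylow 3 G}
    (hS : Setup S) (hzS : z ∈ (S : Subgroup G)) :
    ∃ t : G, t * t = 1 ∧ t ≠ 1 ∧ ∀ s ∈ (S : Subgroup G), t * s * t = s⁻¹ := by
  obtain ⟨g, hg⟩ := isConj_iff.1 (hC.conj z z⁻¹ hz (by rw [orderOf_inv, hz]))
  have hz1 := ne_one_of_three hz
  have hg' : g * z⁻¹ * g⁻¹ = z := by
    rw [show g * z⁻¹ * g⁻¹ = (g * z * g⁻¹)⁻¹ by group, hg, inv_inv]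
  have hgg : g * g * z = z * (g * g) := by
    calc g * g * z = g * (g * z * g⁻¹) * g := by group
      _ = (g * z⁻¹ * g⁻¹) * (g * g) := by rw [hg]; group
      _ = z * (g * g) := by rw [hg']
  have hgS := hS.mem_of_commute hzS hz1 hgg
  set t := g * g * g with ht
  have htt : t * t = 1 := by
    calc t * t = (g * g) ^ 3 := by rw [ht, pow_three']; group
      _ = 1 := hS.exp _ hgS
  have htz : t * z * t⁻¹ = z⁻¹ := by
    calc t * z * t⁻¹ = g * (g * g * z) * (g * g)⁻¹ * g⁻¹ := by rw [ht]; group
      _ = g * z * g⁻¹ := by rw [hgg]; group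
      _ = z⁻¹ := hg
  have ht1 : t ≠ 1 := fun e => by
    rw [e, one_mul, inv_one, mul_one] at htz
    have : z * z = 1 := mul_eq_one_iff_eq_inv.2 htz
    have : orderOf z ∣ 2 := orderOf_dvd_of_pow_eq_one (by rw [sq]; exact this)
    rw [hz] at this
    norm_num at this
  have hti : t⁻¹ = t := inv_eq_of_mul_eq_one_right htt
  refine ⟨t, htt, ht1, fun s hs => ?_⟩
  have hN := hS.ctl hzS hz1 (g := t) (by rw [htz]; exact inv_mem hzS)
  have hts : t * s * t ∈ (S : Subgroup G) := by
    have := (Subgroup.mem_normalizer_iff.1 hN s).1 hs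
    rwa [hti] at this
  set w := s * (t * s * t) with hw
  have hwc : t * w = w * t := by
    calc t * w = (t * s * t) * s * t := by
          rw [hw]
          rw [show t * s * t * s * t = t * (s * (t * s * t)) by group]
      _ = s * (t * s * t) * t := by rw [hS.comm hts hs]
      _ = w * t := by rw [hw]
  by_contra hne
  have hw1 : w ≠ 1 := fun e => hne (eq_inv_of_mul_eq_one_right (hw ▸ e))
  have htS := hS.mem_of_commute (mul_mem hs hts) hw1 hwc
  refine ht1 ?_
  have := hS.cube htS
  rwa [htt, one_mul] at this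

/-- The values at an inverting involution. -/
theorem Config.involution (hC : Config G q a b) (hz : orderOf z = 3) :
    ∃ (x : IrrCharacter G → ℤ) (C : ℕ), C ∣ 2 ^ a * q ^ b ∧
      1 + ∑ χ ∈ nonvan z, cval z χ * x χ = 0 ∧
      (∀ χ, 9 * |x χ| ≤ (Char.degree χ : ℤ) + 8 * cval z χ) ∧
      (C : ℂ) * C = (2 ^ a * q ^ b : ℕ) *
        (1 + ∑ χ ∈ nonvan z, (x χ : ℂ) * x χ * cval z χ / Char.degree χ) := by
  haveI : Fact (Nat.Prime 3) := ⟨Nat.prime_three⟩
  obtain ⟨S, hS, hzS⟩ := hC.syl z hz
  obtain ⟨t, htt, ht1, hinv⟩ := hC.exists_inverter hz hS hzS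
  have hti : t⁻¹ = t := inv_eq_of_mul_eq_one_right htt
  have htS : t ∉ (S : Subgroup G) := fun h => ht1 (by
    have := hS.cube h
    rwa [htt, one_mul] at this)
  have hto : orderOf t = 2 := orderOf_eq_prime (by rw [sq, htt]) ht1
  choose x hx using fun χ : IrrCharacter G =>
    Exceptional.exists_int_apply_invol (Char.irr_isCharacter χ) htt
  have hswap : ∀ s ∈ (S : Subgroup G), t * s = s⁻¹ * t := fun s hs => by
    calc t * s = t * s * (t * t) := by rw [htt, mul_one]
      _ = (t * s * t) * t := by group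
      _ = s⁻¹ * t := by rw [hinv s hs]
  have hconj : ∀ s ∈ (S : Subgroup G), IsConj t (t * s) := fun s hs => isConj_iff.2 ⟨s, by
    have e : s⁻¹ * t = t * s := (hswap s hs).symm
    have e2 : s * t = t * s⁻¹ := by rw [hswap s⁻¹ (inv_mem hs), inv_inv]
    rw [e2, mul_assoc, ← mul_inv_rev, show s * s = s⁻¹ from
      (inv_eq_of_mul_eq_one_right (by rw [← mul_assoc]; exact hS.cube hs)).symm, inv_inv]⟩
  refine ⟨x, Nat.card (Subgroup.centralizer ({t} : Set G)), ?_, ?_, fun χ => ?_, ?_⟩
  · refine hC.dvd_n fun h3 => ?_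
    obtain ⟨⟨k, hk⟩, hko⟩ := exists_prime_orderOf_dvd_card' 3 h3
    rw [Subgroup.orderOf_mk] at hko
    have := hC.cent_cube hko (Subgroup.mem_centralizer_singleton_iff.1 hk).symm
    refine ht1 ?_
    rw [pow_three', htt, one_mul] at this
    exact this
  · have h := Char.sum_irr_mul_conj t z
    have hnc : ¬ IsConj t z := fun hh => by
      obtain ⟨g, rfl⟩ := isConj_iff.1 hh
      rw [show g * t * g⁻¹ = MulAut.conj g t from rfl, MulEquiv.orderOf_eq, hto] at hz
      omega
    rw [if_neg hnc,
      Finset.sum_congr rfl (fun χ _ => show χ.1 t * conj (χ.1 z) = ((cval z χ * x χ : ℤ) : ℂ) by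
        rw [(hC.cval_eq hz χ).1, map_intCast, hx]; push_cast; ring),
      hC.sum_split hz _ (fun χ h0 => by rw [h0]; simp)] at h
    have ht : x (Char.trivialChar G) = 1 := by
      have := hx (Char.trivialChar G)
      rw [Char.trivialChar_apply] at this
      exact_mod_cast this.symm
    rw [ht, hC.cval_trivial hz] at h
    have h' : ((1 + ∑ χ ∈ nonvan z, cval z χ * x χ : ℤ) : ℂ) = ((0 : ℤ) : ℂ) := by
      push_cast at h ⊢
      linear_combination h
    exact_mod_cast h'
  · -- restriction to `S ∪ tS`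
    let L : Subgroup G :=
      { carrier := {g | g ∈ (S : Subgroup G) ∨ t * g ∈ (S : Subgroup G)}
        one_mem' := Or.inl (one_mem _)
        mul_mem' := by
          rintro g h (hg | hg) (hh | hh)
          · exact Or.inl (mul_mem hg hh)
          · right
            rw [show t * (g * h) = (t * g * t) * (t * h) by
              rw [show t * g * t * (t * h) = t * g * (t * t) * h by group, htt]; group, hinv g hg]
            exact mul_mem (inv_mem hg) hh
          · right
            rw [← mul_assoc]; exact mul_mem hg hh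
          · left
            rw [show g * h = (t * (t * g) * t) * (t * h) by
              rw [show t * (t * g) * t * (t * h) = (t * t) * g * (t * t) * h by group, htt]; group,
              hinv _ hg]
            exact mul_mem (inv_mem hg) hh
        inv_mem' := by
          rintro g (hg | hg)
          · exact Or.inl (inv_mem hg)
          · right
            have h1 := hinv _ (inv_mem hg)
            rw [inv_inv, mul_inv_rev, hti] at h1
            rw [show t * g⁻¹ = t * (g⁻¹ * t) * t by
              rw [show t * (g⁻¹ * t) * t = t * g⁻¹ * (t * t) by group, htt, mul_one], h1]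
            exact hg }
    have hL : ∀ g : L, (g : G) ∈ (S : Subgroup G) ∨ t * g ∈ (S : Subgroup G) := fun g => g.2
    let f : (S : Subgroup G) ⊕ (S : Subgroup G) → L := fun p => match p with
      | .inl s => ⟨s, Or.inl s.2⟩
      | .inr s => ⟨t * s, Or.inr (by rw [← mul_assoc, htt, one_mul]; exact s.2)⟩
    have hnot : ∀ s ∈ (S : Subgroup G), t * s ∉ (S : Subgroup G) := fun s hs h => htS (by
      have := mul_mem h (inv_mem hs)
      rwa [mul_inv_cancel_right] at this)
    have hbij : Function.Bijective f := by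
      constructor
      · rintro (s | s) (r | r) e <;> have e' := congrArg Subtype.val e
        · exact congrArg Sum.inl (Subtype.ext e')
        · exact absurd s.2 (by rw [show (s : G) = t * r from e']; exact hnot r r.2)
        · exact absurd r.2 (by rw [show (r : G) = t * s from e'.symm]; exact hnot s s.2)
        · exact congrArg Sum.inr (Subtype.ext (mul_left_cancel (show t * (s : G) = t * r from e')))
      · rintro ⟨g, hg | hg⟩
        · exact ⟨.inl ⟨g, hg⟩, rfl⟩
        · exact ⟨.inr ⟨t * g, hg⟩, Subtype.ext (by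
            show t * (t * g) = g
            rw [← mul_assoc, htt, one_mul])⟩
    let σ : L →* ℂ :=
      { toFun := fun g => if (g : G) ∈ (S : Subgroup G) then 1 else -1
        map_one' := if_pos (one_mem _)
        map_mul' := by
          intro g h
          have key : ((g * h : L) : G) ∈ (S : Subgroup G) ↔
              ((g : G) ∈ (S : Subgroup G) ↔ (h : G) ∈ (S : Subgroup G)) := by
            rw [Subgroup.coe_mul]
            constructor
            · intro hgh
              exact ⟨fun hg => (Subgroup.mul_mem_cancel_left _ hg).1 hgh,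
                fun hh => (Subgroup.mul_mem_cancel_right _ hh).1 hgh⟩
            · intro hiff
              by_cases hg : (g : G) ∈ (S : Subgroup G)
              · exact mul_mem hg (hiff.1 hg)
              · have hh : t * (h : G) ∈ (S : Subgroup G) :=
                  (hL h).resolve_left fun hh => hg (hiff.2 hh)
                have hg' : t * (g : G) ∈ (S : Subgroup G) := (hL g).resolve_left hg
                rw [show (g : G) * h = (t * (t * g) * t) * (t * h) by
                  rw [show t * (t * (g : G)) * t * (t * h) = (t * t) * g * (t * t) * h by group, htt]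
                  group, hinv _ hg']
                exact mul_mem (inv_mem hg') hh
          by_cases hg : (g : G) ∈ (S : Subgroup G) <;> by_cases hh : (h : G) ∈ (S : Subgroup G) <;>
            simp only [key, hg, hh, iff_self, if_true, if_false, iff_false, iff_true,
              not_true_eq_false, not_false_eq_true] <;> norm_num }
    obtain ⟨c, m, hc, -, hm⟩ := hC.value hz χ
    have hcv : cval z χ = c := by
      have := (hC.cval_eq hz χ).1
      rw [hc] at this
      exact_mod_cast this.symm
    have hcl := Char.IsCharacter.isClassFunction (Char.irr_isCharacter χ)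
    have hsumS : ∑ s : (S : Subgroup G), χ.1 (s : G) = (Char.degree χ : ℂ) + 8 * c := by
      rw [← Finset.add_sum_erase _ _ (Finset.mem_univ (1 : (S : Subgroup G))), OneMemClass.coe_one,
        Char.apply_one_eq_degree, Finset.sum_congr rfl fun (s : (S : Subgroup G)) hs => show χ.1 (s : G) = c by
          rw [← hc]
          exact Char.IsClassFunction.apply_of_isConj hcl (hC.conj _ _
            (orderOf_eq_prime (hS.exp s s.2) fun e => (Finset.mem_erase.1 hs).1 (Subtype.ext e)) hz),
        Finset.sum_const, Finset.card_erase_of_mem (Finset.mem_univ _), Finset.card_univ,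
        ← Nat.card_eq_fintype_card, show Nat.card (S : Subgroup G) = 9 from hS.card, nsmul_eq_mul]
      norm_num
    have hsumT : ∑ s : (S : Subgroup G), χ.1 (t * (s : G)) = 9 * (x χ : ℂ) := by
      rw [Finset.sum_congr rfl fun (s : (S : Subgroup G)) _ => show χ.1 (t * (s : G)) = x χ by
        rw [← hx]
        exact (Char.IsClassFunction.apply_of_isConj hcl (hconj s s.2)).symm,
        Finset.sum_const, Finset.card_univ, ← Nat.card_eq_fintype_card,
        show Nat.card (S : Subgroup G) = 9 from hS.card, nsmul_eq_mul]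
      norm_num
    have hcardL : Nat.card L = 18 := by
      rw [← Nat.card_congr (Equiv.ofBijective f hbij), Nat.card_sum,
        show Nat.card (S : Subgroup G) = 9 from hS.card]
    have hmult : ∀ ε : ℤ, ∀ θ : L →* ℂ, (∀ s : (S : Subgroup G), θ (f (.inl s)) = 1 ∧
        θ (f (.inr s)) = ε) →
        ∃ k : ℕ, (Char.degree χ : ℤ) + 8 * c + 9 * (ε * x χ) = 18 * k := by
      intro ε θ hθ
      obtain ⟨k, hk⟩ := Char.IsCharacter.exists_nat_classInner
        (Char.IsCharacter.restrict (Char.irr_isCharacter χ) L)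
        (Char.IsIrrCharacter.isCharacter (Char.isIrrCharacter_of_monoidHom θ))
      simp only [classInner] at hk
      rw [hcardL, ← Fintype.sum_bijective f hbij _ _ (fun _ => rfl), Fintype.sum_sum_type,
        inv_mul_eq_iff_eq_mul₀ (by norm_num)] at hk
      have e1 : ∀ s : (S : Subgroup G),
          χ.1 ((f (.inl s) : L) : G) * conj (θ (f (.inl s))) = χ.1 (s : G) := fun s => by
        rw [(hθ s).1, map_one, mul_one]
      have e2 : ∀ s : (S : Subgroup G),
          χ.1 ((f (.inr s) : L) : G) * conj (θ (f (.inr s))) = (ε : ℂ) * χ.1 (t * (s : G)) :=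
        fun s => by rw [(hθ s).2, map_intCast, mul_comm]
      rw [Finset.sum_congr rfl fun s _ => e1 s, Finset.sum_congr rfl fun s _ => e2 s,
        ← Finset.mul_sum, hsumS, hsumT] at hk
      refine ⟨k, ?_⟩
      have : (((Char.degree χ : ℤ) + 8 * c + 9 * (ε * x χ) : ℤ) : ℂ) = ((18 * k : ℤ) : ℂ) := by
        push_cast at hk ⊢
        linear_combination hk
      exact_mod_cast this
    obtain ⟨k1, hk1⟩ := hmult 1 1 (fun s => ⟨rfl, by simp⟩)
    obtain ⟨k2, hk2⟩ := hmult (-1) σ (fun s => ⟨if_pos s.2, by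
      push_cast; exact if_neg (hnot s s.2)⟩)
    rw [hcv]
    rcases abs_cases (x χ) with ⟨e, -⟩ | ⟨e, -⟩ <;> rw [e] <;> omega
  · have h := Char.card_conj_mul_conj_eq t t z
    rw [SelfCentThree.card_pairs] at h
    have hset : Nat.card {u : G // IsConj t u ∧ IsConj t (u⁻¹ * z)} = 9 := by
      rw [← (show Nat.card (S : Subgroup G) = 9 from hS.card)]
      refine Nat.card_congr
        { toFun := fun u => ⟨t * u.1, hS.mem_of_commute hzS (ne_one_of_three hz) ?_⟩
          invFun := fun s => ⟨t * s.1, hconj s s.2, by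
            rw [mul_inv_rev, hti, ← hswap _ s.2, mul_assoc]
            exact hconj _ (mul_mem s.2 hzS)⟩
          left_inv := fun u => Subtype.ext (by
            show t * (t * u.1) = u.1
            rw [← mul_assoc, htt, one_mul])
          right_inv := fun s => Subtype.ext (by
            show t * (t * s.1) = s.1
            rw [← mul_assoc, htt, one_mul]) }
      obtain ⟨u, h1, h2⟩ := u
      have sq1 : ∀ {w : G}, IsConj t w → w * w = 1 := fun {w} hw => by
        obtain ⟨g, rfl⟩ := isConj_iff.1 hw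
        rw [show g * t * g⁻¹ * (g * t * g⁻¹) = g * (t * t) * g⁻¹ by group, htt]; group
      have hu := sq1 h1
      have hui : u⁻¹ = u := inv_eq_of_mul_eq_one_right hu
      have h2' := sq1 h2
      rw [hui] at h2'
      show t * u * z = z * (t * u)
      have e1 : u * z = z⁻¹ * u := by
        calc u * z = (u * z) * (u * z) * (z⁻¹ * u⁻¹) := by group
          _ = z⁻¹ * u := by rw [h2', one_mul, hui]
      calc t * u * z = t * (u * z) := mul_assoc _ _ _
        _ = (t * z⁻¹) * u := by rw [e1, mul_assoc]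
        _ = z * (t * u) := by rw [hswap _ (inv_mem hzS), inv_inv, mul_assoc]
    rw [hset, hC.card, hC.sum_split hz _ (fun χ h0 => by
        rw [(hC.cval_eq hz χ).2, h0]; simp),
      Char.trivialChar_apply, Char.trivialChar_apply, Char.trivialChar_apply,
      Finset.sum_congr rfl (fun χ _ => show χ.1 t * χ.1 t * χ.1 z⁻¹ / χ.1 1 =
          (x χ : ℂ) * x χ * cval z χ / Char.degree χ by
        rw [(hC.cval_eq hz χ).2, hx, Char.apply_one_eq_degree])] at h
    push_cast at h ⊢
    linear_combination h / 9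

end Cfsg.Agent.SelfNineEight
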