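import Cfsg.Agent.Lib.SelfNineEight.Orbits
import Cfsg.Agent.Lib.SelfNineEight.Cases

/-!
# Counting the elements of the good subgroups
-/

set_option autoImplicit false
set_option linter.style.haveILetI false
set_option linter.unusedSectionVars false

namespace Cfsg.Agent.SelfNineEight

open Cfsg Cfsg.Agent
open scoped Classical

universe u

variable {G : Type u} [Group G] [Fintype G] {q a b : ℕ}

/-- The maximal good subgroups. -/
noncomputable def maxis (z : G) : Finset (Subgroup G) := Finset.univ.filter (Maxi z)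

/-- Those of order divisible by `q`. -/
noncomputable def qKind (q : ℕ) (z : G) : Finset (Subgroup G) :=
  (maxis z).filter fun W => q ∣ Nat.card W

/-- The four-groups. -/
noncomputable def fourKind (z : G) : Finset (Subgroup G) :=
  (maxis z).filter fun W => Nat.card W = 4

/-- The large 2-groups. -/
noncomputable def bigKind (q : ℕ) (z : G) : Finset (Subgroup G) :=
  (maxis z).filter fun W => ¬ q ∣ Nat.card W ∧ Nat.card W ≠ 4

/-- The nonidentity elements of a subgroup. -/
noncomputable def sharp (W : Subgroup G) : Finset G := Finset.univ.filter fun d => d ≠ 1 ∧ d ∈ W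

theorem mem_sharp {W : Subgroup G} {d : G} : d ∈ sharp W ↔ d ≠ 1 ∧ d ∈ W := by simp [sharp]

theorem mem_maxis {z : G} {W : Subgroup G} : W ∈ maxis z ↔ Maxi z W := by simp [maxis]

theorem card_sharp (W : Subgroup G) : (sharp W).card = Nat.card W - 1 := by
  have h : sharp W = ((Finset.univ : Finset G).filter fun d => d ∈ W).erase 1 := by
    ext d
    simp [mem_sharp, Finset.mem_erase]
  rw [h, Finset.card_erase_of_mem (by simp [one_mem]), ← Fintype.card_subtype,
    ← Nat.card_eq_fintype_card]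

theorem sharp_disjoint {U V : Subgroup G} (h : U ⊓ V = ⊥) : Disjoint (sharp U) (sharp V) := by
  rw [Finset.disjoint_left]
  intro d hU hV
  rw [mem_sharp] at hU hV
  exact hU.1 (Subgroup.mem_bot.1 (h ▸ ⟨hU.2, hV.2⟩))

theorem omegaSet_eq (z : G) : omegaSet z = (maxis z).biUnion sharp := by
  ext d
  rw [mem_omegaSet, Finset.mem_biUnion]
  constructor
  · rintro ⟨hd, D, hD, hdD⟩
    obtain ⟨W, hW, hle⟩ := hD.exists_maxi fun e => hd (Subgroup.mem_bot.1 (e ▸ hdD))
    exact ⟨W, mem_maxis.2 hW, mem_sharp.2 ⟨hd, hle hdD⟩⟩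
  · rintro ⟨W, hW, hd⟩
    exact ⟨(mem_sharp.1 hd).1, W, (mem_maxis.1 hW).good, (mem_sharp.1 hd).2⟩

theorem normalizerCond_inter {W D : Subgroup G} [Group.IsNilpotent W] (hle : D ≤ W) (hne : D ≠ W) :
    D < W ⊓ Subgroup.normalizer (D : Set G) := by
  have hlt : D.subgroupOf W < ⊤ := lt_top_iff_ne_top.2 fun e => hne
    (le_antisymm hle (Subgroup.subgroupOf_eq_top.1 e))
  obtain ⟨g, hg, hgn⟩ := Set.exists_of_ssubset (Group.normalizerCondition_of_isNilpotent _ hlt)
  refine lt_of_le_of_ne (le_inf hle Subgroup.le_normalizer) fun e => hgn ?_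
  show (g : G) ∈ D
  rw [e]
  refine ⟨g.2, mem_normalizer_of_conj fun d hd => ?_⟩
  exact (Subgroup.mem_normalizer_iff.1 hg ⟨d, hle hd⟩).1 hd

theorem exists_ne_one_of_ne_bot {D : Subgroup G} (h : D ≠ ⊥) : ∃ d ∈ D, d ≠ 1 := by
  by_contra hall
  push Not at hall
  exact h ((Subgroup.eq_bot_iff_forall D).2 hall)

variable [IsSimpleGroup G]

/-- A good subgroup lies in only one maximal good subgroup when all good subgroups above it
have cores. -/
theorem unique_maxi (hC : Config G q a b) {z : G} (hz : orderOf z = 3) : ∀ (n : ℕ) (D : Subgroup G),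
    Nat.card G ≤ n + Nat.card D → Good z D → D ≠ ⊥ →
    (∀ V, Good z V → D ≤ V → ∃ O, Core z V O) →
    ∀ U V : Subgroup G, Maxi z U → Maxi z V → D ≤ U → D ≤ V → U = V
  | n, D, hn, hD, hDne, hsmall, U, V, hU, hV, hDU, hDV => by
    obtain ⟨O, hO⟩ := hsmall D hD le_rfl
    have step : ∀ W : Subgroup G, Maxi z W → D ≤ W → D ≠ W → D < W ⊓ O ∧ Good z (W ⊓ O) := by
      intro W hW hDW hne
      haveI := hW.good.isNilpotent hC hz
      have hgood : Good z (W ⊓ Subgroup.normalizer (D : Set G)) :=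
        ⟨fun d hd => Subgroup.mem_inf.2 ⟨hW.good.inv d (Subgroup.mem_inf.1 hd).1,
          (Subgroup.normalizer (D : Set G)).mul_mem ((Subgroup.normalizer (D : Set G)).mul_mem
            hD.mem_normalizer (Subgroup.mem_inf.1 hd).2)
            ((Subgroup.normalizer (D : Set G)).inv_mem hD.mem_normalizer)⟩,
          fun h3 => hW.good.p' (h3.trans (Subgroup.card_dvd_of_le inf_le_left))⟩
      refine ⟨lt_of_lt_of_le (normalizerCond_inter hDW hne)
        (le_inf inf_le_left (hO.largest _ hgood inf_le_right)),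
        ⟨fun d hd => ⟨hW.good.inv d hd.1, hO.good.inv d hd.2⟩,
          fun h3 => hW.good.p' (h3.trans (Subgroup.card_dvd_of_le inf_le_left))⟩⟩
    rcases eq_or_ne O D with e | e
    · have : ∀ W : Subgroup G, Maxi z W → D ≤ W → D = W := fun W hW hDW => by
        by_contra hne
        have := (step W hW hDW hne).1
        rw [e] at this
        exact absurd (this.trans_le inf_le_right) (lt_irrefl _)
      rw [← this U hU hDU, ← this V hV hDV]
    obtain ⟨W0, hW0, hOW0⟩ := hO.good.exists_maxi fun e' => hDne (le_bot_iff.1 (e' ▸ hO.le))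
    have all : ∀ W : Subgroup G, Maxi z W → D ≤ W → W = W0 := by
      intro W hW hDW
      have hne : D ≠ W := fun e' => e ((hW.max O hO.good (e' ▸ hO.le)).trans e'.symm)
      obtain ⟨hlt, hg⟩ := step W hW hDW hne
      have hlt' : Nat.card D < Nat.card (W ⊓ O : Subgroup G) := by
        by_contra hge
        exact hlt.ne (Subgroup.eq_of_le_of_card_ge hlt.le (not_lt.1 hge))
      have hcG : Nat.card (W ⊓ O : Subgroup G) ≤ Nat.card G :=
        Nat.le_of_dvd Nat.card_pos (Subgroup.card_subgroup_dvd_card _)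
      match n, hn with
      | 0, hn => omega
      | m + 1, hn =>
        exact unique_maxi hC hz m (W ⊓ O) (by omega) hg
          (fun e' => hDne (le_bot_iff.1 (e' ▸ hlt.le))) (fun X hX hle => hsmall X hX (hlt.le.trans hle))
          W W0 hW hW0 inf_le_left (inf_le_right.trans hOW0)
    rw [all U hU hDU, all V hV hDV]
  termination_by n => n

variable {z : G}

theorem qKind_card (hC : Config G q a b) (hz : orderOf z = 3) {W : Subgroup G} (hW : W ∈ qKind q z) :
    Maxi z W ∧ Nat.card W = q ^ b := by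
  obtain ⟨h1, h2⟩ := Finset.mem_filter.1 hW
  exact ⟨mem_maxis.1 h1, (mem_maxis.1 h1).q_case hC hz (hC.noMix hz) h2⟩

theorem fourKind_norm (hC : Config G q a b) (hz : orderOf z = 3) (ha : 3 ≤ a) {W : Subgroup G}
    (hW : W ∈ fourKind z) :
    Maxi z W ∧ Nat.card W = 4 ∧ Nat.card (Subgroup.normalizer (W : Set G)) = 24 := by
  obtain ⟨h1, h2⟩ := Finset.mem_filter.1 hW
  refine ⟨mem_maxis.1 h1, h2, ?_⟩
  rcases (mem_maxis.1 h1).cases hC hz (hC.noMix hz) with h | ⟨h, -⟩ | ⟨-, h⟩ | ⟨-, h, -⟩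
  · exfalso
    rw [h2] at h
    rcases Nat.eq_zero_or_pos b with rfl | hb
    · norm_num at h
    · have : q ∣ 2 ^ 2 := by
        rw [show (2 : ℕ) ^ 2 = 4 by norm_num, h]
        exact dvd_pow_self q hb.ne'
      have := (Nat.prime_dvd_prime_iff_eq hC.hq Nat.prime_two).1 (hC.hq.dvd_of_dvd_pow this)
      have := hC.hq5
      omega
  · have : 2 ^ 3 ≤ 2 ^ a := Nat.pow_le_pow_right (by norm_num) ha
    omega
  · exact h
  · omega

theorem bigKind_cases (hC : Config G q a b) (hz : orderOf z = 3) {W : Subgroup G}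
    (hW : W ∈ bigKind q z) :
    Maxi z W ∧ ((Nat.card W = 2 ^ a ∧ Nat.card (Subgroup.normalizer (W : Set G)) = 3 * Nat.card W) ∨
      (2 * Nat.card W = 2 ^ a ∧ 16 ≤ Nat.card W ∧
        Nat.card (Subgroup.normalizer (W : Set G)) = 6 * Nat.card W)) := by
  obtain ⟨h1, h2, h3⟩ := Finset.mem_filter.1 hW
  refine ⟨mem_maxis.1 h1, ?_⟩
  rcases (mem_maxis.1 h1).cases hC hz (hC.noMix hz) with h | h | ⟨h, -⟩ | h
  · exfalso
    rcases Nat.eq_zero_or_pos b with rfl | hb
    · exact (mem_maxis.1 h1).ne_bot (Subgroup.card_eq_one.1 (by simpa using h))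
    · exact h2 (h ▸ dvd_pow_self q hb.ne')
  · exact Or.inl h
  · exact absurd h h3
  · exact Or.inr h

theorem disjoint_maxi (hC : Config G q a b) (hz : orderOf z = 3) {U V : Subgroup G}
    (hU : U ∈ maxis z) (hV : V ∈ maxis z) (hne : U ≠ V)
    (hok : q ≠ 5 ∨ q ∣ Nat.card U ∨ Nat.card U = 4) : U ⊓ V = ⊥ := by
  have hU' := mem_maxis.1 hU
  have hV' := mem_maxis.1 hV
  by_contra hD
  set D := U ⊓ V with hDdef
  have hgood : Good z D := ⟨fun d hd => ⟨hU'.good.inv d hd.1, hV'.good.inv d hd.2⟩,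
    fun h3 => hU'.good.p' (h3.trans (Subgroup.card_dvd_of_le inf_le_left))⟩
  have hprop : D ≠ U := fun e => hne (hU'.max V hV'.good (e.symm.le.trans inf_le_right)).symm
  have h5 : q = 5 → q ∣ Nat.card D := by
    intro h5
    rcases hok with h | h | h
    · exact absurd h5 h
    · have hUc := hU'.q_case hC hz (hC.noMix hz) h
      obtain ⟨i, -, hi⟩ := (Nat.dvd_prime_pow hC.hq).1
        ((Subgroup.card_dvd_of_le (inf_le_left : U ⊓ V ≤ U)).trans hUc.dvd)
      rcases Nat.eq_zero_or_pos i with rfl | hi0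
      · exact absurd (Subgroup.card_eq_one.1 (hi.trans (pow_zero q))) hD
      · rw [hDdef, hi]; exact dvd_pow_self q hi0.ne'
    · exfalso
      have hd : Nat.card D ∣ 4 := h ▸ Subgroup.card_dvd_of_le inf_le_left
      have h3 := hgood.card_mod_three hC hz
      have hle : Nat.card D ≤ 4 := Nat.le_of_dvd (by norm_num) hd
      have h1 : Nat.card D ≠ 1 := fun e => hD (Subgroup.card_eq_one.1 e)
      have h4 : Nat.card D ≠ 4 := fun e =>
        hprop (Subgroup.eq_of_le_of_card_ge inf_le_left (by rw [h, e]))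
      omega
  refine hne (unique_maxi hC hz (Nat.card G) D (Nat.le_add_right _ _) hgood hD
    (fun X hX hle => hX.exists_core hC hz (fun e => hD (le_bot_iff.1 (e ▸ hle))) ?_)
    U V hU' hV' inf_le_left inf_le_right)
  rcases eq_or_ne q 5 with e | e
  · exact Or.inr ((h5 e).trans (Subgroup.card_dvd_of_le hle))
  · exact Or.inl e

theorem conjugate_of_sylow {p : ℕ} [Fact p.Prime] {U V : Subgroup G}
    (hU : Nat.card U = p ^ (Nat.card G).factorization p)
    (hV : Nat.card V = p ^ (Nat.card G).factorization p) : V ∈ conjugates U := by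
  obtain ⟨g, hg⟩ := MulAction.exists_smul_eq G (Sylow.ofCard U hU) (Sylow.ofCard V hV)
  refine mem_conjugates.2 ⟨g, ?_⟩
  have := congrArg (fun P : Sylow p G => (P : Subgroup G)) hg
  simp only [Sylow.coe_subgroup_smul, Sylow.coe_ofCard] at this
  exact this

theorem big_conjugate (hC : Config G q a b) (hz : orderOf z = 3) {U V : Subgroup G}
    (hU : U ∈ bigKind q z) (hV : V ∈ bigKind q z) : V ∈ conjugates U := by
  haveI := Fact.mk Nat.prime_two
  obtain ⟨hU', hUk⟩ := bigKind_cases hC hz hU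
  obtain ⟨hV', hVk⟩ := bigKind_cases hC hz hV
  have hU3 := hU'.good.card_mod_three hC hz
  have hV3 := hV'.good.card_mod_three hC hz
  rcases hUk with ⟨hUc, hUN⟩ | ⟨hUc, hU16, hUN⟩ <;> rcases hVk with ⟨hVc, hVN⟩ | ⟨hVc, hV16, hVN⟩
  · exact conjugate_of_sylow (p := 2) (by rw [hC.factorization_card.1, hUc])
      (by rw [hC.factorization_card.1, hVc])
  · omega
  · omega
  obtain ⟨i, -, hi⟩ := hU'.two_group hC (Finset.mem_filter.1 hU).2.1
  obtain ⟨j, -, hj⟩ := hV'.two_group hC (Finset.mem_filter.1 hV).2.1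
  obtain ⟨T, hUT, hTc⟩ := exists_sylow_two hC (IsPGroup.of_card hi)
  obtain ⟨T', hVT, hT'c⟩ := exists_sylow_two hC (IsPGroup.of_card hj)
  obtain ⟨g, hg⟩ := MulAction.exists_smul_eq G T' T
  set M := V.map (MulAut.conj g).toMonoidHom with hM
  have hMT : M ≤ (T : Subgroup G) := by
    rw [← hg, Sylow.coe_subgroup_smul]
    rintro - ⟨v, hv, rfl⟩
    exact ⟨v, hVT hv, rfl⟩
  obtain ⟨hMc, hMN⟩ := card_normalizer_conjugate (mem_conjugates.2 ⟨g, rfl⟩ : M ∈ conjugates V)
  have heq : U = M := hU'.eq_of_index_two hC hz hUN (IsPGroup.of_card hi) (conj_order hz g)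
    (hV'.map_conj g) (by rw [hMN, hVN, hMc]) ((IsPGroup.of_card hj).map _) hUT hMT
    (by rw [hTc, hUc]) (by rw [hTc, hMc, hVc]) (by omega)
  refine mem_conjugates.2 ⟨g⁻¹, ?_⟩
  rw [heq, hM, map_conj_map, inv_mul_cancel, map_conj_one]

/-- A kind that is one conjugacy class is the set of its members normalised by `z`. -/
theorem kind_eq (hC : Config G q a b) (hz : orderOf z = 3) {W : Subgroup G} (hW : Maxi z W)
    (S : Finset (Subgroup G)) (P : ℕ → Prop) [DecidablePred P]
    (hS : S = (maxis z).filter fun V : Subgroup G => P (Nat.card V)) (hPW : P (Nat.card W))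
    (hconj : ∀ V ∈ S, V ∈ conjugates W) : S = normalizedBy W z := by
  ext V
  constructor
  · intro hV
    refine Finset.mem_filter.2 ⟨hconj V hV, ?_⟩
    rw [hS] at hV
    exact (mem_maxis.1 (Finset.mem_filter.1 hV).1).good.mem_normalizer
  · intro hV
    rw [hS]
    refine Finset.mem_filter.2 ⟨mem_maxis.2 (hW.mem_normalizedBy hC hz hz hV), ?_⟩
    rwa [(card_normalizer_conjugate (Finset.mem_filter.1 hV).1).1]

theorem sum_const_kind {S : Finset (Subgroup G)} {w : ℕ} (h : ∀ V ∈ S, Nat.card V = w) :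
    ∑ V ∈ S, (Nat.card V - 1) = S.card * (w - 1) := by
  rw [Finset.sum_congr rfl fun V hV => by rw [h V hV], Finset.sum_const, smul_eq_mul]

/-- At most three classes of self-centralising four-groups. -/
theorem four_bound (hC : Config G q a b) (hz : orderOf z = 3) (ha : 3 ≤ a) :
    ∃ c ≤ 3, (fourKind z).card = 3 * c := by
  haveI := Fact.mk Nat.prime_two
  set C := (fourKind z).image conjugates with hCl
  have hfib : ∀ cl ∈ C, ((fourKind z).filter fun W => conjugates W = cl).card = 3 := by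
    intro cl hcl
    obtain ⟨W, hW, rfl⟩ := Finset.mem_image.1 hcl
    obtain ⟨hWm, hW4, hWN⟩ := fourKind_norm hC hz ha hW
    have hk := hWm.card_normalizedBy hC hz hz
    rw [hWN, hW4] at hk
    have heq : (fourKind z).filter (fun V => conjugates V = conjugates W) = normalizedBy W z := by
      ext V
      constructor
      · intro hV
        obtain ⟨h1, h2⟩ := Finset.mem_filter.1 hV
        exact Finset.mem_filter.2 ⟨h2 ▸ self_mem_conjugates V,
          (mem_maxis.1 (Finset.mem_filter.1 h1).1).good.mem_normalizer⟩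
      · intro hV
        have hV1 := (Finset.mem_filter.1 hV).1
        refine Finset.mem_filter.2 ⟨Finset.mem_filter.2
          ⟨mem_maxis.2 (hWm.mem_normalizedBy hC hz hz hV), by
            rw [(card_normalizer_conjugate hV1).1, hW4]⟩, ?_⟩
        obtain ⟨g, rfl⟩ := mem_conjugates.1 hV1
        ext X
        simp only [mem_conjugates, map_conj_map]
        exact ⟨fun ⟨h, e⟩ => ⟨h * g, e⟩, fun ⟨h, e⟩ => ⟨h * g⁻¹, by rwa [inv_mul_cancel_right]⟩⟩
    rw [heq]
    omega
  have hcard : (fourKind z).card = 3 * C.card := by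
    rw [Finset.card_eq_sum_card_image conjugates (fourKind z), Finset.sum_congr rfl hfib,
      Finset.sum_const, smul_eq_mul, mul_comm]
  refine ⟨C.card, ?_, hcard⟩
  by_contra hgt
  obtain ⟨T, -, hTc⟩ := exists_sylow_two hC (P := (⊥ : Subgroup G)) IsPGroup.of_bot
  have h8 : 8 ≤ Nat.card (T : Subgroup G) :=
    hTc ▸ le_trans (by norm_num) (Nat.pow_le_pow_right (by norm_num : 1 ≤ 2) ha)
  haveI : Nontrivial (T : Subgroup G) := by
    rw [← Finite.one_lt_card_iff_nontrivial]; omega
  haveI := IsPGroup.center_nontrivial T.isPGroup'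
  obtain ⟨⟨⟨i0, hi0T⟩, hi0c⟩, hi0⟩ := exists_ne (1 : Subgroup.center (T : Subgroup G))
  have hi01 : i0 ≠ 1 := fun e => hi0 (Subtype.ext (Subtype.ext e))
  set 𝒱 := (Finset.univ : Finset (Subgroup G)).filter
    (fun V => V ≤ (T : Subgroup G) ∧ Nat.card V = 4 ∧ i0 ∈ V) with h𝒱
  -- each class meets `𝒱` in at least `|T| / 8` members
  have hmeet : ∀ cl ∈ C,
      Nat.card (T : Subgroup G) ≤ 8 * (𝒱.filter fun V => V ∈ cl).card := by
    intro cl hcl
    obtain ⟨W, hW, rfl⟩ := Finset.mem_image.1 hcl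
    obtain ⟨hWm, hW4, hWN⟩ := fourKind_norm hC hz ha hW
    obtain ⟨T', hWT, -⟩ := exists_sylow_two hC (IsPGroup.of_card (n := 2) (by rw [hW4]; norm_num) :
      IsPGroup 2 W)
    obtain ⟨g, hg⟩ := MulAction.exists_smul_eq G T' T
    set V := W.map (MulAut.conj g).toMonoidHom with hV
    have hVcl : V ∈ conjugates W := mem_conjugates.2 ⟨g, rfl⟩
    obtain ⟨hVc, hVN⟩ := card_normalizer_conjugate hVcl
    have hVT : V ≤ (T : Subgroup G) := by
      rw [← hg, Sylow.coe_subgroup_smul]
      rintro - ⟨v, hv, rfl⟩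
      exact ⟨v, hWT hv, rfl⟩
    have hVcent := (hWm.map_conj g).centralizer_le hC (conj_order hz g)
    -- the `T`-conjugates of `V`
    set N := Subgroup.normalizer (V : Set G) ⊓ (T : Subgroup G) with hN
    have hN8 : Nat.card N ≤ 8 := by
      obtain ⟨e, he⟩ := IsPGroup.iff_card.1 (T.isPGroup'.to_le (inf_le_right : N ≤ (T : Subgroup G)))
      have hd : 2 ^ e ∣ 3 * 8 := by
        rw [← he, show (3 * 8 : ℕ) = 24 by norm_num, ← hWN, ← hVN]
        exact Subgroup.card_dvd_of_le inf_le_left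
      rw [he]
      exact Nat.le_of_dvd (by norm_num) (mul_pow_two_dvd hd)
    let f : (T : Subgroup G) ⧸ N.subgroupOf (T : Subgroup G) → (𝒱.filter fun X => X ∈ conjugates W) :=
      Quotient.lift (fun t : (T : Subgroup G) => ⟨V.map (MulAut.conj (t : G)).toMonoidHom, by
        refine Finset.mem_filter.2 ⟨Finset.mem_filter.2 ⟨Finset.mem_univ _, ?_, ?_, ?_⟩,
          mem_conjugates.2 ⟨t * g, (map_conj_map g t W).symm⟩⟩
        · rintro - ⟨v, hv, rfl⟩
          exact mul_mem (mul_mem t.2 (hVT hv)) (inv_mem t.2)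
        · rw [Subgroup.card_map_of_injective (MulAut.conj (t : G)).injective, hVc, hW4]
        · have hi0V : i0 ∈ V := hVcent (Subgroup.mem_centralizer_iff.2 fun v hv =>
            congrArg Subtype.val (Subgroup.mem_center_iff.1 hi0c ⟨v, hVT hv⟩))
          refine ⟨i0, hi0V, ?_⟩
          show (t : G) * i0 * (t : G)⁻¹ = i0
          rw [show (t : G) * i0 = i0 * t from congrArg Subtype.val (Subgroup.mem_center_iff.1 hi0c t),
            mul_inv_cancel_right]⟩)
        fun s t hst => Subtype.ext (by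
          have h1 : s⁻¹ * t ∈ N.subgroupOf (T : Subgroup G) := QuotientGroup.leftRel_apply.1 hst
          have h2 := map_conj_eq_self.2 (Subgroup.mem_subgroupOf.1 h1).1
          show V.map (MulAut.conj (s : G)).toMonoidHom = V.map (MulAut.conj (t : G)).toMonoidHom
          conv_lhs => rw [← h2]
          rw [map_conj_map, Subgroup.coe_mul, Subgroup.coe_inv, mul_inv_cancel_left])
    have hf : Function.Injective f := by
      intro x y
      induction x using QuotientGroup.induction_on with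
      | H s =>
        induction y using QuotientGroup.induction_on with
        | H t =>
          intro e
          have e' : V.map (MulAut.conj (s : G)).toMonoidHom = V.map (MulAut.conj (t : G)).toMonoidHom :=
            congrArg Subtype.val e
          refine QuotientGroup.eq.2 (Subgroup.mem_subgroupOf.2 ⟨map_conj_eq_self.1 ?_, (s⁻¹ * t).2⟩)
          rw [Subgroup.coe_mul, Subgroup.coe_inv, ← map_conj_map, ← e', map_conj_map,
            inv_mul_cancel]
          exact map_conj_one V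
    have hle := Nat.card_le_card_of_injective f hf
    rw [Nat.card_eq_finsetCard] at hle
    have hm := Subgroup.card_eq_card_quotient_mul_card_subgroup (N.subgroupOf (T : Subgroup G))
    rw [card_subgroupOf (inf_le_right : N ≤ (T : Subgroup G))] at hm
    rw [hm]
    calc Nat.card ((T : Subgroup G) ⧸ N.subgroupOf (T : Subgroup G)) * Nat.card N
        ≤ (𝒱.filter fun X => X ∈ conjugates W).card * 8 := Nat.mul_le_mul hle hN8
      _ = _ := mul_comm _ _
  have hsum : ∑ cl ∈ C, (𝒱.filter fun V => V ∈ cl).card ≤ 𝒱.card := by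
    rw [← Finset.card_biUnion]
    · exact Finset.card_le_card fun V hV => by
        obtain ⟨cl, -, h⟩ := Finset.mem_biUnion.1 hV
        exact (Finset.mem_filter.1 h).1
    intro c1 h1 c2 h2 hne
    obtain ⟨W1, -, rfl⟩ := Finset.mem_image.1 (Finset.mem_coe.1 h1)
    obtain ⟨W2, -, rfl⟩ := Finset.mem_image.1 (Finset.mem_coe.1 h2)
    rw [Function.onFun, Finset.disjoint_left]
    intro V hV1 hV2
    obtain ⟨g1, e1⟩ := mem_conjugates.1 (Finset.mem_filter.1 hV1).2
    obtain ⟨g2, e2⟩ := mem_conjugates.1 (Finset.mem_filter.1 hV2).2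
    refine hne ?_
    ext X
    have aux : ∀ (A B : Subgroup G) (g h : G), A.map (MulAut.conj g).toMonoidHom =
        B.map (MulAut.conj h).toMonoidHom → X ∈ conjugates A → X ∈ conjugates B := by
      intro A B g h e hX
      obtain ⟨k, rfl⟩ := mem_conjugates.1 hX
      refine mem_conjugates.2 ⟨k * g⁻¹ * h, ?_⟩
      rw [← map_conj_map h (k * g⁻¹), ← e, map_conj_map, inv_mul_cancel_right]
    exact ⟨aux W1 W2 g1 g2 (e1.trans e2.symm), aux W2 W1 g2 g1 (e2.trans e1.symm)⟩
  -- two further elements in each member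
  have hpair : 2 * 𝒱.card + 2 ≤ Nat.card (T : Subgroup G) := by
    set R : Subgroup G → Finset G := fun V => (sharp V).erase i0 with hR
    have hdis : ((𝒱 : Finset (Subgroup G)) : Set (Subgroup G)).PairwiseDisjoint R := by
      intro U hU V hV hne
      rw [Function.onFun, Finset.disjoint_left]
      intro d hdU hdV
      obtain ⟨hd0, hdU⟩ := Finset.mem_erase.1 hdU
      obtain ⟨hd1, hdU⟩ := mem_sharp.1 hdU
      have hdV' := (mem_sharp.1 (Finset.mem_erase.1 hdV).2).2
      obtain ⟨-, -, hU4, hUi⟩ := Finset.mem_filter.1 (Finset.mem_coe.1 hU)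
      obtain ⟨-, -, hV4, hVi⟩ := Finset.mem_filter.1 (Finset.mem_coe.1 hV)
      refine hne ?_
      have h3 : 3 ≤ Nat.card (U ⊓ V : Subgroup G) := by
        let f : Fin 3 → (U ⊓ V : Subgroup G) := ![1, ⟨i0, hUi, hVi⟩, ⟨d, hdU, hdV'⟩]
        have hinj : Function.Injective f := by
          intro i j hij
          have e := congrArg Subtype.val hij
          fin_cases i <;> fin_cases j <;> first
            | rfl
            | exact absurd e hi01
            | exact absurd e (Ne.symm hi01)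
            | exact absurd e hd1
            | exact absurd e (Ne.symm hd1)
            | exact absurd e hd0
            | exact absurd e (Ne.symm hd0)
        simpa using Nat.card_le_card_of_injective f hinj
      have hdU4 : Nat.card (U ⊓ V : Subgroup G) ∣ 4 := hU4 ▸ Subgroup.card_dvd_of_le inf_le_left
      have h4 : Nat.card (U ⊓ V : Subgroup G) = 4 := by
        have := Nat.le_of_dvd (by norm_num) hdU4
        interval_cases hh : Nat.card (U ⊓ V : Subgroup G) <;> omega
      exact (Subgroup.eq_of_le_of_card_ge (inf_le_left : U ⊓ V ≤ U) (by omega)).symm.trans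
        (Subgroup.eq_of_le_of_card_ge (inf_le_right : U ⊓ V ≤ V) (by omega))
    have hRc : ∀ V ∈ 𝒱, (R V).card = 2 := by
      intro V hV
      obtain ⟨-, -, hV4, hVi⟩ := Finset.mem_filter.1 hV
      rw [hR, Finset.card_erase_of_mem (mem_sharp.2 ⟨hi01, hVi⟩), card_sharp, hV4]
    have hsub : 𝒱.biUnion R ⊆ (sharp (T : Subgroup G)).erase i0 := by
      intro d hd
      obtain ⟨V, hV, hd⟩ := Finset.mem_biUnion.1 hd
      obtain ⟨hd0, hd⟩ := Finset.mem_erase.1 hd
      obtain ⟨hd1, hd⟩ := mem_sharp.1 hd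
      exact Finset.mem_erase.2 ⟨hd0, mem_sharp.2 ⟨hd1, (Finset.mem_filter.1 hV).2.1 hd⟩⟩
    have := Finset.card_le_card hsub
    rw [Finset.card_biUnion hdis, Finset.sum_congr rfl hRc, Finset.sum_const, smul_eq_mul,
      Finset.card_erase_of_mem (mem_sharp.2 ⟨hi01, hi0T⟩), card_sharp] at this
    omega
  have hlow : C.card * Nat.card (T : Subgroup G) ≤ 8 * 𝒱.card := by
    calc C.card * Nat.card (T : Subgroup G) = ∑ _cl ∈ C, Nat.card (T : Subgroup G) := by
          rw [Finset.sum_const, smul_eq_mul]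
      _ ≤ ∑ cl ∈ C, 8 * (𝒱.filter fun V => V ∈ cl).card := Finset.sum_le_sum hmeet
      _ ≤ 8 * 𝒱.card := by rw [← Finset.mul_sum]; exact Nat.mul_le_mul_left 8 hsum
  have : 4 * Nat.card (T : Subgroup G) ≤ C.card * Nat.card (T : Subgroup G) :=
    Nat.mul_le_mul_right _ (by omega)
  omega

theorem four_empty_of_full (hC : Config G q a b) (hz : orderOf z = 3) (ha : 3 ≤ a) {W : Subgroup G}
    (hW : Maxi z W) (hWc : Nat.card W = 2 ^ a) : fourKind z = ∅ := by
  haveI := Fact.mk Nat.prime_two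
  rw [Finset.eq_empty_iff_forall_notMem]
  intro V hV
  obtain ⟨hVm, hV4, -⟩ := fourKind_norm hC hz ha hV
  obtain ⟨T', hVT, hT'c⟩ := exists_sylow_two hC (IsPGroup.of_card (n := 2) (by rw [hV4]; norm_num) :
    IsPGroup 2 V)
  obtain ⟨g, hg⟩ := MulAction.exists_smul_eq G T'
    (Sylow.ofCard W (by rw [hC.factorization_card.1, hWc]) : Sylow 2 G)
  set U := V.map (MulAut.conj g).toMonoidHom with hU
  have hUW : U ≤ W := by
    have e := congrArg (fun P : Sylow 2 G => (P : Subgroup G)) hg
    simp only [Sylow.coe_subgroup_smul, Sylow.coe_ofCard] at e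
    rw [← e]
    rintro - ⟨v, hv, rfl⟩
    exact ⟨v, hVT hv, rfl⟩
  have hUcent := (hVm.map_conj g).centralizer_le hC (conj_order hz g)
  set Z := (Subgroup.center W).map W.subtype with hZ
  have hZU : Z ≤ U := by
    rintro - ⟨⟨w, hw⟩, hwc, rfl⟩
    exact hUcent (Subgroup.mem_centralizer_iff.2 fun u hu =>
      congrArg Subtype.val (Subgroup.mem_center_iff.1 hwc ⟨u, hUW hu⟩))
  have hZgood : Good z Z := by
    refine ⟨?_, fun h3 => hW.good.p' (h3.trans (Subgroup.card_dvd_of_le (Subgroup.map_subtype_le _)))⟩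
    rintro - ⟨⟨w, hw⟩, hwc, rfl⟩
    refine ⟨⟨z * w * z⁻¹, hW.good.inv w hw⟩, ?_, rfl⟩
    rw [SetLike.mem_coe, Subgroup.mem_center_iff]
    rintro ⟨v, hv⟩
    refine Subtype.ext ?_
    show v * (z * w * z⁻¹) = z * w * z⁻¹ * v
    have := congrArg Subtype.val (Subgroup.mem_center_iff.1 hwc ⟨z⁻¹ * v * z, hW.good.inv_mem_conj hv⟩)
    calc v * (z * w * z⁻¹) = z * ((z⁻¹ * v * z) * w) * z⁻¹ := by group
      _ = z * (w * (z⁻¹ * v * z)) * z⁻¹ := by rw [show z⁻¹ * v * z * w = w * (z⁻¹ * v * z) from this]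
      _ = _ := by group
  have hW1 : 1 < Nat.card W := by
    rw [hWc]; exact Nat.one_lt_two_pow (by omega)
  haveI : Nontrivial W := Finite.one_lt_card_iff_nontrivial.1 hW1
  haveI := IsPGroup.center_nontrivial (IsPGroup.of_card hWc : IsPGroup 2 W)
  have hZ1 : 1 < Nat.card Z := by
    rw [hZ, Subgroup.card_map_of_injective W.subtype_injective]
    exact Finite.one_lt_card_iff_nontrivial.2 inferInstance
  have hU4 : Nat.card U = 4 := by
    rw [hU, Subgroup.card_map_of_injective (MulAut.conj g).injective, hV4]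
  have hd : Nat.card Z ∣ 4 := hU4 ▸ Subgroup.card_dvd_of_le hZU
  have h3 := hZgood.card_mod_three hC hz
  have hZ4 : Nat.card Z = 4 := by
    have := Nat.le_of_dvd (by norm_num) hd
    interval_cases hh : Nat.card Z <;> omega
  have heq : Z = U := Subgroup.eq_of_le_of_card_ge hZU (by omega)
  have hWU : W ≤ U := fun w hw => hUcent (Subgroup.mem_centralizer_iff.2 fun u hu => by
    change u ∈ U at hu
    rw [← heq] at hu
    obtain ⟨u', hu', rfl⟩ := hu
    exact (congrArg Subtype.val (Subgroup.mem_center_iff.1 hu' ⟨w, hw⟩)).symm)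
  have := Subgroup.card_le_of_le hWU
  have h8 : 2 ^ 3 ≤ 2 ^ a := Nat.pow_le_pow_right (by norm_num) ha
  omega

/-- What the invariant Sylow `q`-subgroups give. -/
def QFacts (G : Type u) [Group G] (q a b l : ℕ) : Prop :=
  (l = 0 ∧ ∀ Q : Sylow q G, ¬ 3 ∣ Nat.card (Subgroup.normalizer ((Q : Subgroup G) : Set G))) ∨
    (q ^ b % 3 = 1 ∧ ∃ m, (l = 3 ∧ m = 3 * 2 ^ (a - 1) ∨ l = 6 ∧ m = 3 * 2 ^ a) ∧
      m % q = 1 ∧ q ^ b ∣ m.factorial)

theorem qKind_facts (hC : Config G q a b) (hz : orderOf z = 3) (ha : 3 ≤ a) (hb : 1 ≤ b) :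
    ∃ l, QFacts G q a b l ∧ ∑ V ∈ qKind q z, (Nat.card V - 1) = l * (q ^ b - 1) := by
  haveI := Fact.mk hC.hq
  have hq3 : q ≠ 3 := by have := hC.hq5; omega
  rcases (qKind q z).eq_empty_or_nonempty with he | ⟨W, hW⟩
  · refine ⟨0, Or.inl ⟨rfl, fun Q h3 => ?_⟩, by rw [he, Finset.sum_empty, zero_mul]⟩
    haveI := Fact.mk Nat.prime_three
    obtain ⟨⟨x, hx⟩, hxo⟩ := exists_prime_orderOf_dvd_card' 3 h3
    rw [Subgroup.orderOf_mk] at hxo
    obtain ⟨g, hg⟩ := isConj_iff.1 (hC.conj x z hxo hz)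
    have hQc : Nat.card (Q : Subgroup G) = q ^ b :=
      Q.card_eq_multiplicity.trans (by rw [hC.factorization_card.2])
    have hgood : Good x (Q : Subgroup G) :=
      ⟨fun d hd => (Subgroup.mem_normalizer_iff.1 hx d).1 hd, fun hd => hq3 (by
        rw [hQc] at hd
        exact ((Nat.prime_dvd_prime_iff_eq Nat.prime_three hC.hq).1
          (Nat.prime_three.dvd_of_dvd_pow hd)).symm)⟩
    have hgood' := hgood.map_conj g
    rw [hg] at hgood'
    have hqd : q ∣ Nat.card ((Q : Subgroup G).map (MulAut.conj g).toMonoidHom) := by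
      rw [Subgroup.card_map_of_injective (MulAut.conj g).injective, hQc]
      exact dvd_pow_self q (by omega)
    obtain ⟨V, hV, hle⟩ := hgood'.exists_maxi fun e => by
      rw [e, Subgroup.card_bot] at hqd
      exact hC.hq.not_dvd_one hqd
    have : V ∈ qKind q z :=
      Finset.mem_filter.2 ⟨mem_maxis.2 hV, hqd.trans (Subgroup.card_dvd_of_le hle)⟩
    rw [he] at this
    simp at this
  obtain ⟨hWm, hWc⟩ := qKind_card hC hz hW
  have hWc' : Nat.card W = q ^ (Nat.card G).factorization q := by rw [hC.factorization_card.2, hWc]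
  have hB3 : q ^ b % 3 = 1 := hWc ▸ hWm.good.card_mod_three hC hz
  have heq : qKind q z = normalizedBy W z :=
    kind_eq hC hz hWm _ (fun n => q ∣ n) rfl (Finset.mem_filter.1 hW).2 fun V hV =>
      conjugate_of_sylow hWc' (by rw [hC.factorization_card.2, (qKind_card hC hz hV).2])
  have hk := hWm.card_normalizedBy hC hz hz
  rw [← heq, hWc] at hk
  have hsum := sum_const_kind (fun V hV => (qKind_card hC hz hV).2) (S := qKind q z)
  have hB : 0 < q ^ b := pow_pos hC.hq.pos b
  set N := Subgroup.normalizer (W : Set G) with hN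
  have hm := card_conjugates W
  rw [← hN] at hm
  have hidx : N.index = (conjugates W).card :=
    Nat.eq_of_mul_eq_mul_right (Nat.card_pos (α := N)) (by rw [hm, N.index_mul_card])
  have hmod : (conjugates W).card % q = 1 := by
    have h1 := card_sylow_modEq_one q G
    rw [Sylow.card_eq_index_normalizer (Sylow.ofCard W hWc')] at h1
    rw [← hidx]
    have h2 : N.index % q = 1 % q := by
      exact h1
    rw [h2, Nat.mod_eq_of_lt hC.hq.one_lt]
  have hfac : q ^ b ∣ (conjugates W).card.factorial := by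
    rw [← hidx]
    refine dvd_trans ?_ (SmallSimple.card_dvd_factorial (H := N) ?_)
    · rw [hC.card]
      exact Dvd.dvd.mul_left (dvd_mul_left _ _) 9
    · intro htop
      rcases (Subgroup.normalizer_eq_top_iff.1 htop).eq_bot_or_eq_top with e | e
      · exact hWm.ne_bot e
      · have hGc : Nat.card G = q ^ b := by rw [← hWc, e, Subgroup.card_top]
        rw [hC.card] at hGc
        have h2 : 2 ∣ q ^ b := hGc ▸ Dvd.dvd.mul_left (dvd_mul_of_dvd_left (dvd_pow_self 2 (by omega)) _) 9
        have := (Nat.prime_dvd_prime_iff_eq Nat.prime_two hC.hq).1 (Nat.prime_two.dvd_of_dvd_pow h2)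
        have := hC.hq5
        omega
  rw [hC.card] at hm
  have hpa : 2 * 2 ^ (a - 1) = 2 ^ a := by rw [← pow_succ']; congr 1; omega
  rcases (hWm.core hC hz).card with hc | hc <;> rw [← hN, hWc] at hc <;> rw [hc] at hk hm
  · have hl : (qKind q z).card = 6 := Nat.eq_of_mul_eq_mul_right (by omega : 0 < 3 * q ^ b) (by
      rw [hk]; ring)
    refine ⟨6, Or.inr ⟨hB3, (conjugates W).card, Or.inr ⟨rfl, ?_⟩, hmod, hfac⟩, by rw [hsum, hl]⟩
    exact Nat.eq_of_mul_eq_mul_right (by omega : 0 < 3 * q ^ b) (by rw [hm]; ring)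
  · have hl : (qKind q z).card = 3 := Nat.eq_of_mul_eq_mul_right (by omega : 0 < 6 * q ^ b) (by
      rw [hk]; ring)
    refine ⟨3, Or.inr ⟨hB3, (conjugates W).card, Or.inl ⟨rfl, ?_⟩, hmod, hfac⟩, by rw [hsum, hl]⟩
    exact Nat.eq_of_mul_eq_mul_right (by omega : 0 < 6 * q ^ b) (by rw [hm, ← hpa]; ring)

/-- The possible values of `E`. -/
theorem Config.count (hC : Config G q a b) (hz : orderOf z = 3) (ha : 3 ≤ a) (hb : 1 ≤ b) :
    ∃ l c, c ≤ 3 ∧ QFacts G q a b l ∧
      (pairCount z = 7 + 9 * c + l * (q ^ b - 1) ∨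
      (Even a ∧ 4 ≤ a ∧ pairCount z ≤ 1 + 6 * 2 ^ a + l * (q ^ b - 1) ∧
        (q ≠ 5 → pairCount z = 1 + 6 * 2 ^ a + l * (q ^ b - 1))) ∨
      (Odd a ∧ 5 ≤ a ∧ 7 + l * (q ^ b - 1) ≤ pairCount z ∧
        pairCount z ≤ 4 + 3 * 2 ^ (a - 1) + 9 * c + l * (q ^ b - 1) ∧
        (q ≠ 5 → pairCount z = 4 + 3 * 2 ^ (a - 1) + 9 * c + l * (q ^ b - 1)))) := by
  obtain ⟨l, hl, hlsum⟩ := qKind_facts hC hz ha hb
  obtain ⟨c, hc, hccard⟩ := four_bound hC hz ha
  have hfsum : ∑ V ∈ fourKind z, (Nat.card V - 1) = 9 * c := by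
    rw [sum_const_kind (fun V hV => (fourKind_norm hC hz ha hV).2.1), hccard]; ring
  have hq4 : ¬ q ∣ 4 := fun hd => by
    have := Nat.le_of_dvd (by norm_num) hd
    have h5 := hC.hq5
    omega
  have hsplit : ∑ V ∈ maxis z, (Nat.card V - 1) =
      ∑ V ∈ qKind q z, (Nat.card V - 1) + ∑ V ∈ fourKind z, (Nat.card V - 1) +
        ∑ V ∈ bigKind q z, (Nat.card V - 1) := by
    rw [← Finset.sum_filter_add_sum_filter_not (maxis z) (fun V : Subgroup G => q ∣ Nat.card V), add_assoc]
    congr 1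
    rw [← Finset.sum_filter_add_sum_filter_not ((maxis z).filter fun V : Subgroup G => ¬ q ∣ Nat.card V)
      (fun V : Subgroup G => Nat.card V = 4)]
    congr 1 <;> refine Finset.sum_congr ?_ fun _ _ => rfl <;>
      simp only [fourKind, bigKind, Finset.filter_filter]
    refine Finset.filter_congr fun V _ => ⟨fun h => h.2, fun h => ⟨h ▸ hq4, h⟩⟩
  have hP := hC.pairCount_eq hz
  have hub : (omegaSet z).card ≤ ∑ V ∈ maxis z, (Nat.card V - 1) := by
    rw [omegaSet_eq, Finset.sum_congr rfl fun V _ => (card_sharp V).symm]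
    exact Finset.card_biUnion_le
  have hex : (q ≠ 5 ∨ bigKind q z = ∅) → (omegaSet z).card = ∑ V ∈ maxis z, (Nat.card V - 1) := by
    intro h
    rw [omegaSet_eq, Finset.card_biUnion]
    · exact Finset.sum_congr rfl fun V _ => card_sharp V
    intro U hU V hV hne
    refine sharp_disjoint (disjoint_maxi hC hz (Finset.mem_coe.1 hU) (Finset.mem_coe.1 hV) hne ?_)
    rcases h with h | h
    · exact Or.inl h
    · right
      by_contra hno
      rw [not_or] at hno
      have : U ∈ bigKind q z := Finset.mem_filter.2 ⟨Finset.mem_coe.1 hU, hno⟩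
      rw [h] at this
      simp at this
  have hlow : ∑ V ∈ qKind q z, (Nat.card V - 1) ≤ (omegaSet z).card := by
    rw [Finset.sum_congr rfl fun V _ => (card_sharp V).symm, ← Finset.card_biUnion]
    · rw [omegaSet_eq]
      exact Finset.card_le_card (Finset.biUnion_subset_biUnion_of_subset_left _ (Finset.filter_subset _ _))
    intro U hU V hV hne
    obtain ⟨hU1, hU2⟩ := Finset.mem_filter.1 (Finset.mem_coe.1 hU)
    exact sharp_disjoint (disjoint_maxi hC hz hU1 (Finset.mem_filter.1 (Finset.mem_coe.1 hV)).1 hne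
      (Or.inr (Or.inl hU2)))
  rcases (bigKind q z).eq_empty_or_nonempty with he | ⟨W, hW⟩
  · refine ⟨l, c, hc, hl, Or.inl ?_⟩
    rw [hP, hex (Or.inr he), hsplit, hlsum, hfsum, he, Finset.sum_empty]
    ring
  obtain ⟨hWm, hWk⟩ := bigKind_cases hC hz hW
  have heq : bigKind q z = normalizedBy W z :=
    kind_eq hC hz hWm _ (fun n => ¬ q ∣ n ∧ n ≠ 4) rfl (Finset.mem_filter.1 hW).2
      fun V hV => big_conjugate hC hz hW hV
  have hk := hWm.card_normalizedBy hC hz hz
  rw [← heq] at hk
  have hbsum := sum_const_kind (S := bigKind q z) (w := Nat.card W) fun V hV => by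
    rw [heq] at hV
    exact (card_normalizer_conjugate (Finset.mem_filter.1 hV).1).1
  have h3 := hWm.good.card_mod_three hC hz
  have hW0 := Nat.card_pos (α := W)
  have h8 : 8 ≤ 2 ^ a := le_trans (by norm_num) (Nat.pow_le_pow_right (by norm_num : 1 ≤ 2) ha)
  rcases hWk with ⟨hWc, hWN⟩ | ⟨hWc, hW16, hWN⟩
  · have hkk : (bigKind q z).card = 6 := Nat.eq_of_mul_eq_mul_right (by omega : 0 < 3 * Nat.card W) (by
      rw [← hWN, hk, hWN]; ring)
    rw [hkk, hWc] at hbsum
    have hc0 : c = 0 := by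
      have := four_empty_of_full hC hz ha hWm hWc
      rw [this, Finset.card_empty] at hccard
      omega
    rw [hWc, pow_two_mod_three] at h3
    have hev : Even a := by
      by_contra hne
      rw [if_neg hne] at h3
      omega
    have ha4 : 4 ≤ a := by
      obtain ⟨s, hs⟩ := hev
      omega
    refine ⟨l, c, hc, hl, Or.inr (Or.inl ⟨hev, ha4, ?_, fun h5 => ?_⟩)⟩
    · rw [hsplit, hlsum, hfsum, hbsum] at hub
      omega
    · rw [hP, hex (Or.inl h5), hsplit, hlsum, hfsum, hbsum]
      omega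
  · have hkk : (bigKind q z).card = 3 := Nat.eq_of_mul_eq_mul_right (by omega : 0 < 6 * Nat.card W) (by
      rw [← hWN, hk, hWN]; ring)
    have hWh : Nat.card W = 2 ^ (a - 1) := by
      have : 2 * 2 ^ (a - 1) = 2 ^ a := by rw [← pow_succ']; congr 1; omega
      omega
    rw [hkk, hWh] at hbsum
    have hev : Even (a - 1) := by
      by_contra hne
      rw [hWh, pow_two_mod_three, if_neg hne] at h3
      omega
    have hodd : Odd a := by
      obtain ⟨s, hs⟩ := hev
      exact ⟨s, by omega⟩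
    have ha5 : 5 ≤ a := by
      by_contra hlt
      have : 2 ^ a ≤ 2 ^ 4 := Nat.pow_le_pow_right (by norm_num) (by omega)
      omega
    rw [hsplit, hlsum, hfsum, hbsum] at hub
    rw [hlsum] at hlow
    refine ⟨l, c, hc, hl, Or.inr (Or.inr ⟨hodd, ha5, ?_, ?_, fun h5 => ?_⟩)⟩
    · omega
    · omega
    · rw [hP, hex (Or.inl h5), hsplit, hlsum, hfsum, hbsum]
      omega

end Cfsg.Agent.SelfNineEight
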