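import Cfsg.Agent.Lib.SelfNineEight.Cases

/-!
# The numerical cases with `q = 5`
-/

set_option autoImplicit false

namespace Cfsg.Agent.SelfNineEight

theorem two_five_of_dvd {a b d : ℕ} (h : d ∣ 2 ^ a * 5 ^ b) : ∃ i j, d = 2 ^ i * 5 ^ j := by
  obtain ⟨x, y, hx, hy, rfl⟩ := exists_dvd_and_dvd_of_dvd_mul h
  obtain ⟨i, -, rfl⟩ := (Nat.dvd_prime_pow Nat.prime_two).1 hx
  obtain ⟨j, -, rfl⟩ := (Nat.dvd_prime_pow (by norm_num : Nat.Prime 5)).1 hy
  exact ⟨i, j, rfl⟩

theorem two_five_ne {k : ℕ} (hk : k = 71 ∨ k = 172 ∨ k = 190) (i j : ℕ) : 2 ^ i * 5 ^ j ≠ k := by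
  intro h
  have key : ((List.range 8).all fun i => (List.range 4).all fun j =>
      decide (2 ^ i * 5 ^ j ≠ 71 ∧ 2 ^ i * 5 ^ j ≠ 172 ∧ 2 ^ i * 5 ^ j ≠ 190)) = true := by
    decide +kernel
  have h1 : 2 ^ i ≤ k := h ▸ Nat.le_mul_of_pos_right _ (pow_pos (by norm_num) j)
  have h2 : 5 ^ j ≤ k := h ▸ Nat.le_mul_of_pos_left _ (pow_pos (by norm_num) i)
  have hi : i < 8 := (Nat.pow_lt_pow_iff_right (a := 2) (by norm_num)).1 (by omega)
  have hj : j < 4 := (Nat.pow_lt_pow_iff_right (a := 5) (by norm_num)).1 (by omega)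
  have := List.all_eq_true.1 (List.all_eq_true.1 key i (List.mem_range.2 hi)) j
    (List.mem_range.2 hj)
  simp only [decide_eq_true_eq] at this
  omega

variable {a b E : ℕ} {s : Multiset (ℤ × ℕ)}

/-- Units of the items of largest ratio. -/
def tenUnits (x : ℤ × ℕ) : ℤ :=
  if x = ((1 : ℤ), 10) ∨ x = ((2 : ℤ), 20) then (unitsOf x : ℤ) else 0

theorem small32 : ((List.range 6).all fun i => (List.range 3).all fun j =>
    decide ((2 ^ i * 5 ^ j % 9 = 1 → 2 ^ i * 5 ^ j ≤ 1 ∨ 2 ^ i * 5 ^ j = 10 ∨ 15 ≤ 2 ^ i * 5 ^ j) ∧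
      (2 ^ i * 5 ^ j % 9 = 2 → 2 ^ i * 5 ^ j ≤ 2 ∨ 2 ^ i * 5 ^ j = 20 ∨ 29 ≤ 2 ^ i * 5 ^ j))) =
      true := by
  decide +kernel

/-- `F > 27/16` is impossible for `A = 32`, `q = 5`. -/
theorem case_32 (h : Items 5 5 b E s) (hgt : 3 * (2 ^ 5 * 5 ^ b) < 16 * E) : False := by
  classical
  set n := 2 ^ 5 * 5 ^ b with hndef
  have hnn : (0 : ℤ) < n := by
    have : 0 < n := by positivity
    exact_mod_cast this
  have hitem : ∀ x ∈ s, 100 * weightOf n x ≤ n * (7 * (unitsOf x : ℤ) + 3 * tenUnits x) ∧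
      (x.1 < 0 → weightOf n x < 0 ∧ tenUnits x = 0) := by
    intro x hx
    obtain ⟨hA, i, j, hi, hj, hd⟩ := h.adm x hx
    have hw := weight_mul (h.dvd hx)
    rw [← hndef] at hw
    obtain ⟨hc, h1, -, h9, hm, hne⟩ := hA
    obtain ⟨c, d⟩ := x
    dsimp only at hc h1 h9 hm hne hd hw ⊢
    have hd0 : (0 : ℤ) < d := by exact_mod_cast (by omega : 0 < d)
    have hbig : (j < 3 → (d % 9 = 1 → d ≤ 1 ∨ d = 10 ∨ 15 ≤ d) ∧
        (d % 9 = 2 → d ≤ 2 ∨ d = 20 ∨ 29 ≤ d)) ∧ (3 ≤ j → 29 ≤ d) := by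
      refine ⟨fun hj3 => ?_, fun hj3 => ?_⟩
      · have := List.all_eq_true.1 (List.all_eq_true.1 small32 i (List.mem_range.2 (by omega))) j
          (List.mem_range.2 hj3)
        rw [decide_eq_true_eq, ← hd] at this
        exact this
      · calc 29 ≤ 5 ^ 3 := by norm_num
          _ ≤ 5 ^ j := Nat.pow_le_pow_right (by norm_num) hj3
          _ ≤ d := hd ▸ Nat.le_mul_of_pos_left _ (pow_pos (by norm_num) i)
    set w := weightOf n (c, d) with hwdef
    rcases hc with rfl | rfl | rfl | rfl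
    · refine ⟨?_, fun hneg => absurd hneg (by norm_num)⟩
      have hu : (unitsOf ((1 : ℤ), d) : ℤ) = 1 := by simp [unitsOf]
      rw [hu]
      have hcase : d = 10 ∨ 15 ≤ d := by
        rcases Nat.lt_or_ge j 3 with hj3 | hj3
        · rcases (hbig.1 hj3).1 (by omega) with e | e | e <;> omega
        · have := hbig.2 hj3; omega
      rcases hcase with e | e
      · rw [tenUnits, if_pos (Or.inl (by rw [e])), hu]
        subst e
        push_cast at hw
        linarith
      · have ht : tenUnits ((1 : ℤ), d) = 0 := by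
          rw [tenUnits, if_neg]
          rintro (e' | e') <;> injection e' with e1 e2 <;> omega
        rw [ht]
        have : (15 : ℤ) ≤ d := by exact_mod_cast e
        nlinarith
    · have hu : (unitsOf ((-1 : ℤ), d) : ℤ) = 1 := by simp [unitsOf]
      have ht : tenUnits ((-1 : ℤ), d) = 0 := by
        rw [tenUnits, if_neg]
        rintro (e' | e') <;> injection e' with e1 e2 <;> omega
      have hneg : w < 0 := by nlinarith
      rw [hu, ht]
      exact ⟨by nlinarith, fun _ => ⟨hneg, rfl⟩⟩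
    · refine ⟨?_, fun hneg => absurd hneg (by norm_num)⟩
      have hu : (unitsOf ((2 : ℤ), d) : ℤ) = 4 := by simp [unitsOf]
      rw [hu]
      have hcase : d = 20 ∨ 29 ≤ d := by
        rcases Nat.lt_or_ge j 3 with hj3 | hj3
        · rcases (hbig.1 hj3).2 (by omega) with e | e | e <;> omega
        · exact Or.inr (hbig.2 hj3)
      rcases hcase with e | e
      · rw [tenUnits, if_pos (Or.inr (by rw [e])), hu]
        subst e
        push_cast at hw
        linarith
      · have ht : tenUnits ((2 : ℤ), d) = 0 := by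
          rw [tenUnits, if_neg]
          rintro (e' | e') <;> injection e' with e1 e2 <;> omega
        rw [ht]
        have : (29 : ℤ) ≤ d := by exact_mod_cast e
        nlinarith
    · have hu : (unitsOf ((-2 : ℤ), d) : ℤ) = 4 := by simp [unitsOf]
      have ht : tenUnits ((-2 : ℤ), d) = 0 := by
        rw [tenUnits, if_neg]
        rintro (e' | e') <;> injection e' with e1 e2 <;> omega
      have hneg : w < 0 := by nlinarith
      rw [hu, ht]
      exact ⟨by nlinarith, fun _ => ⟨hneg, rfl⟩⟩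
  -- some item is negative
  obtain ⟨y, hys, hy⟩ : ∃ y ∈ s, y.1 < 0 := by
    by_contra hne
    push Not at hne
    have : 0 ≤ (s.map signedDeg).sum := Multiset.sum_nonneg fun z hz => by
      obtain ⟨x, hx, rfl⟩ := Multiset.mem_map.1 hz
      exact mul_nonneg (hne x hx) (Int.natCast_nonneg _)
    have := h.degs
    omega
  obtain ⟨r, rfl⟩ := Multiset.exists_cons_of_mem hys
  obtain ⟨-, hyneg⟩ := hitem y hys
  obtain ⟨hwy, hty⟩ := hyneg hy
  have hu := h.cast_units
  have hp := h.pairs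
  rw [← hndef] at hp
  simp only [Multiset.map_cons, Multiset.sum_cons] at hu hp
  have hle : (r.map fun x => 100 * weightOf n x).sum ≤
      (r.map fun x => (n : ℤ) * (7 * (unitsOf x : ℤ) + 3 * tenUnits x)).sum :=
    Multiset.sum_map_le_sum_map _ _ fun x hx => (hitem x (Multiset.mem_cons_of_mem hx)).1
  rw [Multiset.sum_map_mul_left, Multiset.sum_map_mul_left, Multiset.sum_map_add,
    Multiset.sum_map_mul_left, Multiset.sum_map_mul_left] at hle
  set Ur := (r.map fun x => (unitsOf x : ℤ)).sum with hUr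
  set Tr := (r.map tenUnits).sum with hTr
  have hTU : Tr ≤ Ur := Multiset.sum_map_le_sum_map _ _ fun x _ => by
    rw [tenUnits]
    split_ifs
    · exact le_rfl
    · exact Int.natCast_nonneg _
  have hy1 : (1 : ℤ) ≤ unitsOf y := by
    exact_mod_cast unitsOf_pos (h.adm y hys).1
  have hgt' : (3 * n : ℤ) < 16 * (E : ℤ) := by exact_mod_cast hgt
  have hUy : 7 * Ur + 3 * Tr ≥ 69 := by
    by_contra hlt
    nlinarith
  have hy' : (unitsOf y : ℤ) = 1 := by omega
  have hT7 : Tr = 7 := by omega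
  have hU7 : Ur = 7 := by omega
  -- all other items are the two special ones
  have hall : ∀ x ∈ r, x = ((1 : ℤ), 10) ∨ x = ((2 : ℤ), 20) := by
    intro x hx
    obtain ⟨r', rfl⟩ := Multiset.exists_cons_of_mem hx
    by_contra hne
    have h0 : tenUnits x = 0 := if_neg hne
    have hle' : (r'.map tenUnits).sum ≤ (r'.map fun x => (unitsOf x : ℤ)).sum :=
      Multiset.sum_map_le_sum_map _ _ fun z _ => by
        rw [tenUnits]
        split_ifs
        · exact le_rfl
        · exact Int.natCast_nonneg _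
    have h1 : (1 : ℤ) ≤ unitsOf x := by
      exact_mod_cast unitsOf_pos (h.adm x (Multiset.mem_cons_of_mem (Multiset.mem_cons_self x r'))).1
    simp only [hTr, hUr, Multiset.map_cons, Multiset.sum_cons] at hT7 hU7
    omega
  have hdeg : (r.map signedDeg).sum = 70 := by
    rw [show (r.map signedDeg) = r.map fun x => 10 * (unitsOf x : ℤ) from
      Multiset.map_congr rfl fun x hx => by
        rcases hall x hx with rfl | rfl <;> simp [signedDeg, unitsOf],
      Multiset.sum_map_mul_left, ← hUr, hU7]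
    norm_num
  have hd := h.degs
  rw [Multiset.map_cons, Multiset.sum_cons, hdeg] at hd
  have hy71 : y.2 = 71 := by
    rcases (h.adm y hys).1.1 with e | e | e | e <;>
      simp [signedDeg, unitsOf, e] at hd hy' <;> omega
  obtain ⟨i, j, hij⟩ := two_five_of_dvd (h.dvd hys)
  exact two_five_ne (Or.inl rfl) i j (hij.symm.trans hy71)

/-- The items that occur for `q = 5` with invariant Sylow 2-subgroups. -/
def FiveRest (x : ℤ × ℕ) : Prop := x = ((-1 : ℤ), 8) ∨ x = ((-2 : ℤ), 16)

instance : DecidablePred FiveRest := fun x => by unfold FiveRest; infer_instance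

/-- Units of `(-1, 8)` and `(-2, 16)`. -/
def eightUnits (x : ℤ × ℕ) : ℤ :=
  if x = ((-1 : ℤ), 8) ∨ x = ((-2 : ℤ), 16) then (unitsOf x : ℤ) else 0

/-- Units of `(-2, 25)`. -/
def twentyFiveUnits (x : ℤ × ℕ) : ℤ := if x = ((-2 : ℤ), 25) then (unitsOf x : ℤ) else 0

theorem small125 : ((List.range 8).all fun i => (List.range 4).all fun j =>
    decide ((2 ^ i * 5 ^ j % 9 = 8 → 2 ^ i * 5 ^ j = 8 ∨ 80 ≤ 2 ^ i * 5 ^ j) ∧
      (2 ^ i * 5 ^ j % 9 = 7 → 2 ^ i * 5 ^ j < 16 ∨ 2 ^ i * 5 ^ j = 16 ∨ 2 ^ i * 5 ^ j = 25 ∨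
        160 ≤ 2 ^ i * 5 ^ j))) = true := by
  decide +kernel

theorem pair164 : ((List.range 3).all fun i => (List.range 4).all fun j =>
    decide ((2 ^ i * 5 ^ j % 9 = 1 ∨ 2 ^ i * 5 ^ j % 9 = 8) → 1 < 2 ^ i * 5 ^ j →
      2 ^ i * 5 ^ j = 10 ∨ 2 ^ i * 5 ^ j = 100 ∨ 2 ^ i * 5 ^ j = 125)) = true := by
  decide +kernel

theorem decomp_pair (h : Items 5 a 3 E s) (ha : 6 ≤ a) (hle : E ≤ 6 * 2 ^ a + 1) :
    ∃ r : Multiset (ℤ × ℕ), s = ((-1 : ℤ), 125) ::ₘ ((1 : ℤ), 100) ::ₘ ((1 : ℤ), 64) ::ₘ r ∧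
      ∀ x ∈ r, FiveRest x := by
  classical
  set n := 2 ^ a * 5 ^ 3 with hndef
  have hA : (64 : ℤ) ≤ (2 ^ a : ℕ) := by
    exact_mod_cast le_trans (by norm_num) (Nat.pow_le_pow_right (by norm_num : 1 ≤ 2) ha)
  have hnA : (n : ℤ) = 125 * (2 ^ a : ℕ) := by rw [hndef]; push_cast; ring
  have hnn : (0 : ℤ) < n := by omega
  -- the weight per unit
  have hitem : ∀ x ∈ s,
      -(n : ℤ) * (90 * eightUnits x + 54 * twentyFiveUnits x + 10 * (unitsOf x : ℤ)) ≤
        800 * weightOf n x := by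
    intro x hx
    obtain ⟨hA', i, j, hi, hj, hd⟩ := h.adm x hx
    have hw := weight_mul (h.dvd hx)
    rw [← hndef] at hw
    obtain ⟨hc, h1, -, h9, hm, hne⟩ := hA'
    obtain ⟨c, d⟩ := x
    dsimp only at hc h1 h9 hm hne hd hw ⊢
    have hd0 : (0 : ℤ) < d := by exact_mod_cast (by omega : 0 < d)
    set w := weightOf n (c, d) with hwdef
    have hbig : (i < 8 → (d % 9 = 8 → d = 8 ∨ 80 ≤ d) ∧
        (d % 9 = 7 → d < 16 ∨ d = 16 ∨ d = 25 ∨ 160 ≤ d)) ∧ (8 ≤ i → 256 ≤ d) := by
      refine ⟨fun hi8 => ?_, fun hi8 => ?_⟩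
      · have := List.all_eq_true.1 (List.all_eq_true.1 small125 i (List.mem_range.2 hi8)) j
          (List.mem_range.2 (by omega))
        rw [decide_eq_true_eq, ← hd] at this
        exact this
      · calc 256 = 2 ^ 8 := by norm_num
          _ ≤ 2 ^ i := Nat.pow_le_pow_right (by norm_num) hi8
          _ ≤ d := hd ▸ Nat.le_mul_of_pos_right _ (pow_pos (by norm_num) j)
    have h8nn : 0 ≤ eightUnits (c, d) := by
      rw [eightUnits]; split_ifs <;> simp
    have h25nn : 0 ≤ twentyFiveUnits (c, d) := by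
      rw [twentyFiveUnits]; split_ifs <;> simp
    rcases hc with rfl | rfl | rfl | rfl
    · have : 0 < w := by nlinarith
      have : (0 : ℤ) ≤ unitsOf ((1 : ℤ), d) := Int.natCast_nonneg _
      nlinarith
    · have hu : (unitsOf ((-1 : ℤ), d) : ℤ) = 1 := by simp [unitsOf]
      have hcase : d = 8 ∨ 80 ≤ d := by
        rcases Nat.lt_or_ge i 8 with hi8 | hi8
        · exact (hbig.1 hi8).1 (by omega)
        · have := hbig.2 hi8; omega
      rcases hcase with rfl | e
      · rw [eightUnits, if_pos (Or.inl rfl), hu]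
        push_cast at hw
        nlinarith
      · rw [hu]
        have : (80 : ℤ) ≤ d := by exact_mod_cast e
        have := mul_nonneg hnn.le h8nn
        have := mul_nonneg hnn.le h25nn
        nlinarith
    · have : 0 < w := by nlinarith
      have : (0 : ℤ) ≤ unitsOf ((2 : ℤ), d) := Int.natCast_nonneg _
      nlinarith
    · have hu : (unitsOf ((-2 : ℤ), d) : ℤ) = 4 := by simp [unitsOf]
      have hcase : d = 16 ∨ d = 25 ∨ 160 ≤ d := by
        rcases Nat.lt_or_ge i 8 with hi8 | hi8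
        · rcases (hbig.1 hi8).2 (by omega) with e | e | e | e <;> omega
        · have := hbig.2 hi8; omega
      rcases hcase with rfl | rfl | e
      · rw [eightUnits, if_pos (Or.inr rfl), hu]
        push_cast at hw
        nlinarith
      · rw [twentyFiveUnits, if_pos rfl, hu]
        push_cast at hw
        nlinarith
      · rw [hu]
        have : (160 : ℤ) ≤ d := by exact_mod_cast e
        have := mul_nonneg hnn.le h8nn
        have := mul_nonneg hnn.le h25nn
        nlinarith
  have hle' : (s.map fun x =>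
      -(n : ℤ) * (90 * eightUnits x + 54 * twentyFiveUnits x + 10 * (unitsOf x : ℤ))).sum ≤
      (s.map fun x => 800 * weightOf n x).sum :=
    Multiset.sum_map_le_sum_map _ _ hitem
  rw [Multiset.sum_map_mul_left, Multiset.sum_map_mul_left, Multiset.sum_map_add,
    Multiset.sum_map_add, Multiset.sum_map_mul_left, Multiset.sum_map_mul_left,
    Multiset.sum_map_mul_left, h.cast_units] at hle'
  have hE : (E : ℤ) ≤ 6 * (2 ^ a : ℕ) + 1 := by exact_mod_cast hle
  have hp := h.pairs
  rw [← hndef] at hp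
  -- split the three kinds of items
  set s8 := s.filter FiveRest with hs8
  set o := s.filter (fun x => ¬ FiveRest x) with ho
  set s25 := o.filter (fun x => x = ((-2 : ℤ), 25)) with hs25
  set rest := o.filter (fun x => ¬ x = ((-2 : ℤ), 25)) with hrest
  have hsplit : s = s8 + (s25 + rest) := by
    rw [hs25, hrest, Multiset.filter_add_not, ho, hs8, Multiset.filter_add_not]
  set u := (s8.map fun x => (unitsOf x : ℤ)).sum with hu
  set v := (s25.map fun x => (unitsOf x : ℤ)).sum with hv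
  set w := (rest.map fun x => (unitsOf x : ℤ)).sum with hw
  have hm8 : ∀ x ∈ s8, x = ((-1 : ℤ), 8) ∨ x = ((-2 : ℤ), 16) := fun x hx =>
    (Multiset.mem_filter.1 hx).2
  have hm25 : ∀ x ∈ s25, x = ((-2 : ℤ), 25) := fun x hx => (Multiset.mem_filter.1 hx).2
  have hmr : ∀ x ∈ rest, x ∈ s ∧ ¬ FiveRest x ∧ x ≠ ((-2 : ℤ), 25) := fun x hx => by
    obtain ⟨hx1, hx2⟩ := Multiset.mem_filter.1 hx
    obtain ⟨hx3, hx4⟩ := Multiset.mem_filter.1 hx1
    exact ⟨hx3, hx4, hx2⟩
  have e8 : (s.map eightUnits).sum = u := by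
    rw [hsplit, Multiset.map_add, Multiset.map_add, Multiset.sum_add, Multiset.sum_add,
      show s8.map eightUnits = s8.map (fun x => (unitsOf x : ℤ)) from
        Multiset.map_congr rfl fun x hx => if_pos (hm8 x hx),
      show s25.map eightUnits = s25.map (fun _ => (0 : ℤ)) from
        Multiset.map_congr rfl fun x hx => if_neg (by rw [hm25 x hx]; decide),
      show rest.map eightUnits = rest.map (fun _ => (0 : ℤ)) from
        Multiset.map_congr rfl fun x hx => if_neg (hmr x hx).2.1]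
    simp [hu]
  have e25 : (s.map twentyFiveUnits).sum = v := by
    rw [hsplit, Multiset.map_add, Multiset.map_add, Multiset.sum_add, Multiset.sum_add,
      show s8.map twentyFiveUnits = s8.map (fun _ => (0 : ℤ)) from
        Multiset.map_congr rfl fun x hx => if_neg (by rcases hm8 x hx with e | e <;> rw [e] <;> decide),
      show s25.map twentyFiveUnits = s25.map (fun x => (unitsOf x : ℤ)) from
        Multiset.map_congr rfl fun x hx => if_pos (hm25 x hx),
      show rest.map twentyFiveUnits = rest.map (fun _ => (0 : ℤ)) from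
        Multiset.map_congr rfl fun x hx => if_neg (hmr x hx).2.2]
    simp [hv]
  rw [e8, e25] at hle'
  have hU := h.cast_units
  rw [hsplit, Multiset.map_add, Multiset.map_add, Multiset.sum_add, Multiset.sum_add, ← hu, ← hv,
    ← hw] at hU
  have hD := h.degs
  rw [hsplit, Multiset.map_add, Multiset.map_add, Multiset.sum_add, Multiset.sum_add,
    show s8.map signedDeg = s8.map (fun x => (-8 : ℤ) * (unitsOf x : ℤ)) from
      Multiset.map_congr rfl fun x hx => by
        rcases hm8 x hx with e | e <;> rw [e] <;> simp [signedDeg, unitsOf],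
    show s25.map signedDeg = s25.map (fun _ => (-50 : ℤ)) from
      Multiset.map_congr rfl fun x hx => by rw [hm25 x hx]; simp [signedDeg],
    Multiset.sum_map_mul_left, ← hu, Multiset.map_const', Multiset.sum_replicate, nsmul_eq_mul] at hD
  have hv4 : v = 4 * (Multiset.card s25 : ℤ) := by
    rw [hv, show s25.map (fun x => (unitsOf x : ℤ)) = s25.map (fun _ => (4 : ℤ)) from
      Multiset.map_congr rfl fun x hx => by rw [hm25 x hx]; simp [unitsOf],
      Multiset.map_const', Multiset.sum_replicate, nsmul_eq_mul, mul_comm]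
  -- the odd item
  obtain ⟨o5, ho5s, j, hc5, hj1, hjb, hd5, h95⟩ := h.exists_odd
  have hj3 : j = 3 ∧ o5 = ((-1 : ℤ), 125) := by
    obtain ⟨c5, d5⟩ := o5
    interval_cases j <;> norm_num at h95
    · dsimp only at hd5
      subst hd5
      exact ⟨rfl, by simp [h95]⟩
  obtain ⟨-, rfl⟩ := hj3
  have ho5r : ((-1 : ℤ), 125) ∈ rest :=
    Multiset.mem_filter.2 ⟨Multiset.mem_filter.2 ⟨ho5s, by unfold FiveRest; decide⟩, by decide⟩
  obtain ⟨rr, hrr⟩ := Multiset.exists_cons_of_mem ho5r
  rw [hrr, Multiset.map_cons, Multiset.sum_cons] at hw hD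
  have h125u : (unitsOf ((-1 : ℤ), 125) : ℤ) = 1 := by simp [unitsOf]
  have h125d : signedDeg ((-1 : ℤ), 125) = -125 := by simp [signedDeg]
  rw [h125u] at hw
  rw [h125d] at hD
  have hrru : 0 ≤ (rr.map fun x => (unitsOf x : ℤ)).sum := Multiset.sum_nonneg fun z hz => by
    obtain ⟨x, -, rfl⟩ := Multiset.mem_map.1 hz
    exact Int.natCast_nonneg _
  have hkey : 90 * u + 54 * v ≥ 371 := by
    by_contra hlt
    nlinarith
  have hu0 : 0 ≤ u := Multiset.sum_nonneg fun z hz => by
    obtain ⟨x, -, rfl⟩ := Multiset.mem_map.1 hz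
    exact Int.natCast_nonneg _
  -- the shapes of what is left
  have hone : ∀ x ∈ rr, (rr.map fun x => (unitsOf x : ℤ)).sum ≤ 3 →
      (x.1 = 1 ∨ x.1 = -1) ∧ ∃ i j, j ≤ 3 ∧ x.2 = 2 ^ i * 5 ^ j ∧ x.2 ≠ 0 := by
    intro x hx hle3
    have hxs : x ∈ s := (hmr x (hrr ▸ Multiset.mem_cons_of_mem hx)).1
    obtain ⟨hA', i, j, hi, hj, hd⟩ := h.adm x hxs
    refine ⟨?_, i, j, hj, hd, by have := hA'.2.1; omega⟩
    obtain ⟨r', rfl⟩ := Multiset.exists_cons_of_mem hx
    rw [Multiset.map_cons, Multiset.sum_cons] at hle3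
    have : 0 ≤ (r'.map fun x => (unitsOf x : ℤ)).sum := Multiset.sum_nonneg fun z hz => by
      obtain ⟨x, -, rfl⟩ := Multiset.mem_map.1 hz
      exact Int.natCast_nonneg _
    rcases hA'.1 with e | e | e | e
    · exact Or.inl e
    · exact Or.inr e
    all_goals (exfalso; have h4 : unitsOf x = 4 := (by simp [unitsOf, e]); rw [h4] at hle3; push_cast at hle3; omega)
  have hcard : (rr.map fun x => (unitsOf x : ℤ)).sum ≤ 3 →
      (rr.map fun x => (unitsOf x : ℤ)).sum = (Multiset.card rr : ℤ) := by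
    intro hle3
    rw [show rr.map (fun x => (unitsOf x : ℤ)) = rr.map (fun _ => (1 : ℤ)) from
      Multiset.map_congr rfl fun x hx => by
        rcases (hone x hx hle3).1 with e | e <;> simp [unitsOf, e],
      Multiset.map_const', Multiset.sum_replicate, nsmul_eq_mul, mul_one]
  have hsingle : ∀ k : ℕ, (k = 172 ∨ k = 190) → Multiset.card rr = 1 →
      (rr.map fun x => (unitsOf x : ℤ)).sum ≤ 3 → (rr.map signedDeg).sum ≠ k := by
    intro k hk h1 hle3 hsum
    obtain ⟨x, rfl⟩ := Multiset.card_eq_one.1 h1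
    obtain ⟨hc, i, j, -, hd, -⟩ := hone x (Multiset.mem_singleton_self x) hle3
    rw [Multiset.map_singleton, Multiset.sum_singleton] at hsum
    refine two_five_ne (k := k) (by omega) i j ?_
    rw [← hd]
    rcases hc with e | e <;> simp [signedDeg, e] at hsum <;> omega
  have hs25c : (Multiset.card s25 : ℤ) = 0 ∨ (Multiset.card s25 : ℤ) = 1 := by omega
  rcases hs25c with h0 | h1
  · -- no 25
    have hu57 : u = 5 ∨ u = 6 ∨ u = 7 := by omega
    rcases hu57 with e | e | e
    · -- the solution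
      have hle3 : (rr.map fun x => (unitsOf x : ℤ)).sum ≤ 3 := by omega
      have h2 : Multiset.card rr = 2 := by
        have := hcard hle3
        omega
      obtain ⟨x, y, rfl⟩ := Multiset.card_eq_two.1 h2
      have hsum : signedDeg x + signedDeg y = 164 := by
        simp at hD
        omega
      obtain ⟨hcx, i, j, hj, hdx, -⟩ := hone x (by simp) hle3
      obtain ⟨hcy, i', j', hj', hdy, -⟩ := hone y (by simp) hle3
      have hxs : x ∈ s := (hmr x (hrr ▸ Multiset.mem_cons_of_mem (by simp))).1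
      have hys : y ∈ s := (hmr y (hrr ▸ Multiset.mem_cons_of_mem (by simp))).1
      have small : ∀ z : ℤ × ℕ, z ∈ s → (z.1 = 1 ∨ z.1 = -1) → ∀ i j, j ≤ 3 → i < 3 →
          z.2 = 2 ^ i * 5 ^ j → signedDeg z = 10 ∨ signedDeg z = 100 ∨ signedDeg z = -125 := by
        intro z hz hc i j hj hi hd
        obtain ⟨hA', -⟩ := h.adm z hz
        have hk := List.all_eq_true.1 (List.all_eq_true.1 pair164 i (List.mem_range.2 hi)) j
          (List.mem_range.2 (by omega))
        rw [decide_eq_true_eq, ← hd] at hk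
        obtain ⟨-, h1', -, h9, -⟩ := hA'
        have := hk (by rcases hc with e' | e' <;> rw [e'] at h9 <;> omega) h1'
        rcases hc with e' | e' <;> rw [e'] at h9 <;> simp [signedDeg, e'] <;> omega
      have dvd8 : ∀ z : ℤ × ℕ, ∀ i j, 3 ≤ i → z.2 = 2 ^ i * 5 ^ j → (8 : ℤ) ∣ signedDeg z := by
        intro z i j hi hd
        refine dvd_mul_of_dvd_right ?_ _
        rw [hd, show (8 : ℤ) = ((8 : ℕ) : ℤ) from rfl, Int.natCast_dvd_natCast]
        exact dvd_mul_of_dvd_left (by rw [show 8 = 2 ^ 3 from rfl]; exact pow_dvd_pow 2 hi) _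
      have main : ∀ x y : ℤ × ℕ, x ∈ s → y ∈ s → (x.1 = 1 ∨ x.1 = -1) → (y.1 = 1 ∨ y.1 = -1) →
          signedDeg x + signedDeg y = 164 → ∀ i j, j ≤ 3 → i < 3 → x.2 = 2 ^ i * 5 ^ j →
          x = ((1 : ℤ), 100) ∧ y = ((1 : ℤ), 64) := by
        intro x y hxs hys hcx hcy hsum i j hj hi hdx
        have hx3 := small x hxs hcx i j hj hi hdx
        obtain ⟨hAy, i', j', -, -, hdy⟩ := h.adm y hys
        obtain ⟨cx, dx⟩ := x
        obtain ⟨cy, dy⟩ := y
        have hk : ∀ i' j' : ℕ, 2 ^ i' * 5 ^ j' ≠ 154 ∧ 2 ^ i' * 5 ^ j' ≠ 289 := by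
          intro i' j'
          constructor <;> intro e'
          · have : (7 : ℕ) ∣ 2 ^ i' * 5 ^ j' := e' ▸ by norm_num
            rcases (Nat.Prime.dvd_mul (by norm_num)).1 this with e'' | e''
            · have := (Nat.prime_dvd_prime_iff_eq (by norm_num) Nat.prime_two).1
                ((by norm_num : Nat.Prime 7).dvd_of_dvd_pow e'')
              omega
            · have := (Nat.prime_dvd_prime_iff_eq (by norm_num) (by norm_num : Nat.Prime 5)).1
                ((by norm_num : Nat.Prime 7).dvd_of_dvd_pow e'')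
              omega
          · have : (17 : ℕ) ∣ 2 ^ i' * 5 ^ j' := e' ▸ by norm_num
            rcases (Nat.Prime.dvd_mul (by norm_num)).1 this with e'' | e''
            · have := (Nat.prime_dvd_prime_iff_eq (by norm_num) Nat.prime_two).1
                ((by norm_num : Nat.Prime 17).dvd_of_dvd_pow e'')
              omega
            · have := (Nat.prime_dvd_prime_iff_eq (by norm_num) (by norm_num : Nat.Prime 5)).1
                ((by norm_num : Nat.Prime 17).dvd_of_dvd_pow e'')
              omega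
        have hk' := hk i' j'
        dsimp only at hdy hcx hcy
        rw [← hdy] at hk'
        have hdy0 : (1 : ℤ) < dy := by exact_mod_cast hAy.2.1
        rcases hcx with rfl | rfl <;> rcases hcy with rfl | rfl <;>
          simp [signedDeg] at hsum hx3 ⊢ <;> omega
      refine ⟨s8, ?_, hm8⟩
      have hs25e : s25 = 0 := Multiset.card_eq_zero.1 (by omega)
      have hxy : (x = ((1 : ℤ), 100) ∧ y = ((1 : ℤ), 64)) ∨
          (y = ((1 : ℤ), 100) ∧ x = ((1 : ℤ), 64)) := by
        rcases Nat.lt_or_ge i 3 with hi | hi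
        · exact Or.inl (main x y hxs hys hcx hcy hsum i j hj hi hdx)
        rcases Nat.lt_or_ge i' 3 with hi' | hi'
        · exact Or.inr (main y x hys hxs hcy hcx (by omega) i' j' hj' hi' hdy)
        exfalso
        have := dvd_add (dvd8 x i j hi hdx) (dvd8 y i' j' hi' hdy)
        rw [hsum] at this
        norm_num at this
      rw [hsplit, hs25e, hrr, zero_add]
      rcases hxy with ⟨rfl, rfl⟩ | ⟨rfl, rfl⟩
      all_goals (simp only [Multiset.insert_eq_cons, ← Multiset.singleton_add]; abel)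
    · exfalso
      have hle3 : (rr.map fun x => (unitsOf x : ℤ)).sum ≤ 3 := by omega
      have := hcard hle3
      exact hsingle 172 (Or.inl rfl) (by omega) hle3 (by omega)
    · exfalso
      have hle3 : (rr.map fun x => (unitsOf x : ℤ)).sum ≤ 3 := by omega
      have := hcard hle3
      obtain rfl : rr = 0 := Multiset.card_eq_zero.1 (by omega)
      simp at hD
      omega
  · exfalso
    have hle3 : (rr.map fun x => (unitsOf x : ℤ)).sum ≤ 3 := by omega
    have := hcard hle3
    have hu23 : u = 2 ∨ u = 3 := by omega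
    rcases hu23 with e | e
    · exact hsingle 190 (Or.inr rfl) (by omega) hle3 (by omega)
    · obtain rfl : rr = 0 := Multiset.card_eq_zero.1 (by omega)
      simp at hD
      omega

theorem fiveSquares : ((List.range 25).all fun y => (List.range 17).all fun w =>
    let yi : ℤ := (y : ℤ) - 12
    let wi : ℤ := (w : ℤ) - 8
    let x : ℤ := 1 + yi + wi
    let Z : ℤ := 8000 - 64 * x * x + 80 * yi * yi + 125 * wi * wi
    !(decide (-13 ≤ x) && decide (x ≤ 13) && decide (0 ≤ Z)) ||
      !(Nat.sqrt Z.toNat * Nat.sqrt Z.toNat == Z.toNat) ||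
      !(125 * 2 ^ 8 % Nat.sqrt Z.toNat == 0)) = true := by
  decide +kernel

/-- The character values at an involution for `q = 5`. -/
theorem no_involution {x y w : ℤ} {C t : ℕ} (hx : |x| ≤ 13) (hy : |y| ≤ 12) (hw : |w| ≤ 8)
    (hrow : 1 - x + y + w = 0)
    (hC : (C : ℤ) * C = 2 ^ (2 * t) * (8000 - 64 * x * x + 80 * y * y + 125 * w * w))
    (hdvd : C ∣ 125 * 2 ^ (2 * t + 6)) : False := by
  rw [abs_le] at hx hy hw
  set Z : ℤ := 8000 - 64 * x * x + 80 * y * y + 125 * w * w with hZ
  have hZ0 : 0 ≤ Z := by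
    by_contra hneg
    have : (0 : ℤ) < 2 ^ (2 * t) := by positivity
    nlinarith
  have hdv : 2 ^ t ∣ C := by
    have : (2 ^ t) ^ 2 ∣ C ^ 2 := by
      refine ⟨Z.toNat, ?_⟩
      have hc : ((C ^ 2 : ℕ) : ℤ) = (((2 ^ t) ^ 2 * Z.toNat : ℕ) : ℤ) := by
        push_cast
        rw [Int.toNat_of_nonneg hZ0, sq, hC, ← pow_mul, mul_comm t 2]
      exact_mod_cast hc
    exact (Nat.pow_dvd_pow_iff (by norm_num)).1 this
  obtain ⟨r, rfl⟩ := hdv
  have hr : (r * r : ℕ) = Z.toNat := by
    have h1 : ((r : ℤ) * r) = Z := by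
      have h2 : (2 : ℤ) ^ (2 * t) * ((r : ℤ) * r) = 2 ^ (2 * t) * Z := by
        rw [← hC]; push_cast; ring
      exact mul_left_cancel₀ (by positivity) h2
    omega
  have hsq : Nat.sqrt Z.toNat = r := by rw [← hr, ← sq, Nat.sqrt_eq']
  have hrdvd : r ∣ 125 * 2 ^ (t + 6) := by
    rw [show 2 * t + 6 = t + (t + 6) by ring, pow_add 2 t, mul_left_comm] at hdvd
    exact Nat.dvd_of_mul_dvd_mul_left (by positivity) hdvd
  have hr256 : r < 2 ^ 8 := by
    rw [← hsq, Nat.sqrt_lt]
    have : Z ≤ 30000 := by nlinarith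
    omega
  have hr125 : r ∣ 125 * 2 ^ 8 := by
    obtain ⟨u, v, hu, hv, rfl⟩ := exists_dvd_and_dvd_of_dvd_mul hrdvd
    obtain ⟨e, -, rfl⟩ := (Nat.dvd_prime_pow Nat.prime_two).1 hv
    refine Nat.mul_dvd_mul hu (pow_dvd_pow 2 ?_)
    have hu0 : 0 < u := Nat.pos_of_dvd_of_pos hu (by norm_num)
    have h2e : 2 ^ e < 2 ^ 8 := lt_of_le_of_lt (Nat.le_mul_of_pos_left _ hu0) hr256
    exact ((Nat.pow_lt_pow_iff_right (by norm_num)).1 h2e).le
  have key := List.all_eq_true.1 (List.all_eq_true.1 fiveSquares (y + 12).toNat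
    (List.mem_range.2 (by omega))) (w + 8).toNat (List.mem_range.2 (by omega))
  simp only [Bool.or_eq_true, Bool.not_eq_true', Bool.and_eq_false_iff, decide_eq_false_iff_not,
    beq_eq_false_iff_ne, Int.toNat_of_nonneg (show 0 ≤ y + 12 by omega),
    Int.toNat_of_nonneg (show 0 ≤ w + 8 by omega), add_sub_cancel_right] at key
  rw [show (1 : ℤ) + y + w = x by omega, ← hZ, hsq] at key
  rcases key with (((e | e) | e) | e) | e
  · omega
  · omega
  · omega
  · exact e hr
  · exact e (Nat.mod_eq_zero_of_dvd hr125)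

end Cfsg.Agent.SelfNineEight
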