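import Cfsg.Agent.Lib.SelfNineEight.Count
import Cfsg.Agent.Lib.SelfNineEight.Five

/-!
# No group satisfies the hypotheses
-/

set_option autoImplicit false
set_option linter.style.haveILetI false
set_option linter.unusedSectionVars false

namespace Cfsg.Agent.SelfNineEight

open Cfsg Cfsg.Agent
open scoped Classical

universe u

variable {G : Type u} [Group G] [Fintype G] [IsSimpleGroup G] {q a b : ℕ}

/-- The index of the normaliser of a Sylow `q`-subgroup, when three does not divide its order. -/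
theorem Config.index_form (hC : Config G q a b) [Fact q.Prime] (hb : 1 ≤ b) (Q : Sylow q G)
    (h3 : ¬ 3 ∣ Nat.card (Subgroup.normalizer ((Q : Subgroup G) : Set G))) :
    ∃ i ≤ a, (Subgroup.normalizer ((Q : Subgroup G) : Set G)).index = 9 * 2 ^ i ∧
      9 * 2 ^ i % q = 1 ∧ q ^ b ∣ Nat.factorial (9 * 2 ^ i) := by
  set N := Subgroup.normalizer ((Q : Subgroup G) : Set G) with hN
  have hQc : Nat.card (Q : Subgroup G) = q ^ b :=
    Q.card_eq_multiplicity.trans (by rw [hC.factorization_card.2])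
  obtain ⟨r, hr⟩ : q ^ b ∣ Nat.card N := hQc ▸ Subgroup.card_dvd_of_le Subgroup.le_normalizer
  have hdn := hC.dvd_n h3
  rw [hr, mul_comm (2 ^ a)] at hdn
  obtain ⟨x, hx, rfl⟩ := (Nat.dvd_prime_pow Nat.prime_two).1
    (Nat.dvd_of_mul_dvd_mul_left (pow_pos hC.hq.pos b) hdn)
  have hidx : N.index = 9 * 2 ^ (a - x) := by
    have h := N.index_mul_card
    rw [hr, hC.card, show 2 ^ a = 2 ^ (a - x) * 2 ^ x by rw [← pow_add]; congr 1; omega] at h
    exact Nat.eq_of_mul_eq_mul_right (Nat.mul_pos (pow_pos hC.hq.pos b) (pow_pos two_pos x))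
      (by rw [h]; ring)
  have hmod : N.index % q = 1 := by
    have h1 := card_sylow_modEq_one q G
    rw [Sylow.card_eq_index_normalizer Q] at h1
    have h2 : N.index % q = 1 % q := h1
    rwa [Nat.mod_eq_of_lt hC.hq.one_lt] at h2
  refine ⟨a - x, by omega, hidx, hidx ▸ hmod, hidx ▸ ?_⟩
  refine dvd_trans ?_ (SmallSimple.card_dvd_factorial (H := N) fun htop => ?_)
  · rw [hC.card]
    exact Dvd.dvd.mul_left (dvd_mul_left _ _) 9
  · rw [htop, Subgroup.index_top] at hidx
    omega

/-- There is no simple group of order `9792` of this kind. -/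
theorem not_9792 (hC : Config G 17 6 1)
    (h3 : ∀ Q : Sylow 17 G, ¬ 3 ∣ Nat.card (Subgroup.normalizer ((Q : Subgroup G) : Set G))) :
    False := by
  haveI : Fact (Nat.Prime 17) := ⟨by norm_num⟩
  obtain ⟨Q⟩ := (inferInstance : Nonempty (Sylow 17 G))
  set N := Subgroup.normalizer ((Q : Subgroup G) : Set G) with hN
  obtain ⟨i, hi, hidx, hmod, -⟩ := hC.index_form le_rfl Q (h3 Q)
  obtain rfl : i = 1 := by interval_cases i <;> first | rfl | norm_num at hmod
  have hQc : Nat.card (Q : Subgroup G) = 17 :=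
    Q.card_eq_multiplicity.trans (by rw [hC.factorization_card.2, pow_one])
  have hS : Nat.card (Sylow 17 G) = 18 := by
    rw [Sylow.card_eq_index_normalizer Q]
    exact hidx
  have hNc : Nat.card N = 544 := by
    have h := N.index_mul_card
    rw [hidx, hC.card] at h
    omega
  -- the action is faithful
  have hinj : ∀ h : G, (∀ P : Sylow 17 G, h • P = P) → h = 1 := by
    intro h hh
    rcases (MonoidHom.normal_ker (MulAction.toPermHom G (Sylow 17 G))).eq_bot_or_eq_top with e | e
    · exact Subgroup.mem_bot.1 (e ▸ (Equiv.ext hh : MulAction.toPermHom G (Sylow 17 G) h = 1))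
    · exfalso
      have htop : N = ⊤ := eq_top_iff.2 fun g _ => SmallSimple.smul_sylow_eq_iff.1 (by
        have hg : MulAction.toPermHom G (Sylow 17 G) g = 1 := MonoidHom.mem_ker.1 (e ▸ Subgroup.mem_top g)
        exact Equiv.ext_iff.1 hg Q)
      rw [show Subgroup.normalizer ((Q : Subgroup G) : Set G) = ⊤ from htop, Subgroup.index_top]
        at hidx
      omega
  -- the centraliser is the Sylow subgroup
  have hcent : Subgroup.centralizer ((Q : Subgroup G) : Set G) ≤ (Q : Subgroup G) := by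
    intro g hg
    obtain ⟨P, hP⟩ : ∃ P : Sylow 17 G, P ≠ Q := by
      by_contra hall
      push Not at hall
      haveI : Subsingleton (Sylow 17 G) := ⟨fun A B => (hall A).trans (hall B).symm⟩
      have := Finite.card_le_one_iff_subsingleton.2 this
      omega
    have hfree : ∀ u ∈ (Q : Subgroup G), u • P = P → u = 1 := by
      intro u hu huP
      by_contra hu1
      refine hP (Sylow.ext (Subgroup.eq_of_le_of_card_ge ?_ ?_)).symm
      · have huPm := SmallSimple.mem_of_smul_sylow_eq hu huP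
        intro v hv
        haveI : Fact (Nat.Prime 17) := ⟨by norm_num⟩
        have hgen : Subgroup.zpowers u = (Q : Subgroup G) := by
          refine Subgroup.eq_of_le_of_card_ge (Subgroup.zpowers_le.2 hu) ?_
          have hd : orderOf u ∣ 17 := hQc ▸ Subgroup.orderOf_dvd_natCard _ hu
          rcases (Nat.dvd_prime (by norm_num)).1 hd with e | e
          · exact absurd (orderOf_eq_one_iff.1 e) hu1
          · rw [Nat.card_zpowers, e, hQc]
        rw [← hgen] at hv
        exact Subgroup.zpowers_le.2 huPm hv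
      · rw [P.card_eq_multiplicity, ← Q.card_eq_multiplicity]
    -- every other Sylow subgroup is a translate of `P`
    have hcover : ∀ R : Sylow 17 G, R ≠ Q → ∃ u ∈ (Q : Subgroup G), u • P = R := by
      intro R hR
      have hQQ : ∀ u ∈ (Q : Subgroup G), u • Q = Q := fun u hu =>
        SmallSimple.smul_sylow_eq_iff.2 (Subgroup.le_normalizer hu)
      let f : Option (Q : Subgroup G) → Sylow 17 G := fun o => match o with
        | none => Q
        | some u => (u : G) • P
      have hf : Function.Injective f := by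
        rintro (_ | u) (_ | v) e
        · rfl
        · exfalso
          refine hP (smul_left_cancel (v : G) ?_)
          exact e.symm.trans (hQQ v v.2).symm
        · exfalso
          refine hP (smul_left_cancel (u : G) ?_)
          exact e.trans (hQQ u u.2).symm
        · have e' : (u : G) • P = (v : G) • P := e
          have := hfree ((v : G)⁻¹ * u) (mul_mem (inv_mem v.2) u.2) (by
            rw [mul_smul, e', inv_smul_smul])
          exact congrArg some (Subtype.ext (inv_mul_eq_one.1 this).symm)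
      have hbij : Function.Bijective f := by
        refine (Nat.bijective_iff_injective_and_card f).2 ⟨hf, ?_⟩
        rw [Finite.card_option, hQc, hS]
      obtain ⟨o, ho⟩ := hbij.2 R
      rcases o with _ | u
      · exact absurd ho.symm hR
      · exact ⟨u, u.2, ho⟩
    have hgQ : g • Q = Q := SmallSimple.smul_sylow_eq_iff.2 (Subgroup.centralizer_le_normalizer _ hg)
    obtain ⟨u, hu, hue⟩ := hcover (g • P) fun e => hP (smul_left_cancel g (e.trans hgQ.symm))
    have h1 := hinj (u⁻¹ * g) fun R => ?_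
    · rw [← inv_mul_eq_one.1 h1]
      exact hu
    rcases eq_or_ne R Q with rfl | hR
    · rw [mul_smul, hgQ]
      exact SmallSimple.smul_sylow_eq_iff.2 (Subgroup.le_normalizer (inv_mem hu))
    · obtain ⟨v, hv, rfl⟩ := hcover R hR
      have hgv : g * v = v * g := (Subgroup.mem_centralizer_iff.1 hg v hv).symm
      haveI : IsCyclic (Q : Subgroup G) := isCyclic_of_prime_card hQc
      letI := IsCyclic.commGroup (α := (Q : Subgroup G))
      have huv : u⁻¹ * v = v * u⁻¹ :=
        congrArg Subtype.val (mul_comm (⟨u⁻¹, inv_mem hu⟩ : (Q : Subgroup G)) ⟨v, hv⟩)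
      rw [← mul_smul, mul_assoc, hgv, ← mul_assoc, huv, mul_assoc, mul_smul, mul_smul, ← hue,
        inv_smul_smul]
  -- the normaliser is too large
  let φ : N →* MulAut (Q : Subgroup G) := (Q : Subgroup G).normalizerMonoidHom
  have hker : φ.ker = (Subgroup.centralizer ((Q : Subgroup G) : Set G)).subgroupOf N :=
    (Q : Subgroup G).normalizerMonoidHom_ker
  haveI : IsCyclic (Q : Subgroup G) := isCyclic_of_prime_card hQc
  have hAut : Nat.card (MulAut (Q : Subgroup G)) = 16 := by
    rw [IsCyclic.card_mulAut, hQc, Nat.totient_prime (by norm_num)]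
  have hk : Nat.card φ.ker ≤ 17 := by
    rw [hker, card_subgroupOf (Subgroup.centralizer_le_normalizer _)]
    exact (Subgroup.card_le_of_le hcent).trans hQc.le
  have hrange : Nat.card φ.range ≤ 16 := by
    rw [← hAut]
    exact Subgroup.card_le_card_group φ.range
  have hmul := Subgroup.card_eq_card_quotient_mul_card_subgroup φ.ker
  rw [Nat.card_congr (QuotientGroup.quotientKerEquivRange φ).toEquiv, hNc] at hmul
  have : Nat.card φ.range * Nat.card φ.ker ≤ 16 * 17 := Nat.mul_le_mul hrange hk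
  omega

/-- The character values at an involution contradict the degrees when `q = 5`. -/
theorem not_five_six (hC : Config G 5 a 3) {z : G} (hz : orderOf z = 3) (ha : 4 ≤ a)
    (ha6 : a % 6 = 0) (hle : pairCount z ≤ 6 * 2 ^ a + 1) : False := by
  obtain ⟨r, hdec, hr⟩ := decomp_pair (hC.items_spec hz) (by omega) hle
  obtain ⟨x, C, hCd, hrow, hb, hCsq⟩ := hC.involution hz
  have hone : ∀ i : ℤ × ℕ, i = ((-1 : ℤ), 125) ∨ i = ((1 : ℤ), 100) ∨ i = ((1 : ℤ), 64) →
      ∃ χ, (nonvan z).filter (fun φ => itemOf z φ = i) = {χ} := by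
    intro i hi
    refine Finset.card_eq_one.1 ?_
    have hr0 : Multiset.count i r = 0 := Multiset.count_eq_zero.2 fun hm => by
      rcases hr i hm with e | e <;> rcases hi with e' | e' | e' <;> rw [e'] at e <;> simp at e
    have h := congrArg (Multiset.count i) hdec
    rw [items, Multiset.count_map] at h
    rw [Finset.card_def, Finset.filter_val,
      Multiset.filter_congr (fun φ _ => (eq_comm : itemOf z φ = i ↔ i = itemOf z φ)), h]
    rcases hi with rfl | rfl | rfl <;> simp [hr0]
  obtain ⟨χ1, h1⟩ := hone _ (Or.inl rfl)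
  obtain ⟨χ2, h2⟩ := hone _ (Or.inr (Or.inl rfl))
  obtain ⟨χ3, h3⟩ := hone _ (Or.inr (Or.inr rfl))
  have m1 := Finset.mem_filter.1 (h1.symm ▸ Finset.mem_singleton_self χ1 :
    χ1 ∈ (nonvan z).filter (fun φ => itemOf z φ = ((-1 : ℤ), 125)))
  have m2 := Finset.mem_filter.1 (h2.symm ▸ Finset.mem_singleton_self χ2 :
    χ2 ∈ (nonvan z).filter (fun φ => itemOf z φ = ((1 : ℤ), 100)))
  have m3 := Finset.mem_filter.1 (h3.symm ▸ Finset.mem_singleton_self χ3 :
    χ3 ∈ (nonvan z).filter (fun φ => itemOf z φ = ((1 : ℤ), 64)))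
  obtain ⟨c1, d1⟩ := Prod.ext_iff.1 m1.2
  obtain ⟨c2, d2⟩ := Prod.ext_iff.1 m2.2
  obtain ⟨c3, d3⟩ := Prod.ext_iff.1 m3.2
  simp only [itemOf] at c1 d1 c2 d2 c3 d3
  have hzero : ∀ χ ∈ nonvan z, χ ∉ ({χ1, χ2, χ3} : Finset _) → x χ = 0 := by
    intro χ hχ hn
    simp only [Finset.mem_insert, Finset.mem_singleton, not_or] at hn
    have hmem : itemOf z χ ∈ items z := Multiset.mem_map_of_mem _ hχ
    rw [hdec] at hmem
    simp only [Multiset.mem_cons] at hmem
    rcases hmem with e | e | e | e
    · exact absurd (Finset.mem_singleton.1 (h1 ▸ Finset.mem_filter.2 ⟨hχ, e⟩)) hn.1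
    · exact absurd (Finset.mem_singleton.1 (h2 ▸ Finset.mem_filter.2 ⟨hχ, e⟩)) hn.2.1
    · exact absurd (Finset.mem_singleton.1 (h3 ▸ Finset.mem_filter.2 ⟨hχ, e⟩)) hn.2.2
    · have hbound := hb χ
      rcases hr _ e with e' | e' <;> obtain ⟨ec, ed⟩ := Prod.ext_iff.1 e' <;>
        simp only [itemOf] at ec ed <;> rw [ec, ed] at hbound <;>
        exact abs_eq_zero.1 (by have := abs_nonneg (x χ); push_cast at hbound; omega)
  have hsub : ({χ1, χ2, χ3} : Finset _) ⊆ nonvan z := by
    intro χ hχ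
    simp only [Finset.mem_insert, Finset.mem_singleton] at hχ
    rcases hχ with rfl | rfl | rfl
    exacts [m1.1, m2.1, m3.1]
  have n12 : χ1 ≠ χ2 := fun e => by rw [e, c2] at c1; norm_num at c1
  have n13 : χ1 ≠ χ3 := fun e => by rw [e, c3] at c1; norm_num at c1
  have n23 : χ2 ≠ χ3 := fun e => by rw [e, d3] at d2; norm_num at d2
  rw [← Finset.sum_subset hsub (fun χ hχ hn => by rw [hzero χ hχ hn, mul_zero]),
    Finset.sum_insert (by simp [n12, n13]), Finset.sum_pair n23, c1, c2, c3] at hrow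
  rw [← Finset.sum_subset hsub (fun χ hχ hn => by rw [hzero χ hχ hn]; simp),
    Finset.sum_insert (by simp [n12, n13]), Finset.sum_pair n23, c1, c2, c3, d1, d2, d3] at hCsq
  have b1 := hb χ1
  have b2 := hb χ2
  have b3 := hb χ3
  rw [c1, d1] at b1
  rw [c2, d2] at b2
  rw [c3, d3] at b3
  obtain ⟨t, ht⟩ : ∃ t, a = 2 * t + 6 := ⟨(a - 6) / 2, by omega⟩
  subst ht
  refine no_involution (x := x χ1) (y := x χ2) (w := x χ3) (C := C) (t := t) ?_ ?_ ?_ ?_ ?_
    (by rw [mul_comm 125]; exact hCd)
  · push_cast at b1; omega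
  · push_cast at b2; omega
  · push_cast at b3; omega
  · omega
  · have h : (((C : ℤ) * C : ℤ) : ℂ) = ((2 ^ (2 * t) *
        (8000 - 64 * x χ1 * x χ1 + 80 * x χ2 * x χ2 + 125 * x χ3 * x χ3) : ℤ) : ℂ) := by
      rw [pow_add] at hCsq
      push_cast at hCsq ⊢
      linear_combination hCsq
    exact_mod_cast h

/-- No group satisfies the hypotheses. -/
theorem Config.false (hC : Config G q a b) : False := by
  haveI := Fact.mk hC.hq
  haveI := Fact.mk Nat.prime_three
  obtain ⟨z, hz⟩ := exists_prime_orderOf_dvd_card' (G := G) 3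
    (by rw [hC.card]; exact dvd_mul_of_dvd_left (by norm_num) _)
  have hI := hC.items_spec hz
  have h72 := hC.sylow_count
  have h9 : 2 ^ a * q ^ b % 9 = 8 := by omega
  have hb : 1 ≤ b := by
    obtain ⟨-, -, j, -, h1, h2, -⟩ := hI.exists_odd
    omega
  have ha : 3 ≤ a := by
    have h8 : 2 ^ 3 ∣ 2 ^ a * q ^ b := by omega
    have hne : ¬ 2 ∣ q := fun h => by
      have := (Nat.prime_dvd_prime_iff_eq Nat.prime_two hC.hq).1 h
      have := hC.hq5
      omega
    have := (Nat.Coprime.pow 3 b (Nat.prime_two.coprime_iff_not_dvd.2 hne)).dvd_of_dvd_mul_right h8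
    exact (Nat.pow_dvd_pow_iff_le_right (by norm_num)).1 this
  obtain ⟨l, c, hc, hQ, hE⟩ := hC.count hz ha hb
  have hpa : 2 * 2 ^ (a - 1) = 2 ^ a := by rw [← pow_succ']; congr 1; omega
  have hB1 : 1 ≤ q ^ b := pow_pos hC.hq.pos b
  -- `A = 32`, `q = 5`, `l = 6`
  have hbig : a = 5 ∧ q = 5 ∧ l = 6 → 7 + l * (q ^ b - 1) ≤ pairCount z → False := by
    rintro ⟨rfl, rfl, rfl⟩ hge
    exact case_32 hI (by omega)
  rcases hE with hE | ⟨hev, ha4, hle, heq⟩ | ⟨hodd, ha5, hge, hle, heq⟩
  · rcases hQ with ⟨rfl, h3⟩ | ⟨hB3, m, hlm, hm, hfac⟩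
    · obtain ⟨Q⟩ := (inferInstance : Nonempty (Sylow q G))
      obtain ⟨i, hi, -, him, hif⟩ := hC.index_form hb Q (h3 Q)
      obtain ⟨rfl, rfl, rfl⟩ := case_zero hI hC.hq hC.hq5 ha h72 hc (by omega) ⟨i, hi, him, hif⟩
      exact not_9792 hC h3
    · exact hbig (case_pos hI hC.hq hC.hq5 ha h9 hB3 (k := 0) (Or.inl rfl) hc hlm hm hfac (by omega))
        (by omega)
  · rcases hQ with ⟨rfl, -⟩ | ⟨hB3, -⟩
    · simp only [zero_mul, add_zero] at hle heq
      obtain ⟨rfl, rfl, ha6⟩ := case_six hI hC.hq hC.hq5 ha4 hev h9 (by omega)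
        (fun h => by have := heq h; omega)
      exact not_five_six hC hz ha4 ha6 (by omega)
    · exact Nat.not_odd_iff_even.2 hev (odd_of_B h9 hB3)
  · rcases hQ with ⟨rfl, -⟩ | ⟨hB3, m, hlm, hm, hfac⟩
    · simp only [zero_mul, add_zero] at hle heq
      exact case_half hI hC.hq hC.hq5 ha5 hodd h9 hc hle heq
    · exact hbig (case_pos hI hC.hq hC.hq5 ha h9 hB3 (k := 3) (Or.inr ⟨rfl, ha5⟩) hc hlm hm hfac
        (by omega)) hge

end Cfsg.Agent.SelfNineEight
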