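import Cfsg.Agent.Lib.SelfNineEight.Basic
import Cfsg.Agent.Lib.SelfCentThree.Quotient
import Cfsg.Agent.Lib.SelfCentThree.Extension
import Cfsg.Agent.Lib.SelfCentThree.Simple
import Cfsg.Agent.Lib.SmallSimple.Low

/-!
# The normalisers of the good subgroups

By the theorem on groups with a self-centralising element of order three, the normaliser of a
nontrivial good subgroup has a good core of index three or six, unless `q = 5` and it has a
section `A₅`, and then the subgroup is a 2-group which is not a maximal good subgroup.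
-/

set_option autoImplicit false
set_option linter.style.haveILetI false
set_option linter.unusedSectionVars false

namespace Cfsg.Agent.SelfNineEight

open Cfsg Cfsg.Agent Cfsg.Agent.SelfCentThree

universe u

variable {G : Type u} [Group G] [Finite G] {q a b : ℕ}

/-- A good subgroup `O` containing `D` which is the largest good subgroup of `N(D)`. -/
structure Core (y : G) (D O : Subgroup G) : Prop where
  le : D ≤ O
  le_normalizer : O ≤ Subgroup.normalizer (D : Set G)
  good : Good y O
  normal : (O.subgroupOf (Subgroup.normalizer (D : Set G))).Normal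
  card : Nat.card (Subgroup.normalizer (D : Set G)) = 3 * Nat.card O ∨
    Nat.card (Subgroup.normalizer (D : Set G)) = 6 * Nat.card O
  largest : ∀ V : Subgroup G, Good y V → V ≤ Subgroup.normalizer (D : Set G) → V ≤ O

theorem a5_four : ∀ g : alternatingGroup (Fin 5), g * g * g = 1 → g ≠ 1 →
    ∃ v : alternatingGroup (Fin 5), v ≠ 1 ∧ v * v = 1 ∧
      v * (g * v * g⁻¹) = g * v * g⁻¹ * v ∧ g * g * v * (g * g)⁻¹ = v * (g * v * g⁻¹) := by
  decide +kernel

/-- Inside a group with a self-centralising element of order three and a quotient of order three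
or six, an invariant subgroup of order prime to three lies in the kernel. -/
theorem le_of_small_quotient {H : Type u} [Group H] [Finite H] {x : H} (h : SelfThree x)
    (N : Subgroup H) [N.Normal] (h3N : ¬ 3 ∣ Nat.card N)
    (hc : Nat.card (H ⧸ N) = 3 ∨ Nat.card (H ⧸ N) = 6) {V : Subgroup H}
    (hV : ∀ v ∈ V, x * v * x⁻¹ ∈ V) (h3 : ¬ 3 ∣ Nat.card V) : V ≤ N := by
  set π := QuotientGroup.mk' N with hπ
  set W := V.map π with hW
  have hW3 : ¬ 3 ∣ Nat.card W := fun hd => h3 (hd.trans (Subgroup.card_map_dvd _ _))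
  have hWd : Nat.card W ∣ Nat.card (H ⧸ N) := Subgroup.card_subgroup_dvd_card W
  have hle : Nat.card W ≤ 2 := by
    rcases hc with e | e <;> rw [e] at hWd
    · have := Nat.le_of_dvd (by norm_num) hWd
      interval_cases h : Nat.card W <;> omega
    · have := Nat.le_of_dvd (by norm_num) hWd
      interval_cases h : Nat.card W <;> omega
  have hWinv : ∀ w ∈ W, π x * w * (π x)⁻¹ ∈ W := by
    rintro - ⟨v, hv, rfl⟩
    exact ⟨x * v * x⁻¹, hV v hv, by simp⟩
  intro v hv
  have hvW : π v ∈ W := ⟨v, hv, rfl⟩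
  rw [← QuotientGroup.eq_one_iff]
  by_contra hne
  have hq := h.quotient N h3N
  have hfix : π x * π v * (π x)⁻¹ = π v := by
    by_contra hne'
    have h3el : 3 ≤ Nat.card W := by
      let f : Fin 3 → W := ![1, ⟨π v, hvW⟩, ⟨_, hWinv _ hvW⟩]
      have hinj : Function.Injective f := by
        intro i j hij
        have h1 : (1 : H ⧸ N) ≠ π x * π v * (π x)⁻¹ := fun e => hne (conj_eq_one_iff.1 e.symm)
        have e := congrArg Subtype.val hij
        fin_cases i <;> fin_cases j <;> first
          | rfl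
          | exact absurd e (Ne.symm hne)
          | exact absurd e hne
          | exact absurd e h1
          | exact absurd e h1.symm
          | exact absurd e hne'
          | exact absurd e (Ne.symm hne')
      have := Nat.card_le_card_of_injective f hinj
      rwa [Nat.card_eq_fintype_card, Fintype.card_fin] at this
    omega
  exact hne (hq.eq_one_of_fixed hW3 hvW hfix)

theorem Good.local_cases [IsSimpleGroup G] (hC : Config G q a b) {y : G} (hy : orderOf y = 3)
    {D : Subgroup G} (h : Good y D) (hD : D ≠ ⊥) :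
    (∃ O, Core y D O) ∨
      (q = 5 ∧ (∀ p : ℕ, p.Prime → p ∣ Nat.card D → p = 2) ∧ ∃ V, Good y V ∧ D < V) := by
  haveI : Fact (Nat.Prime 3) := ⟨Nat.prime_three⟩
  haveI := Fintype.ofFinite G
  set H := Subgroup.normalizer (D : Set G) with hH
  set x : H := ⟨y, h.mem_normalizer⟩ with hx
  have hS : SelfThree x := h.selfThree hC hy hD
  set N := pPrimeCore 3 H with hN
  have h3 : ¬ 3 ∣ Nat.card N := PCore.not_dvd_card_pPrimeCore
  have hDH : D ≤ H := Subgroup.le_normalizer
  haveI hDn : (D.subgroupOf H).Normal := Subgroup.normal_in_normalizer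
  have hDN : D.subgroupOf H ≤ N :=
    PCore.le_pPrimeCore (Nat.prime_three.coprime_iff_not_dvd.2 (h.subgroupOf_p' hDH)).symm
  set O := N.map H.subtype with hO
  have hOH : O ≤ H := Subgroup.map_subtype_le N
  have hOc : Nat.card O = Nat.card N := Subgroup.card_map_of_injective H.subtype_injective
  have hOsub : O.subgroupOf H = N := by
    rw [hO, Subgroup.subgroupOf, Subgroup.comap_map_eq_self_of_injective H.subtype_injective]
  have hDO : D ≤ O := fun d hd => ⟨⟨d, hDH hd⟩, hDN (by exact hd), rfl⟩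
  have hOgood : Good y O := by
    refine ⟨?_, by rw [hOc]; exact h3⟩
    rintro - ⟨n, hn, rfl⟩
    exact ⟨x * n * x⁻¹, Subgroup.Normal.conj_mem inferInstance n hn x, rfl⟩
  have hcard : Nat.card (H ⧸ N) * Nat.card N = Nat.card H :=
    (Subgroup.card_eq_card_quotient_mul_card_subgroup N).symm
  have hsmall : Nat.card (H ⧸ N) = 3 ∨ Nat.card (H ⧸ N) = 6 → Core y D O := by
    intro hc
    refine ⟨hDO, hOH, hOgood, by rw [← hH, hOsub]; infer_instance, ?_, fun V hV hVH v hv => ?_⟩
    · rw [hOc, ← hH, ← hcard]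
      rcases hc with e | e <;> rw [e]
      · exact Or.inl rfl
      · exact Or.inr rfl
    exact ⟨⟨v, hVH hv⟩,
      le_of_small_quotient hS N h3 hc (V := V.subgroupOf H) (hV.subgroupOf_inv _)
        (hV.subgroupOf_p' hVH) (show (⟨v, hVH hv⟩ : H) ∈ V.subgroupOf H from hv), rfl⟩
  have hq := hS.quotient N h3
  rcases hq.normal_or_simple PCore.pPrimeCore_quotient_self_eq_bot with hnor | ⟨hsimp, hnc⟩
  · left
    refine ⟨O, hsmall ?_⟩
    rcases hq.card_of_normal hnor with e | ⟨e, -⟩
    · exact Or.inl e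
    · exact Or.inr e
  haveI := hsimp
  haveI := Fintype.ofFinite (H ⧸ N)
  rcases hq.card_simple hnc with e | e
  swap
  · exfalso
    have hbot : N = ⊥ := hS.eq_bot_of_card_quotient N h3 hnc e
    refine hD (le_bot_iff.1 fun d hd => ?_)
    have : (⟨d, hDH hd⟩ : H) ∈ N := hDN (by exact hd)
    rw [hbot, Subgroup.mem_bot] at this
    exact Subgroup.mem_bot.2 (congrArg Subtype.val this)
  right
  have h5 : q = 5 := by
    have h5d : 5 ∣ Nat.card G := by
      refine dvd_trans ?_ (Subgroup.card_subgroup_dvd_card H)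
      rw [← hcard, e]
      exact dvd_mul_of_dvd_left (by norm_num) _
    rw [hC.card] at h5d
    have p5 : Nat.Prime 5 := by norm_num
    rcases (Nat.Prime.dvd_mul p5).1 h5d with h9 | h9
    · norm_num at h9
    rcases (Nat.Prime.dvd_mul p5).1 h9 with h2 | h2
    · have := (Nat.prime_dvd_prime_iff_eq p5 Nat.prime_two).1 (p5.dvd_of_dvd_pow h2)
      omega
    · exact ((Nat.prime_dvd_prime_iff_eq p5 hC.hq).1 (p5.dvd_of_dvd_pow h2)).symm
  obtain ⟨φ⟩ := SmallSimple.iso_alternating_five hnc e
  have hsq := hS.sq_eq_one_of_altFive N h3 hnc φ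
  refine ⟨h5, fun p hp hpd => ?_, ?_⟩
  · haveI := Fact.mk hp
    obtain ⟨⟨d, hd⟩, hdo⟩ := exists_prime_orderOf_dvd_card' p hpd
    rw [Subgroup.orderOf_mk] at hdo
    have h2 : d ^ 2 = 1 := congrArg Subtype.val (hsq ⟨d, hDH hd⟩ (hDN (by exact hd)))
    exact (Nat.prime_dvd_prime_iff_eq hp Nat.prime_two).1 (hdo ▸ orderOf_dvd_of_pow_eq_one h2)
  -- a larger good subgroup
  have hπ : ∀ n : H, (QuotientGroup.mk' N) n = (n : H ⧸ N) := fun n => rfl
  set g := φ (x : H ⧸ N) with hg
  have hxn : (x : H ⧸ N) ≠ 1 := hq.ne_one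
  have hg1 : g ≠ 1 := fun e' => hxn (φ.injective (by rw [← hg, e', map_one]))
  have hg3 : g * g * g = 1 := by rw [hg, ← map_mul, ← map_mul, hq.cube, map_one]
  obtain ⟨v, hv1, hv2, hvw, hgv⟩ := a5_four g hg3 hg1
  set w := g * v * g⁻¹ with hw
  have hw2 : w * w = 1 := by
    rw [hw, show g * v * g⁻¹ * (g * v * g⁻¹) = g * (v * v) * g⁻¹ by group, hv2]
    group
  set K := Subgroup.closure ({v, w} : Set (alternatingGroup (Fin 5))) with hK
  haveI := Subgroup.isMulCommutative_closure (k := ({v, w} : Set (alternatingGroup (Fin 5)))) (by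
    rintro p (rfl | rfl) r (rfl | rfl)
    exacts [rfl, hvw, hvw.symm, rfl])
  have hKc : ∀ p ∈ K, ∀ r ∈ K, p * r = r * p := fun p hp r hr =>
    congrArg Subtype.val (mul_comm' (⟨p, hp⟩ : K) ⟨r, hr⟩)
  have hK2 : ∀ k ∈ K, k * k = 1 := by
    intro k hk
    induction hk using Subgroup.closure_induction with
    | mem p hp => rcases hp with rfl | rfl <;> assumption
    | one => group
    | mul p r hp hr ihp ihr =>
      rw [show p * r * (p * r) = p * (r * p) * r by group, hKc r hr p hp,
        show p * (p * r) * r = p * p * (r * r) by group, ihp, ihr, one_mul]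
    | inv p hp ihp => rw [← mul_inv_rev, ihp, inv_one]
  have hKg : ∀ k ∈ K, g * k * g⁻¹ ∈ K := by
    have hle : K ≤ K.comap (MulAut.conj g).toMonoidHom := by
      rw [hK, Subgroup.closure_le]
      rintro p (rfl | rfl)
      · exact Subgroup.subset_closure (Or.inr rfl)
      · show g * w * g⁻¹ ∈ K
        rw [hw, show g * (g * v * g⁻¹) * g⁻¹ = g * g * v * (g * g)⁻¹ by group, hgv]
        exact mul_mem (Subgroup.subset_closure (Or.inl rfl)) (Subgroup.subset_closure (Or.inr rfl))
    exact fun k hk => hle hk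
  set f : H →* alternatingGroup (Fin 5) := φ.toMonoidHom.comp (QuotientGroup.mk' N) with hf
  refine ⟨(K.comap f).map H.subtype, ⟨?_, ?_⟩, lt_of_le_of_ne (fun d hd => ?_) fun heq => ?_⟩
  · rintro - ⟨n, hn, rfl⟩
    refine ⟨x * n * x⁻¹, ?_, rfl⟩
    show f (x * n * x⁻¹) ∈ K
    rw [map_mul, map_mul, map_inv]
    exact hKg _ hn
  · rw [Subgroup.card_map_of_injective H.subtype_injective]
    intro hd
    obtain ⟨⟨n, hn⟩, hno⟩ := exists_prime_orderOf_dvd_card' 3 hd
    rw [Subgroup.orderOf_mk] at hno
    have h1 : orderOf (f n) ∣ 3 := hno ▸ orderOf_map_dvd f n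
    have h2 : orderOf (f n) ∣ 2 := orderOf_dvd_of_pow_eq_one (by rw [sq]; exact hK2 _ hn)
    have h11 : orderOf (f n) = 1 := Nat.dvd_one.1 (by
      simpa using Nat.dvd_gcd h1 h2)
    have hnN : n ∈ N := (QuotientGroup.eq_one_iff n).1
      (φ.injective (by rw [map_one]; exact orderOf_eq_one_iff.1 h11))
    have := Subgroup.orderOf_dvd_natCard N hnN
    rw [hno] at this
    exact h3 this
  · refine ⟨⟨d, hDH hd⟩, ?_, rfl⟩
    show f ⟨d, hDH hd⟩ ∈ K
    rw [hf, MonoidHom.comp_apply, QuotientGroup.mk'_apply,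
      (QuotientGroup.eq_one_iff _).2 (hDN (by exact hd)), map_one]
    exact one_mem K
  · obtain ⟨n, hn⟩ := QuotientGroup.mk_surjective (φ.symm v)
    have hfn : f n = v := by
      show φ (n : H ⧸ N) = v
      rw [hn, φ.apply_symm_apply]
    have hmem : (n : G) ∈ D :=
      heq.symm ▸ ⟨n, show f n ∈ K from hfn ▸ Subgroup.subset_closure (Or.inl rfl), rfl⟩
    apply hv1
    rw [← hfn]
    show φ (n : H ⧸ N) = 1
    rw [(QuotientGroup.eq_one_iff n).2 (hDN (by exact hmem)), map_one]

/-- Contains the case where `q` divides the order, or `q ≠ 5`. -/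
theorem Good.exists_core [IsSimpleGroup G] (hC : Config G q a b) {y : G} (hy : orderOf y = 3)
    {D : Subgroup G} (h : Good y D) (hD : D ≠ ⊥) (hq : q ≠ 5 ∨ q ∣ Nat.card D) :
    ∃ O, Core y D O := by
  refine (h.local_cases hC hy hD).resolve_right fun hh => ?_
  obtain ⟨h5, h2, -⟩ := hh
  rcases hq with hq | hq
  · exact hq h5
  · have := h2 q hC.hq hq
    omega

end Cfsg.Agent.SelfNineEight
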