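import Cfsg.Agent.Lib.SelfNineEight.Local
import Cfsg.Agent.Lib.SmallSimple.Tools

/-!
# The maximal good subgroups

A maximal good subgroup is a Sylow `q`-subgroup, a Sylow 2-subgroup, a four-group with normaliser
of order 24 or a subgroup of index two in a Sylow 2-subgroup. The last kind is unique up to
conjugation, by the lemma on two maximal good subgroups of index two in one 2-group.
-/

set_option autoImplicit false
set_option linter.style.haveILetI false
set_option linter.unusedSectionVars false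

namespace Cfsg.Agent.SelfNineEight

open Cfsg Cfsg.Agent

universe u

variable {G : Type u} [Group G] [Finite G] {q a b : ℕ}

/-- A maximal nontrivial good subgroup. -/
structure Maxi (y : G) (W : Subgroup G) : Prop where
  good : Good y W
  ne_bot : W ≠ ⊥
  max : ∀ D : Subgroup G, Good y D → W ≤ D → D = W

/-- No involution centralises a Sylow `q`-subgroup. -/
def NoMix (G : Type u) [Group G] (q : ℕ) : Prop :=
  ∀ (Q : Sylow q G) (u : G), orderOf u = 2 → u ∈ Subgroup.centralizer ((Q : Subgroup G) : Set G) →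
    False

theorem Good.exists_maxi {y : G} {D : Subgroup G} (h : Good y D) (hD : D ≠ ⊥) :
    ∃ W, Maxi y W ∧ D ≤ W := by
  obtain ⟨W, ⟨hW, hDW⟩, hmax⟩ := Set.Finite.exists_maximalFor (fun W : Subgroup G => Nat.card W)
    {W | Good y W ∧ D ≤ W} (Set.toFinite _) ⟨D, h, le_rfl⟩
  refine ⟨W, ⟨hW, fun e => hD (le_bot_iff.1 (e ▸ hDW)), fun V hV hWV => ?_⟩, hDW⟩
  exact (Subgroup.eq_of_le_of_card_ge hWV
    (hmax ⟨hV, hDW.trans hWV⟩ (Subgroup.card_le_of_le hWV))).symm

theorem Maxi.map_conj {y : G} {W : Subgroup G} (h : Maxi y W) (g : G) :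
    Maxi (g * y * g⁻¹) (W.map (MulAut.conj g).toMonoidHom) where
  good := h.good.map_conj g
  ne_bot := fun e => h.ne_bot ((Subgroup.map_eq_bot_iff_of_injective _ (MulAut.conj g).injective).1 e)
  max := fun D hD hle => by
    have hD' : Good y (D.map (MulAut.conj g⁻¹).toMonoidHom) := by
      have := hD.map_conj g⁻¹
      rwa [show g⁻¹ * (g * y * g⁻¹) * g⁻¹⁻¹ = y by group] at this
    have hcomp : ∀ (g : G) (V : Subgroup G),
        (V.map (MulAut.conj g).toMonoidHom).map (MulAut.conj g⁻¹).toMonoidHom = V := fun g V => by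
      rw [Subgroup.map_map]
      conv_rhs => rw [← V.map_id]
      congr 1
      ext v
      simp [mul_assoc]
    have hle' : W ≤ D.map (MulAut.conj g⁻¹).toMonoidHom := by
      have := Subgroup.map_mono (f := (MulAut.conj g⁻¹).toMonoidHom) hle
      rwa [hcomp] at this
    have e := h.max _ hD' hle'
    have := hcomp g⁻¹ D
    rw [inv_inv, e] at this
    exact this.symm

variable {y : G} {W : Subgroup G}

theorem Good.centralizer_le_of_core (hC : Config G q a b) (hD : W ≠ ⊥) (h : Good y W) {O : Subgroup G}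
    (hO : Core y W O) : Subgroup.centralizer (W : Set G) ≤ O := by
  haveI : Fact (Nat.Prime 3) := ⟨Nat.prime_three⟩
  refine hO.largest _ ⟨fun c hc => ?_, fun hd => ?_⟩ (Subgroup.centralizer_le_normalizer _)
  · refine Subgroup.mem_centralizer_iff.2 fun w hw => ?_
    have hc' := Subgroup.mem_centralizer_iff.1 hc (y⁻¹ * w * y) (h.inv_mem_conj hw)
    calc w * (y * c * y⁻¹) = y * ((y⁻¹ * w * y) * c) * y⁻¹ := by group
      _ = y * c * y⁻¹ * w := by rw [hc']; group
  · obtain ⟨⟨c, hc⟩, hco⟩ := exists_prime_orderOf_dvd_card' 3 hd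
    rw [Subgroup.orderOf_mk] at hco
    refine hD ((Subgroup.eq_bot_iff_forall _).2 fun w hw => ?_)
    have h3 := hC.cent_cube hco (Subgroup.mem_centralizer_iff.1 hc w hw)
    by_contra hne
    exact h.p' (orderOf_eq_prime h3 hne ▸ Subgroup.orderOf_dvd_natCard W hw)

variable [IsSimpleGroup G]

theorem Maxi.core (hC : Config G q a b) (hy : orderOf y = 3) (h : Maxi y W) : Core y W W := by
  rcases h.good.local_cases hC hy h.ne_bot with ⟨O, hO⟩ | ⟨-, -, V, hV, hlt⟩
  · have := h.max O hO.good hO.le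
    rwa [this] at hO
  · exact absurd (h.max V hV hlt.le) hlt.ne'

theorem Maxi.centralizer_le (hC : Config G q a b) (hy : orderOf y = 3) (h : Maxi y W) :
    Subgroup.centralizer (W : Set G) ≤ W :=
  h.good.centralizer_le_of_core hC h.ne_bot (h.core hC hy)

theorem Config.dvd_n (hC : Config G q a b) (h3 : ¬ 3 ∣ Nat.card W) :
    Nat.card W ∣ 2 ^ a * q ^ b := by
  refine (Nat.Coprime.dvd_of_dvd_mul_left ?_ (hC.card ▸ Subgroup.card_subgroup_dvd_card W))
  rw [show (9 : ℕ) = 3 ^ 2 by norm_num]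
  exact Nat.Coprime.pow_right 2 (Nat.prime_three.coprime_iff_not_dvd.2 h3).symm

theorem Config.factorization_card (hC : Config G q a b) :
    (Nat.card G).factorization 2 = a ∧ (Nat.card G).factorization q = b := by
  have hq := hC.hq
  have hq5 := hC.hq5
  have h2 : 2 ^ a ≠ 0 := pow_ne_zero _ (by norm_num)
  have h9 : ∀ p : ℕ, p.Prime → p ≠ 3 → (9 : ℕ).factorization p = 0 := fun p hp hp3 =>
    Nat.factorization_eq_zero_of_not_dvd fun hd => hp3 <| by
      rw [show (9 : ℕ) = 3 ^ 2 by norm_num] at hd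
      exact (Nat.prime_dvd_prime_iff_eq hp Nat.prime_three).1 (hp.dvd_of_dvd_pow hd)
  rw [hC.card, Nat.factorization_mul (by norm_num) (mul_ne_zero h2 (pow_ne_zero _ hq.ne_zero)),
    Nat.factorization_mul h2 (pow_ne_zero _ hq.ne_zero), Nat.factorization_pow, Nat.factorization_pow,
    Nat.prime_two.factorization, hq.factorization]
  simp only [Finsupp.add_apply, Finsupp.smul_apply, smul_eq_mul]
  rw [h9 2 Nat.prime_two (by norm_num), h9 q hq (by omega), Finsupp.single_eq_same,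
    Finsupp.single_eq_same, Finsupp.single_eq_of_ne (by omega), Finsupp.single_eq_of_ne (by omega)]
  simp

/-- A `p`-subgroup containing the whole `p`-part of the order of its normaliser is Sylow. -/
theorem sylow_of_normalizer {p : ℕ} [Fact p.Prime] {P : Subgroup G} (hP : IsPGroup p P)
    (hmax : ∀ e, p ^ e ∣ Nat.card (Subgroup.normalizer (P : Set G)) → p ^ e ≤ Nat.card P) :
    ∃ Q : Sylow p G, (Q : Subgroup G) = P := by
  obtain ⟨Q, hQ⟩ := hP.exists_le_sylow
  refine ⟨Q, le_antisymm ?_ hQ⟩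
  haveI := Q.isPGroup'.isNilpotent
  by_contra hne
  have hlt : P.subgroupOf (Q : Subgroup G) < ⊤ := lt_top_iff_ne_top.2 fun e => hne
    (Subgroup.subgroupOf_eq_top.1 e)
  set N := Subgroup.normalizer ((P.subgroupOf (Q : Subgroup G)) : Set (Q : Subgroup G))
  have hN := Group.normalizerCondition_of_isNilpotent _ hlt
  set N' := N.map (Q : Subgroup G).subtype with hN'
  have hN'le : N' ≤ Subgroup.normalizer (P : Set G) := by
    rintro - ⟨n, hn, rfl⟩
    refine mem_normalizer_of_conj fun d hd => ?_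
    exact (Subgroup.mem_normalizer_iff.1 hn ⟨d, hQ hd⟩).1 hd
  have hcard : Nat.card P < Nat.card N' := by
    rw [hN', Subgroup.card_map_of_injective (Q : Subgroup G).subtype_injective, ← card_subgroupOf hQ]
    by_contra hge
    exact hN.ne (Subgroup.eq_of_le_of_card_ge hN.le (not_lt.1 hge))
  obtain ⟨e, he⟩ := (IsPGroup.iff_card).1 (Q.isPGroup'.to_le (Subgroup.map_subtype_le N))
  rw [← hN'] at he
  have := hmax e (he ▸ Subgroup.card_dvd_of_le hN'le)
  omega

theorem Maxi.q_case (hC : Config G q a b) (hy : orderOf y = 3) (h : Maxi y W) (hmix : NoMix G q)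
    (hd : q ∣ Nat.card W) : Nat.card W = q ^ b := by
  haveI := Fact.mk hC.hq
  have hq5 := hC.hq5
  have hq3 : ¬ q ∣ 6 := fun hd6 => by
    rcases (hC.hq.dvd_mul (m := 2) (n := 3)).1 hd6 with e | e
    · have := (Nat.prime_dvd_prime_iff_eq hC.hq Nat.prime_two).1 e
      omega
    · have := (Nat.prime_dvd_prime_iff_eq hC.hq Nat.prime_three).1 e
      omega
  haveI hnil := h.good.isNilpotent hC hy
  obtain ⟨P⟩ := (inferInstance : Nonempty (Sylow q W))
  haveI hPn : (P : Subgroup W).Normal :=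
    Sylow.normal_of_normalizerCondition Group.normalizerCondition_of_isNilpotent P
  set Q0 := (P : Subgroup W).map W.subtype with hQ0
  have hQW : Q0 ≤ W := Subgroup.map_subtype_le _
  have hQc : Nat.card Q0 = Nat.card (P : Subgroup W) :=
    Subgroup.card_map_of_injective W.subtype_injective
  have hqQ : q ∣ Nat.card Q0 := hQc ▸ P.dvd_card_of_dvd_card hd
  have hQbot : Q0 ≠ ⊥ := fun e => by
    rw [e, Subgroup.card_bot] at hqQ
    exact hC.hq.not_dvd_one hqQ
  have hW_le : W ≤ Subgroup.normalizer (Q0 : Set G) := fun w hw => mem_normalizer_of_conj (by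
    rintro - ⟨p, hp, rfl⟩
    exact ⟨⟨w, hw⟩ * p * ⟨w, hw⟩⁻¹, hPn.conj_mem p hp ⟨w, hw⟩, rfl⟩)
  have hQgood : Good y Q0 := by
    refine ⟨fun d hd => ?_, fun h3 => h.good.p' (h3.trans (Subgroup.card_dvd_of_le hQW))⟩
    obtain ⟨p, hp, rfl⟩ := hd
    have hm : y * (p : G) * y⁻¹ ∈ W := h.good.inv _ p.2
    refine ⟨⟨y * p * y⁻¹, hm⟩, ?_, rfl⟩
    -- the unique Sylow subgroup contains every element of `q`-power order
    obtain ⟨e, he⟩ := P.isPGroup' ⟨p, hp⟩
    have hpe : (⟨y * (p : G) * y⁻¹, hm⟩ : W) ^ q ^ e = 1 := Subtype.ext (by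
      rw [SubgroupClass.coe_pow]
      show (y * (p : G) * y⁻¹) ^ q ^ e = 1
      have he' : p ^ q ^ e = 1 := congrArg Subtype.val he
      rw [conj_pow, ← SubgroupClass.coe_pow, he']
      simp)
    obtain ⟨k, -, hk⟩ := (Nat.dvd_prime_pow hC.hq).1 (orderOf_dvd_of_pow_eq_one hpe)
    obtain ⟨P', hP'⟩ := (IsPGroup.of_card (n := k) (by rw [Nat.card_zpowers, hk]) :
      IsPGroup q (Subgroup.zpowers (⟨y * (p : G) * y⁻¹, hm⟩ : W))).exists_le_sylow
    haveI := Sylow.unique_of_normal P hPn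
    rw [Subsingleton.elim P P']
    exact hP' (Subgroup.mem_zpowers _)
  obtain ⟨O, hO⟩ := hQgood.exists_core hC hy hQbot (Or.inr hqQ)
  have hOW : O = W := h.max O hO.good (hO.largest W h.good hW_le)
  subst hOW
  obtain ⟨Q, hQ⟩ := sylow_of_normalizer (P := Q0) (P.isPGroup'.map _) (fun e he => by
    have he' : q ^ e ∣ Nat.card O := by
      have hcop : Nat.Coprime (q ^ e) 6 :=
        Nat.Coprime.pow_left e (hC.hq.coprime_iff_not_dvd.2 hq3)
      rcases hO.card with hc | hc <;> rw [hc] at he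
      · exact hcop.dvd_of_dvd_mul_left (he.trans (Nat.mul_dvd_mul_right (by norm_num) _))
      · exact hcop.dvd_of_dvd_mul_left he
    rw [hQc]
    exact Nat.le_of_dvd Nat.card_pos (P.pow_dvd_card_of_pow_dvd_card he'))
  have hQb : Nat.card Q0 = q ^ b := by
    rw [← hQ]
    exact Q.card_eq_multiplicity.trans (by rw [hC.factorization_card.2])
  -- no involution in `W`
  obtain ⟨x, z, hx, hz, hxz⟩ := exists_dvd_and_dvd_of_dvd_mul (hC.dvd_n h.good.p')
  obtain ⟨i, -, rfl⟩ := (Nat.dvd_prime_pow Nat.prime_two).1 hx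
  obtain ⟨j, hj, rfl⟩ := (Nat.dvd_prime_pow hC.hq).1 hz
  have h2W : ¬ 2 ∣ Nat.card O := by
    intro h2
    haveI := Fact.mk Nat.prime_two
    obtain ⟨P2⟩ := (inferInstance : Nonempty (Sylow 2 O))
    haveI hP2n : (P2 : Subgroup O).Normal :=
      Sylow.normal_of_normalizerCondition Group.normalizerCondition_of_isNilpotent P2
    obtain ⟨u, hu⟩ := exists_prime_orderOf_dvd_card' 2 (P2.dvd_card_of_dvd_card h2)
    refine hmix Q ((u : O) : G) (by rw [Subgroup.orderOf_coe, Subgroup.orderOf_coe, hu]) ?_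
    refine Subgroup.mem_centralizer_iff.2 fun p hp => ?_
    rw [hQ] at hp
    obtain ⟨p, hp, rfl⟩ := hp
    have hdis : Disjoint (P : Subgroup O) (P2 : Subgroup O) :=
      IsPGroup.disjoint_of_ne q 2 (by omega) _ _ P.isPGroup' P2.isPGroup'
    exact congrArg Subtype.val
      (Subgroup.commute_of_normal_of_disjoint _ _ hPn hP2n hdis p (u : O) hp u.2).eq
  have hi0 : i = 0 := by
    by_contra hi0
    exact h2W (hxz ▸ dvd_mul_of_dvd_left (dvd_pow_self 2 hi0) _)
  have hle : q ^ b ≤ Nat.card O := hQb ▸ Subgroup.card_le_of_le hQW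
  rw [hxz, hi0, pow_zero, one_mul] at hle ⊢
  exact le_antisymm (Nat.pow_le_pow_right hC.hq.pos hj) hle

theorem Maxi.two_group (hC : Config G q a b) (h : Maxi y W) (hd : ¬ q ∣ Nat.card W) :
    ∃ i, i ≤ a ∧ Nat.card W = 2 ^ i := by
  obtain ⟨x, z, hx, hz, hxz⟩ := exists_dvd_and_dvd_of_dvd_mul (hC.dvd_n h.good.p')
  obtain ⟨i, hi, rfl⟩ := (Nat.dvd_prime_pow Nat.prime_two).1 hx
  obtain ⟨j, hj, rfl⟩ := (Nat.dvd_prime_pow hC.hq).1 hz
  refine ⟨i, hi, ?_⟩
  rcases Nat.eq_zero_or_pos j with rfl | hj0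
  · simpa using hxz
  · exact absurd (hxz ▸ dvd_mul_of_dvd_right (dvd_pow_self q hj0.ne') _) hd

omit [IsSimpleGroup G] in
/-- A centraliser of index two in a good 2-subgroup does not occur. -/
theorem Good.not_index_two (hC : Config G q a b) (hy : orderOf y = 3) (h : Good y W) {w0 : G}
    (hw0 : w0 ∈ W)
    (hidx : 2 * Nat.card (W ⊓ Subgroup.centralizer ({w0} : Set G) : Subgroup G) = Nat.card W) :
    False := by
  set K := W ⊓ Subgroup.centralizer ({w0} : Set G) with hK
  have hKW : K ≤ W := inf_le_left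
  have hi2 : (K.subgroupOf W).index = 2 := by
    have := (K.subgroupOf W).card_mul_index
    rw [card_subgroupOf hKW, ← hidx, mul_comm 2] at this
    exact Nat.eq_of_mul_eq_mul_left Nat.card_pos this
  have hmemK : ∀ {u : G}, u ∈ K ↔ u ∈ W ∧ u * w0 = w0 * u := fun {u} => by
    rw [hK, Subgroup.mem_inf, Subgroup.mem_centralizer_singleton_iff]
  have hmul : ∀ {u v : G}, u ∈ W → v ∈ W → (u * v ∈ K ↔ (u ∈ K ↔ v ∈ K)) := by
    intro u v hu hv
    simpa [Subgroup.mem_subgroupOf] using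
      (Subgroup.mul_mem_iff_of_index_two hi2 (a := ⟨u, hu⟩) (b := ⟨v, hv⟩))
  -- `K` is not invariant
  obtain ⟨w, hwK, hwn⟩ : ∃ w, w ∈ K ∧ y⁻¹ * w * y ∉ K := by
    by_contra hne
    push Not at hne
    have hinv : ∀ {u : G}, u ∈ W → (u ∈ K ↔ y⁻¹ * u * y ∈ K) := by
      have hn : y⁻¹ ∈ Subgroup.normalizer (K : Set G) :=
        mem_normalizer_of_conj fun d hd => by rw [inv_inv]; exact hne d hd
      intro u _
      have := Subgroup.mem_normalizer_iff.1 hn u
      rwa [inv_inv] at this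
    have hall : ∀ d ∈ W, d ∈ K := by
      intro d hd
      rcases eq_or_ne W ⊥ with hb | hb
      · rw [hb, Subgroup.mem_bot] at hd
        rw [hd]
        exact one_mem K
      obtain ⟨e, he, hed⟩ := (h.selfThree hC hy hb).exists_eq_commutator (h.subgroupOf_inv _)
        (h.subgroupOf_p' Subgroup.le_normalizer) (d := ⟨d, Subgroup.le_normalizer hd⟩) hd
      have hd' : (e : G)⁻¹ * (y * (e : G) * y⁻¹) = d := congrArg Subtype.val hed
      have heW : (e : G) ∈ W := he
      rw [← hd', hmul (inv_mem heW) (h.inv _ heW), inv_mem_iff, hinv (h.inv _ heW),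
        show y⁻¹ * (y * (e : G) * y⁻¹) * y = e by group]
    have : Nat.card W ≤ Nat.card K := Subgroup.card_le_of_le hall
    have := Nat.card_pos (α := K)
    omega
  obtain ⟨hwW, hwc⟩ := hmemK.1 hwK
  set a1 := y * w0 * y⁻¹ with ha1
  set a2 := y⁻¹ * w0 * y with ha2
  have ha1W : a1 ∈ W := h.inv _ hw0
  have ha2W : a2 ∈ W := h.inv_mem_conj hw0
  have hnorm : w0 * a1 * a2 = 1 := h.norm_eq_one hC hy hw0
  have hc01 : w0 * a1 = a1 * w0 := h.commute_conj hC hy hw0
  have hw0W2 : y⁻¹ * w * y ∈ W := h.inv_mem_conj hwW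
  -- the functional `f`
  have hf : ∀ {u v : G}, u ∈ W → v ∈ W → u ∉ K → v ∉ K →
      u * w0 * u⁻¹ = v * w0 * v⁻¹ := by
    intro u v hu hv hun hvn
    have hk : v⁻¹ * u ∈ K := (hmul (inv_mem hv) hu).2 (iff_of_false (by rwa [inv_mem_iff]) hun)
    have := (hmemK.1 hk).2
    calc u * w0 * u⁻¹ = v * ((v⁻¹ * u) * w0) * u⁻¹ := by group
      _ = v * (w0 * (v⁻¹ * u)) * u⁻¹ := by rw [this]
      _ = v * w0 * v⁻¹ := by group
  set v0 := y⁻¹ * w * y with hv0
  set f := v0 * w0 * v0⁻¹ * w0⁻¹ with hf0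
  -- conjugating by `w` the relation `w0 * a1 * a2 = 1`
  have hv2 : y * w * y⁻¹ ∉ K := by
    intro hk
    -- otherwise `w` would centralise `a2`, hence `a1`
    have h2 : w * a2 = a2 * w := by
      have := (hmemK.1 hk).2
      calc w * a2 = y⁻¹ * ((y * w * y⁻¹) * w0) * y := by rw [ha2]; group
        _ = y⁻¹ * (w0 * (y * w * y⁻¹)) * y := by rw [this]
        _ = a2 * w := by rw [ha2]; group
    have ha1e : a1 = w0⁻¹ * a2⁻¹ := by
      calc a1 = w0⁻¹ * (w0 * a1 * a2) * a2⁻¹ := by group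
        _ = w0⁻¹ * a2⁻¹ := by rw [hnorm]; group
    have h1 : w * a1 = a1 * w := by
      rw [ha1e]
      exact ((show Commute w w0 from hwc).inv_right.mul_right (show Commute w a2 from h2).inv_right).eq
    refine hwn (hmemK.2 ⟨hw0W2, ?_⟩)
    calc y⁻¹ * w * y * w0 = y⁻¹ * (w * a1) * y := by rw [ha1]; group
      _ = y⁻¹ * (a1 * w) * y := by rw [h1]
      _ = w0 * (y⁻¹ * w * y) := by rw [ha1]; group
  have e1 : w * a1 * w⁻¹ = y * (f * w0) * y⁻¹ := by
    rw [hf0, ha1, hv0]; group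
  have e2 : w * a2 * w⁻¹ = y⁻¹ * (f * w0) * y := by
    have hV : y * w * y⁻¹ ∈ W := h.inv _ hwW
    calc w * a2 * w⁻¹ = y⁻¹ * ((y * w * y⁻¹) * w0 * (y * w * y⁻¹)⁻¹) * y := by rw [ha2]; group
      _ = y⁻¹ * (v0 * w0 * v0⁻¹) * y := by rw [hf hV hw0W2 hv2 hwn]
      _ = y⁻¹ * (f * w0) * y := by rw [hf0]; group
  -- `f` commutes with `w0`
  have hfW : f ∈ W := mul_mem (mul_mem (mul_mem hw0W2 hw0) (inv_mem hw0W2)) (inv_mem hw0)
  have hfc : f * w0 = w0 * f := by
    have hw0K : w0 ∈ K := hmemK.2 ⟨hw0, rfl⟩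
    haveI : (K.subgroupOf W).Normal := Subgroup.normal_of_index_eq_two hi2
    have hvv : v0 * w0 * v0⁻¹ ∈ K :=
      (inferInstance : (K.subgroupOf W).Normal).conj_mem (⟨w0, hw0⟩ : W) hw0K ⟨v0, hw0W2⟩
    exact (hmemK.1 (mul_mem hvv (inv_mem hw0K))).2
  have hprod : w0 * (y * f * y⁻¹ * a1) * (y⁻¹ * f * y * a2) = 1 := by
    have hw00 : w * w0 * w⁻¹ = w0 := by rw [hwc, mul_inv_cancel_right]
    calc w0 * (y * f * y⁻¹ * a1) * (y⁻¹ * f * y * a2)
        = (w * w0 * w⁻¹) * (y * (f * w0) * y⁻¹) * (y⁻¹ * (f * w0) * y) := by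
          rw [hw00, ha1, ha2]; group
      _ = (w * w0 * w⁻¹) * (w * a1 * w⁻¹) * (w * a2 * w⁻¹) := by rw [e1, e2]
      _ = w * (w0 * a1 * a2) * w⁻¹ := by group
      _ = 1 := by rw [hnorm]; group
  have hfa1 : y * f * y⁻¹ * a1 = a1 * (y * f * y⁻¹) := by
    calc y * f * y⁻¹ * a1 = y * (f * w0) * y⁻¹ := by rw [ha1]; group
      _ = a1 * (y * f * y⁻¹) := by rw [hfc, ha1]; group
  have hff : y * f * y⁻¹ * (y⁻¹ * f * y) = 1 := by
    have ha2e : a2 = (w0 * a1)⁻¹ := eq_inv_of_mul_eq_one_right hnorm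
    calc y * f * y⁻¹ * (y⁻¹ * f * y)
        = (w0 * a1)⁻¹ * (w0 * (a1 * (y * f * y⁻¹)) * (y⁻¹ * f * y * a2)) * (w0 * a1) := by
          rw [ha2e]; group
      _ = (w0 * a1)⁻¹ * (w0 * (y * f * y⁻¹ * a1) * (y⁻¹ * f * y * a2)) * (w0 * a1) := by rw [hfa1]
      _ = 1 := by rw [hprod]; group
  have hf1 : f = 1 := by
    have h3 : y * y * y = 1 := SelfCentThree.pow_three_of_order hy
    have hn := h.norm_eq_one hC hy hfW
    rw [mul_assoc, hff, mul_one] at hn
    exact hn
  refine hwn (hmemK.2 ⟨hw0W2, ?_⟩)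
  exact mul_inv_eq_iff_eq_mul.1 (mul_inv_eq_one.1 (hf0 ▸ hf1))

omit [IsSimpleGroup G] in
theorem mul_pow_two_dvd {e m : ℕ} (h : 2 ^ e ∣ 3 * m) : 2 ^ e ∣ m :=
  (Nat.Coprime.pow_left e (by norm_num : Nat.Coprime 2 3)).dvd_of_dvd_mul_left h

theorem Maxi.no_common (hC : Config G q a b) (hy : orderOf y = 3) (h : Maxi y W)
    (hN : Nat.card (Subgroup.normalizer (W : Set G)) = 6 * Nat.card W) (hW : IsPGroup 2 W)
    {x : G} (hx : x ∈ Subgroup.normalizer (W : Set G)) (hxW : x ∉ W) {d : G}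
    (hd : d ∈ W) (h1 : d * x = x * d) (h2 : d * (y * x * y⁻¹) = y * x * y⁻¹ * d) : d = 1 := by
  classical
  haveI : Fact (Nat.Prime 3) := ⟨Nat.prime_three⟩
  by_contra hd1
  set N := Subgroup.normalizer (W : Set G) with hN'
  set K := N ⊓ Subgroup.centralizer ({d} : Set G) with hK
  have hyN : y ∈ N := h.good.mem_normalizer
  have hyx : y * x * y⁻¹ ∈ N := mul_mem (mul_mem hyN hx) (inv_mem hyN)
  have hxK : x ∈ K := ⟨hx, Subgroup.mem_centralizer_singleton_iff.2 h1.symm⟩
  have hyK : y * x * y⁻¹ ∈ K := ⟨hyx, Subgroup.mem_centralizer_singleton_iff.2 h2.symm⟩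
  have hK3 : ¬ 3 ∣ Nat.card K := by
    intro h3
    obtain ⟨⟨k, hk⟩, hko⟩ := exists_prime_orderOf_dvd_card' 3 h3
    rw [Subgroup.orderOf_mk] at hko
    exact h.good.p' (orderOf_eq_prime
      (hC.cent_cube hko (Subgroup.mem_centralizer_singleton_iff.1 hk.2).symm) hd1 ▸
        Subgroup.orderOf_dvd_natCard W hd)
  haveI : (W.subgroupOf N).Normal := Subgroup.normal_in_normalizer
  set π := QuotientGroup.mk' (W.subgroupOf N) with hπ
  set J := (K.subgroupOf N).map π with hJ
  have hJ3 : ¬ 3 ∣ Nat.card J := fun hd => hK3 (by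
    have := hd.trans (Subgroup.card_map_dvd _ _)
    rwa [card_subgroupOf inf_le_left] at this)
  have hq6 : Nat.card (N ⧸ W.subgroupOf N) = 6 := by
    have := Subgroup.card_eq_card_quotient_mul_card_subgroup (W.subgroupOf N)
    rw [hN, card_subgroupOf (Subgroup.le_normalizer : W ≤ N)] at this
    exact (Nat.eq_of_mul_eq_mul_right Nat.card_pos this).symm
  have hJd : Nat.card J ∣ 2 := by
    have h6 : Nat.card J ∣ 3 * 2 := by rw [show (3 * 2 : ℕ) = 6 from rfl, ← hq6]; exact J.card_subgroup_dvd_card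
    exact (Nat.prime_three.coprime_iff_not_dvd.2 hJ3).symm.dvd_of_dvd_mul_left h6
  set xb := π ⟨x, hx⟩ with hxb
  set xyb := π ⟨y * x * y⁻¹, hyx⟩ with hxyb
  have hxJ : xb ∈ J := ⟨⟨x, hx⟩, hxK, rfl⟩
  have hyJ : xyb ∈ J := ⟨_, hyK, rfl⟩
  have hxb1 : xb ≠ 1 := fun e => hxW (by
    rw [hxb, hπ, QuotientGroup.mk'_apply, QuotientGroup.eq_one_iff, Subgroup.mem_subgroupOf] at e
    exact e)
  have hxyb1 : xyb ≠ 1 := fun e => hxb1 (by
    have he : π ⟨y, hyN⟩ * xb * (π ⟨y, hyN⟩)⁻¹ = 1 := by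
      rw [← e, hxb, hxyb, ← map_inv, ← map_mul, ← map_mul]
      rfl
    exact conj_eq_one_iff.1 he)
  have heq : xb = xyb := by
    by_contra hne
    let f : Fin 3 → J := ![1, ⟨xb, hxJ⟩, ⟨xyb, hyJ⟩]
    have hinj : Function.Injective f := by
      intro i j hij
      have e := congrArg Subtype.val hij
      fin_cases i <;> fin_cases j <;> first
        | rfl
        | exact absurd e (Ne.symm hxb1)
        | exact absurd e hxb1
        | exact absurd e (Ne.symm hxyb1)
        | exact absurd e hxyb1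
        | exact absurd e hne
        | exact absurd e (Ne.symm hne)
    have := Nat.card_le_card_of_injective f hinj
    rw [Nat.card_eq_fintype_card, Fintype.card_fin] at this
    have := Nat.le_of_dvd (by norm_num) hJd
    omega
  have hk : x⁻¹ * (y * x * y⁻¹) ∈ W := by
    have e : π (⟨x, hx⟩⁻¹ * ⟨y * x * y⁻¹, hyx⟩) = 1 := by
      rw [map_mul, map_inv, ← hxb, ← hxyb, heq, inv_mul_cancel]
    rw [hπ, QuotientGroup.mk'_apply, QuotientGroup.eq_one_iff, Subgroup.mem_subgroupOf] at e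
    exact e
  -- `W ⊔ ⟨x⟩` is good
  set L := W ⊔ Subgroup.zpowers x with hL
  have hLN : L ≤ N := sup_le Subgroup.le_normalizer (Subgroup.zpowers_le.2 hx)
  have hLgood : Good y L := by
    refine ⟨?_, fun h3 => ?_⟩
    · have hle : L ≤ L.comap (MulAut.conj y).toMonoidHom := by
        rw [hL, sup_le_iff, Subgroup.zpowers_le]
        refine ⟨fun w hw => Subgroup.mem_sup_left (h.good.inv w hw), ?_⟩
        show y * x * y⁻¹ ∈ L
        rw [show y * x * y⁻¹ = x * (x⁻¹ * (y * x * y⁻¹)) by group]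
        exact mul_mem (Subgroup.mem_sup_right (Subgroup.mem_zpowers x)) (Subgroup.mem_sup_left hk)
      exact fun w hw => hle hw
    · obtain ⟨⟨l, hl⟩, hlo⟩ := exists_prime_orderOf_dvd_card' 3 h3
      rw [Subgroup.orderOf_mk] at hlo
      have himg : (L.subgroupOf N).map π ≤ J := by
        rw [Subgroup.map_le_iff_le_comap]
        have hsub : L ≤ ((J.comap π).map N.subtype) := by
          rw [hL, sup_le_iff, Subgroup.zpowers_le]
          refine ⟨fun w hw => ⟨⟨w, Subgroup.le_normalizer hw⟩, ?_, rfl⟩, ⟨⟨x, hx⟩, hxJ, rfl⟩⟩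
          show π ⟨w, Subgroup.le_normalizer hw⟩ ∈ J
          rw [hπ, QuotientGroup.mk'_apply, (QuotientGroup.eq_one_iff _).2 (by exact hw)]
          exact one_mem J
        intro m hm
        obtain ⟨m', hm', e⟩ := hsub hm
        rwa [Subtype.ext e] at hm'
      have hlJ : π ⟨l, hLN hl⟩ ∈ J := himg ⟨⟨l, hLN hl⟩, hl, rfl⟩
      have hl1 : π ⟨l, hLN hl⟩ = 1 := by
        by_contra hne
        have h13 : orderOf (π ⟨l, hLN hl⟩) ∣ 3 := by
          refine (orderOf_map_dvd π _).trans ?_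
          rw [← Subgroup.orderOf_coe, hlo]
        have h12 := (Subgroup.orderOf_dvd_natCard J hlJ).trans hJd
        exact hne (orderOf_eq_one_iff.1 (Nat.dvd_one.1 (by simpa using Nat.dvd_gcd h13 h12)))
      rw [hπ, QuotientGroup.mk'_apply, QuotientGroup.eq_one_iff, Subgroup.mem_subgroupOf] at hl1
      exact h.good.p' (hlo ▸ Subgroup.orderOf_dvd_natCard W hl1)
  have := h.max L hLgood le_sup_left
  exact hxW (this ▸ Subgroup.mem_sup_right (Subgroup.mem_zpowers x))

theorem Maxi.sq_le (hC : Config G q a b) (hy : orderOf y = 3) (h : Maxi y W)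
    (hN : Nat.card (Subgroup.normalizer (W : Set G)) = 6 * Nat.card W) (hW : IsPGroup 2 W)
    {x : G} (hx : x ∈ Subgroup.normalizer (W : Set G)) (hxW : x ∉ W) :
    Nat.card (W ⊓ Subgroup.centralizer ({x} : Set G) : Subgroup G) ^ 2 ≤ Nat.card W := by
  set C := W ⊓ Subgroup.centralizer ({x} : Set G) with hCd
  let f : C × C → W := fun p => ⟨(p.1 : G) * (y * (p.2 : G) * y⁻¹),
    mul_mem p.1.2.1 (h.good.inv _ p.2.2.1)⟩
  have hf : Function.Injective f := by
    rintro ⟨c, c'⟩ ⟨d, d'⟩ hcd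
    have e : (c : G) * (y * (c' : G) * y⁻¹) = (d : G) * (y * (d' : G) * y⁻¹) :=
      congrArg Subtype.val hcd
    have e' : (d : G)⁻¹ * c = y * ((d' : G) * (c' : G)⁻¹) * y⁻¹ := by
      calc (d : G)⁻¹ * c = (d : G)⁻¹ * ((c : G) * (y * (c' : G) * y⁻¹)) * (y * (c' : G) * y⁻¹)⁻¹ := by
            group
        _ = _ := by rw [e]; group
    have hdc : (d : G)⁻¹ * c = 1 := by
      have hdx := fun (u : C) => Subgroup.mem_centralizer_singleton_iff.1 u.2.2
      refine h.no_common hC hy hN hW hx hxW (mul_mem (inv_mem d.2.1) c.2.1) ?_ ?_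
      · exact ((show Commute (d : G) x from hdx d).inv_left.mul_left (hdx c)).eq
      · rw [e']
        have hd'c : Commute ((d' : G) * (c' : G)⁻¹) x :=
          (show Commute (d' : G) x from hdx d').mul_left (show Commute (c' : G) x from hdx c').inv_left
        calc y * ((d' : G) * (c' : G)⁻¹) * y⁻¹ * (y * x * y⁻¹)
            = y * (((d' : G) * (c' : G)⁻¹) * x) * y⁻¹ := by group
          _ = y * (x * ((d' : G) * (c' : G)⁻¹)) * y⁻¹ := by rw [hd'c.eq]
          _ = y * x * y⁻¹ * (y * ((d' : G) * (c' : G)⁻¹) * y⁻¹) := by group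
    have hc : c = d := Subtype.ext (inv_mul_eq_one.1 hdc).symm
    rw [hdc, eq_comm, conj_eq_one_iff] at e'
    exact Prod.ext hc (Subtype.ext (mul_inv_eq_one.1 e')).symm
  have := Nat.card_le_card_of_injective f hf
  rwa [Nat.card_prod, ← sq] at this

theorem normalizer_of_index_two {W T : Subgroup G} (hle : W ≤ T)
    (h : Nat.card T = 2 * Nat.card W) : T ≤ Subgroup.normalizer (W : Set G) := by
  refine (Subgroup.normal_subgroupOf_iff_le_normalizer hle).1 (Subgroup.normal_of_index_eq_two ?_)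
  have := (W.subgroupOf T).card_mul_index
  rw [card_subgroupOf hle, h, mul_comm 2] at this
  exact Nat.eq_of_mul_eq_mul_left Nat.card_pos this

/-- The centre of a maximal good subgroup of index two is central in no larger subgroup. -/
theorem center_step (hC : Config G q a b) {y' : G} {M : Subgroup G} (hy : orderOf y = 3)
    (h : Maxi y W) (hN : Nat.card (Subgroup.normalizer (W : Set G)) = 6 * Nat.card W)
    (hW : IsPGroup 2 W) (h' : Maxi y' M) {T : Subgroup G} (hWT : W ≤ T) (hMT : M ≤ T)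
    (hWc : Nat.card T = 2 * Nat.card W) (hMc : Nat.card T = 2 * Nat.card M) (hne : W ≠ M)
    (h4 : 4 < Nat.card W) {z : G} (hzM : z ∈ M) (hzc : ∀ m ∈ M, m * z = z * m) :
    z ∈ W ∧ ∀ w ∈ W, w * z = z * w := by
  set H := W ⊓ M with hH
  have hTN := normalizer_of_index_two hWT hWc
  have hHW : H ≤ W := inf_le_left
  have hle : Nat.card W ≤ 2 * Nat.card H := by
    have hsub : H ≤ M := inf_le_right
    have h1 : M.subgroupOf T ⊓ W.subgroupOf T = H.subgroupOf T := by
      rw [hH, inf_comm W M]; rfl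
    have hi : (W.subgroupOf T).index = 2 := by
      have := (W.subgroupOf T).card_mul_index
      rw [card_subgroupOf hWT, hWc, mul_comm 2] at this
      exact Nat.eq_of_mul_eq_mul_left Nat.card_pos this
    have hrel : (W.subgroupOf T).relIndex (M.subgroupOf T) ≤ 2 := by
      refine le_trans (Nat.le_of_dvd (by norm_num) ?_) le_rfl
      haveI : (W.subgroupOf T).Normal := Subgroup.normal_of_index_eq_two hi
      rw [← hi]
      exact Subgroup.relIndex_dvd_index_of_normal _ _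
    have hmul := Subgroup.card_mul_index ((W.subgroupOf T).subgroupOf (M.subgroupOf T))
    have hcH : Nat.card ((W.subgroupOf T).subgroupOf (M.subgroupOf T)) = Nat.card H := by
      rw [← Subgroup.inf_subgroupOf_right (W.subgroupOf T) (M.subgroupOf T),
        card_subgroupOf inf_le_right, inf_comm, h1,
        card_subgroupOf (hHW.trans hWT)]
    rw [hcH, card_subgroupOf hMT] at hmul
    have : Nat.card W = Nat.card M := by omega
    rw [this, ← hmul]
    calc Nat.card H * ((W.subgroupOf T).subgroupOf (M.subgroupOf T)).index ≤ Nat.card H * 2 :=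
          Nat.mul_le_mul_left _ hrel
      _ = 2 * Nat.card H := by ring
  have hcz : H ≤ W ⊓ Subgroup.centralizer ({z} : Set G) := fun u hu =>
    ⟨hu.1, Subgroup.mem_centralizer_singleton_iff.2 (hzc u hu.2)⟩
  have hzW : z ∈ W := by
    by_contra hzW
    have h2 := h.sq_le hC hy hN hW (hTN (hMT hzM)) hzW
    have h3 := Subgroup.card_le_of_le hcz
    have h5 : Nat.card W * Nat.card W ≤ 4 * Nat.card W := by
      calc Nat.card W * Nat.card W ≤ (2 * Nat.card H) * (2 * Nat.card H) := Nat.mul_le_mul hle hle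
        _ = 4 * Nat.card H ^ 2 := by ring
        _ ≤ 4 * Nat.card W := Nat.mul_le_mul_left _ (le_trans (Nat.pow_le_pow_left h3 2) h2)
    have := Nat.le_of_mul_le_mul_right h5 (by omega)
    omega
  refine ⟨hzW, ?_⟩
  by_contra hnot
  push Not at hnot
  obtain ⟨w, hw, hwz⟩ := hnot
  refine h.good.not_index_two hC hy hzW ?_
  set K := W ⊓ Subgroup.centralizer ({z} : Set G) with hK
  have hKlt : Nat.card K < Nat.card W := by
    by_contra hge
    have e := Subgroup.eq_of_le_of_card_ge (inf_le_left : K ≤ W) (not_lt.1 hge)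
    exact hwz (Subgroup.mem_centralizer_singleton_iff.1 (show w ∈ K by rw [hK, e]; exact hw).2)
  obtain ⟨k, hk⟩ : Nat.card K ∣ Nat.card W := Subgroup.card_dvd_of_le inf_le_left
  have hKH := Subgroup.card_le_of_le hcz
  have hk2 : k = 2 := by
    rcases (show k = 0 ∨ k = 1 ∨ k = 2 ∨ 3 ≤ k by omega) with e | e | e | e
    · rw [e, mul_zero] at hk
      have := Nat.card_pos (α := W)
      omega
    · rw [e, mul_one] at hk
      omega
    · exact e
    · have : Nat.card K * 3 ≤ Nat.card K * k := Nat.mul_le_mul_left _ e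
      have := Nat.card_pos (α := K)
      omega
  rw [hk, hk2, mul_comm]

/-- Two maximal good subgroups of index two in the same 2-group are equal. -/
theorem Maxi.eq_of_index_two (hC : Config G q a b) (hy : orderOf y = 3) (h : Maxi y W)
    (hN : Nat.card (Subgroup.normalizer (W : Set G)) = 6 * Nat.card W) (hW : IsPGroup 2 W)
    {y' : G} {M : Subgroup G} (hy' : orderOf y' = 3) (h' : Maxi y' M)
    (hN' : Nat.card (Subgroup.normalizer (M : Set G)) = 6 * Nat.card M) (hM : IsPGroup 2 M)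
    {T : Subgroup G} (hWT : W ≤ T) (hMT : M ≤ T) (hWc : Nat.card T = 2 * Nat.card W)
    (hMc : Nat.card T = 2 * Nat.card M) (h4 : 4 < Nat.card W) : W = M := by
  by_contra hne
  have hWM : Nat.card W = Nat.card M := by omega
  haveI : Fact (Nat.Prime 2) := ⟨Nat.prime_two⟩
  -- the centres coincide
  have key1 := fun z (hz : z ∈ M) (hc : ∀ m ∈ M, m * z = z * m) =>
    center_step hC hy h hN hW h' hWT hMT hWc hMc hne h4 hz hc
  have key2 := fun z (hz : z ∈ W) (hc : ∀ w ∈ W, w * z = z * w) =>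
    center_step hC hy' h' hN' hM h hMT hWT hMc hWc (Ne.symm hne) (hWM ▸ h4) hz hc
  haveI : Nontrivial W := by
    rw [← Finite.one_lt_card_iff_nontrivial]; omega
  haveI := IsPGroup.center_nontrivial hW
  obtain ⟨⟨⟨z0, hz0⟩, hz0c⟩, hz01⟩ := exists_ne (1 : Subgroup.center W)
  obtain ⟨x, hxM, hxW⟩ : ∃ x ∈ M, x ∉ W := by
    by_contra hall
    push Not at hall
    exact hne (Subgroup.eq_of_le_of_card_ge hall (le_of_eq hWM)).symm
  have hcomm : ∀ d ∈ W, (∀ w ∈ W, w * d = d * w) → d * x = x * d := fun d hd hdc => by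
    obtain ⟨-, hc⟩ := key2 d hd hdc
    exact (hc x hxM).symm
  have hz0c' : ∀ w ∈ W, w * z0 = z0 * w := fun w hw =>
    congrArg Subtype.val (Subgroup.mem_center_iff.1 hz0c ⟨w, hw⟩)
  have hz02 : y⁻¹ * z0 * y ∈ W := h.good.inv_mem_conj hz0
  have hz02c : ∀ w ∈ W, w * (y⁻¹ * z0 * y) = y⁻¹ * z0 * y * w := fun w hw => by
    have := hz0c' (y * w * y⁻¹) (h.good.inv w hw)
    calc w * (y⁻¹ * z0 * y) = y⁻¹ * ((y * w * y⁻¹) * z0) * y := by group
      _ = y⁻¹ * z0 * y * w := by rw [this]; group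
  refine hz01 (Subtype.ext (Subtype.ext ?_))
  refine h.no_common hC hy hN hW (normalizer_of_index_two hWT hWc (hMT hxM)) hxW hz0
    (hcomm z0 hz0 hz0c') ?_
  have := hcomm _ hz02 hz02c
  calc z0 * (y * x * y⁻¹) = y * ((y⁻¹ * z0 * y) * x) * y⁻¹ := by group
    _ = y * x * y⁻¹ * z0 := by rw [this]; group

theorem exists_sylow_two {P : Subgroup G} (hC : Config G q a b) (hP : IsPGroup 2 P) :
    ∃ T : Sylow 2 G, P ≤ T ∧ Nat.card (T : Subgroup G) = 2 ^ a := by
  haveI : Fact (Nat.Prime 2) := ⟨Nat.prime_two⟩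
  obtain ⟨T, hT⟩ := hP.exists_le_sylow
  exact ⟨T, hT, T.card_eq_multiplicity.trans (by rw [hC.factorization_card.1])⟩

/-- The kinds of maximal good subgroups. -/
theorem Maxi.cases (hC : Config G q a b) (hy : orderOf y = 3) (h : Maxi y W) (hmix : NoMix G q) :
    Nat.card W = q ^ b ∨
    (Nat.card W = 2 ^ a ∧ Nat.card (Subgroup.normalizer (W : Set G)) = 3 * Nat.card W) ∨
    (Nat.card W = 4 ∧ Nat.card (Subgroup.normalizer (W : Set G)) = 24) ∨
    (2 * Nat.card W = 2 ^ a ∧ 16 ≤ Nat.card W ∧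
      Nat.card (Subgroup.normalizer (W : Set G)) = 6 * Nat.card W) := by
  classical
  haveI : Fact (Nat.Prime 2) := ⟨Nat.prime_two⟩
  by_cases hd : q ∣ Nat.card W
  · exact Or.inl (h.q_case hC hy hmix hd)
  right
  obtain ⟨i, -, hi⟩ := h.two_group hC hd
  have hW : IsPGroup 2 W := IsPGroup.of_card hi
  rcases (h.core hC hy).card with hN | hN
  · left
    refine ⟨?_, hN⟩
    obtain ⟨T, hT⟩ := sylow_of_normalizer (p := 2) hW (fun e he => by
      rw [hN] at he
      exact Nat.le_of_dvd Nat.card_pos (mul_pow_two_dvd he))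
    rw [← hT]
    exact T.card_eq_multiplicity.trans (by rw [hC.factorization_card.1])
  right
  have h3 := h.good.card_mod_three hC hy
  have hi0 : i ≠ 0 := fun e => by
    rw [e, pow_zero] at hi
    exact h.ne_bot (Subgroup.card_eq_one.1 hi)
  rcases (show i = 1 ∨ i = 2 ∨ i = 3 ∨ 4 ≤ i by omega) with e | e | e | e
  · rw [hi, e] at h3; norm_num at h3
  · left
    rw [hN, hi, e]
    norm_num
  · rw [hi, e] at h3; norm_num at h3
  right
  have h16 : 16 ≤ Nat.card W := by
    rw [hi]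
    exact le_trans (by norm_num) (Nat.pow_le_pow_right (by norm_num : 1 ≤ 2) e)
  refine ⟨?_, h16, hN⟩
  set N := Subgroup.normalizer (W : Set G) with hN'
  have hWsub : IsPGroup 2 (W.subgroupOf N) :=
    IsPGroup.of_card (n := i) (by rw [card_subgroupOf (Subgroup.le_normalizer : W ≤ N), hi])
  obtain ⟨P, hP⟩ := hWsub.exists_le_sylow
  set T' := (P : Subgroup N).map N.subtype with hT'
  have hT'N : T' ≤ N := Subgroup.map_subtype_le _
  have hWT' : W ≤ T' := fun w hw => ⟨⟨w, Subgroup.le_normalizer hw⟩, hP (by exact hw), rfl⟩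
  have hT'c : Nat.card T' = 2 * Nat.card W := by
    rw [hT', Subgroup.card_map_of_injective N.subtype_injective]
    have := SmallSimple.card_sylow_subgroup (G := N) (p := 2) (k := i + 1) (m := 3)
      (by rw [hN, hi]; ring) (by norm_num) P
    rw [this, hi, pow_succ']
  obtain ⟨T, hT'T, hTc⟩ := exists_sylow_two hC (P.isPGroup'.map N.subtype)
  by_contra hne
  haveI := T.isPGroup'.isNilpotent
  have hlt : T'.subgroupOf (T : Subgroup G) < ⊤ := lt_top_iff_ne_top.2 fun e' => hne (by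
    have := le_antisymm hT'T (Subgroup.subgroupOf_eq_top.1 e')
    rw [← hT'c, ← hTc, ← this])
  have hN2 := Group.normalizerCondition_of_isNilpotent _ hlt
  obtain ⟨g, hg, hgn⟩ := Set.exists_of_ssubset hN2
  have hgT' : (g : G) ∉ T' := hgn
  have hgnorm : ∀ d ∈ T', (g : G) * d * (g : G)⁻¹ ∈ T' := fun d hd =>
    (Subgroup.mem_normalizer_iff.1 hg ⟨d, hT'T hd⟩).1 hd
  set M := W.map (MulAut.conj (g : G)).toMonoidHom with hM
  have hMT' : M ≤ T' := by
    rintro - ⟨w, hw, rfl⟩
    exact hgnorm w (hWT' hw)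
  have hMc : Nat.card M = Nat.card W :=
    Subgroup.card_map_of_injective (MulAut.conj (g : G)).injective
  have hy' := conj_order hy (g : G)
  have hMmax := h.map_conj (g : G)
  have hNM : Nat.card (Subgroup.normalizer (M : Set G)) = 6 * Nat.card M := by
    rw [hMc, ← hN, hM, ← Subgroup.map_equiv_normalizer_eq]
    exact Subgroup.card_map_of_injective (MulAut.conj (g : G)).injective
  have heq : W = M := h.eq_of_index_two hC hy hN hW hy' hMmax hNM (hW.map _) hWT' hMT' hT'c
    (by rw [hT'c, hMc]) (by omega)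
  -- so `g` normalises `W`
  have hgN : (g : G) ∈ N := by
    rw [hN', Subgroup.mem_normalizer_iff_map_conj_eq]
    exact heq.symm
  refine hgT' ?_
  have hIle : T' ≤ N ⊓ (T : Subgroup G) := le_inf hT'N hT'T
  obtain ⟨e2, he2⟩ := IsPGroup.iff_card.1 (T.isPGroup'.to_le (inf_le_right : N ⊓ (T : Subgroup G) ≤ T))
  have hd2 : 2 ^ e2 ∣ 2 * Nat.card W := by
    have := he2 ▸ Subgroup.card_dvd_of_le (inf_le_left : N ⊓ (T : Subgroup G) ≤ N)
    rw [hN, show 6 * Nat.card W = 3 * (2 * Nat.card W) by ring] at this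
    exact mul_pow_two_dvd this
  have : T' = N ⊓ (T : Subgroup G) := Subgroup.eq_of_le_of_card_ge hIle
    (he2 ▸ hT'c ▸ Nat.le_of_dvd (Nat.mul_pos (by norm_num) Nat.card_pos) hd2)
  rw [this]
  exact ⟨hgN, g.2⟩

end Cfsg.Agent.SelfNineEight
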