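import Cfsg.Agent.Lib.SelfNineEight.Pairs
import Cfsg.Agent.S3341

/-!
# Conjugates of a maximal good subgroup normalised by a given element of order three
-/

set_option autoImplicit false
set_option linter.style.haveILetI false
set_option linter.unusedSectionVars false

namespace Cfsg.Agent.SelfNineEight

open Cfsg Cfsg.Agent Cfsg.Agent.Exceptional.SelfNine Cfsg.Agent.SelfCentThree
open scoped Classical

universe u

variable {G : Type u} [Group G] [Fintype G] {q a b : ℕ}

/-- The conjugates of `W`. -/
noncomputable def conjugates (W : Subgroup G) : Finset (Subgroup G) :=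
  Finset.univ.filter fun V => ∃ g : G, W.map (MulAut.conj g).toMonoidHom = V

/-- The conjugates of `W` normalised by `y`. -/
noncomputable def normalizedBy (W : Subgroup G) (y : G) : Finset (Subgroup G) :=
  (conjugates W).filter fun V => y ∈ Subgroup.normalizer (V : Set G)

/-- The elements of order three. -/
noncomputable def threes (G : Type u) [Group G] [Fintype G] : Finset G :=
  Finset.univ.filter fun g => orderOf g = 3

theorem mem_conjugates {W V : Subgroup G} :
    V ∈ conjugates W ↔ ∃ g : G, W.map (MulAut.conj g).toMonoidHom = V := by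
  rw [conjugates, Finset.mem_filter]
  exact ⟨fun h => h.2, fun h => ⟨Finset.mem_univ _, h⟩⟩

theorem map_conj_map (g h : G) (W : Subgroup G) :
    (W.map (MulAut.conj g).toMonoidHom).map (MulAut.conj h).toMonoidHom =
      W.map (MulAut.conj (h * g)).toMonoidHom := by
  rw [Subgroup.map_map]
  congr 1
  ext v
  simp [mul_assoc]

theorem map_conj_eq_self {g : G} {W : Subgroup G} :
    W.map (MulAut.conj g).toMonoidHom = W ↔ g ∈ Subgroup.normalizer (W : Set G) :=
  Subgroup.mem_normalizer_iff_map_conj_eq.symm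

theorem map_conj_one (W : Subgroup G) : W.map (MulAut.conj (1 : G)).toMonoidHom = W :=
  map_conj_eq_self.2 (one_mem _)

theorem self_mem_conjugates (W : Subgroup G) : W ∈ conjugates W :=
  mem_conjugates.2 ⟨1, map_conj_one W⟩

theorem card_normalizer_conjugate {W V : Subgroup G} (h : V ∈ conjugates W) :
    Nat.card V = Nat.card W ∧
      Nat.card (Subgroup.normalizer (V : Set G)) = Nat.card (Subgroup.normalizer (W : Set G)) := by
  obtain ⟨g, rfl⟩ := mem_conjugates.1 h
  exact ⟨Subgroup.card_map_of_injective (MulAut.conj g).injective, by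
    rw [← Subgroup.map_equiv_normalizer_eq]
    exact Subgroup.card_map_of_injective (MulAut.conj g).injective⟩

theorem card_conjugates (W : Subgroup G) :
    (conjugates W).card * Nat.card (Subgroup.normalizer (W : Set G)) = Nat.card G := by
  set N := Subgroup.normalizer (W : Set G) with hN
  have hb : ∀ g h : G, W.map (MulAut.conj g).toMonoidHom = W.map (MulAut.conj h).toMonoidHom ↔
      g⁻¹ * h ∈ N := by
    intro g h
    rw [hN, ← map_conj_eq_self, ← map_conj_map h g⁻¹]
    constructor
    · intro e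
      rw [← e, map_conj_map, inv_mul_cancel]
      exact map_conj_one W
    · intro e
      have := congrArg (fun V : Subgroup G => V.map (MulAut.conj g).toMonoidHom) e
      rw [map_conj_map h g⁻¹, map_conj_map, mul_inv_cancel_left] at this
      exact this.symm
  let f : G ⧸ N → (conjugates W) := Quotient.lift
    (fun g : G => (⟨W.map (MulAut.conj g).toMonoidHom, mem_conjugates.2 ⟨g, rfl⟩⟩ : conjugates W))
    fun g h hgh => Subtype.ext ((hb g h).2 (QuotientGroup.leftRel_apply.1 hgh))
  have hf : Function.Bijective f := by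
    constructor
    · intro x y
      induction x using QuotientGroup.induction_on with
      | H g =>
        induction y using QuotientGroup.induction_on with
        | H h => exact fun e => QuotientGroup.eq.2 ((hb g h).1 (congrArg Subtype.val e))
    · rintro ⟨V, hV⟩
      obtain ⟨g, rfl⟩ := mem_conjugates.1 hV
      exact ⟨QuotientGroup.mk g, rfl⟩
  rw [Subgroup.card_eq_card_quotient_mul_card_subgroup N, Nat.card_congr (Equiv.ofBijective f hf),
    Nat.card_eq_finsetCard]

theorem Config.card_threes (hC : Config G q a b) : (threes G).card = 2 ^ a * q ^ b := by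
  have h3 : 3 ∣ Nat.card G := by rw [hC.card]; exact dvd_mul_of_dvd_left (by norm_num) _
  haveI := Fact.mk Nat.prime_three
  obtain ⟨z, hz⟩ := exists_prime_orderOf_dvd_card' 3 h3
  have h := Char.card_centralizer_mul_card_conj z
  rw [hC.card_cent hz, hC.card] at h
  have e : Nat.card {x : G // IsConj z x} = (threes G).card := by
    rw [← Nat.card_eq_finsetCard]
    refine Nat.card_congr (Equiv.subtypeEquivRight fun x => ?_)
    rw [threes, Finset.mem_filter]
    refine ⟨fun hx => ⟨Finset.mem_univ _, ?_⟩, fun hx => hC.conj z x hz hx.2⟩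
    obtain ⟨g, rfl⟩ := isConj_iff.1 hx
    exact conj_order hz g
  rw [e] at h
  exact Nat.eq_of_mul_eq_mul_left (by norm_num) h

variable [IsSimpleGroup G] {y : G} {W : Subgroup G}

/-- The elements of order three of the normaliser of a maximal good subgroup. -/
theorem Maxi.three_cases (hC : Config G q a b) (hy : orderOf y = 3) (h : Maxi y W) {x : G}
    (hx : orderOf x = 3) (hxN : x ∈ Subgroup.normalizer (W : Set G)) :
    ∃ w ∈ W, x = w * y ∨ x = w * y⁻¹ := by
  set N := Subgroup.normalizer (W : Set G) with hN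
  have hS := h.good.selfThree hC hy h.ne_bot
  haveI : (W.subgroupOf N).Normal := Subgroup.normal_in_normalizer
  have h3 := h.good.subgroupOf_p' (Subgroup.le_normalizer (H := W))
  have hq := hS.quotient (W.subgroupOf N) h3
  set yb : N ⧸ W.subgroupOf N := ((⟨y, h.good.mem_normalizer⟩ : N) : N ⧸ W.subgroupOf N) with hyb
  set Z := Subgroup.zpowers yb with hZ
  have hZc : Nat.card Z = 3 := by rw [hZ, Nat.card_zpowers]; exact hq.order
  have hQ : Nat.card (N ⧸ W.subgroupOf N) = 3 ∨ Nat.card (N ⧸ W.subgroupOf N) = 6 := by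
    have := Subgroup.card_eq_card_quotient_mul_card_subgroup (W.subgroupOf N)
    rw [card_subgroupOf (Subgroup.le_normalizer : W ≤ N)] at this
    rcases (h.core hC hy).card with e | e <;> rw [← hN, this] at e
    · exact Or.inl (Nat.eq_of_mul_eq_mul_right Nat.card_pos e)
    · exact Or.inr (Nat.eq_of_mul_eq_mul_right Nat.card_pos e)
  set xb : N ⧸ W.subgroupOf N := ((⟨x, hxN⟩ : N) : N ⧸ W.subgroupOf N) with hxb
  have hxb3 : xb ^ 3 = 1 := by
    rw [hxb, ← QuotientGroup.mk_pow]
    refine (QuotientGroup.eq_one_iff _).2 ?_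
    rw [Subgroup.mem_subgroupOf, SubgroupClass.coe_pow, ← hx, pow_orderOf_eq_one]
    exact one_mem W
  have hmem : xb ∈ Z := by
    have hidx := Z.index_mul_card
    rw [hZc] at hidx
    rcases (show Z.index = 1 ∨ Z.index = 2 by rcases hQ with e | e <;> rw [e] at hidx <;> omega)
      with e | e
    · rw [Subgroup.index_eq_one] at e
      exact e ▸ Subgroup.mem_top _
    · have h4 : xb = (xb * xb) * (xb * xb) := by
        calc xb = xb * (xb ^ 3) := by rw [hxb3, mul_one]
          _ = _ := by rw [pow_three', ← mul_assoc, ← mul_assoc, mul_assoc (xb * xb)]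
      rw [h4]
      exact Subgroup.mul_self_mem_of_index_two e _
  have key : ∀ v : G, ∀ hv : v ∈ N, xb = ((⟨v, hv⟩ : N) : N ⧸ W.subgroupOf N) →
      ∃ w ∈ W, x = w * v := by
    intro v hv e
    have e' : xb * ((⟨v, hv⟩ : N) : N ⧸ W.subgroupOf N)⁻¹ = 1 := by rw [e, mul_inv_cancel]
    rw [hxb, ← QuotientGroup.mk_inv, ← QuotientGroup.mk_mul, QuotientGroup.eq_one_iff,
      Subgroup.mem_subgroupOf] at e'
    exact ⟨x * v⁻¹, e', by group⟩
  rcases hq.mem_iff.1 hmem with e | e | e
  · obtain ⟨w, hw, e'⟩ := key 1 (one_mem N) e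
    rw [mul_one] at e'
    exfalso
    exact h.good.p' (hx ▸ e' ▸ Subgroup.orderOf_dvd_natCard W hw)
  · obtain ⟨w, hw, e'⟩ := key y h.good.mem_normalizer e
    exact ⟨w, hw, Or.inl e'⟩
  · obtain ⟨w, hw, e'⟩ := key y⁻¹ (inv_mem h.good.mem_normalizer) (e.trans (by
      rw [← hq.inv_eq]; rfl))
    exact ⟨w, hw, Or.inr e'⟩

omit [IsSimpleGroup G] in
theorem Maxi.inverse (h : Maxi y W) : Maxi y⁻¹ W :=
  ⟨h.good.inverse, h.ne_bot, fun D hD hle => h.max D (by
    have := hD.inverse
    rwa [inv_inv] at this) hle⟩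

theorem Maxi.of_mem (hC : Config G q a b) (hy : orderOf y = 3) (h : Maxi y W) {x : G}
    (hx : orderOf x = 3) (hxN : x ∈ Subgroup.normalizer (W : Set G)) : Maxi x W := by
  have main : ∀ v : G, orderOf v = 3 → Maxi v W → ∀ w ∈ W, Maxi (w * v) W := by
    intro v hv hm w hw
    obtain ⟨e, he, hee⟩ := (hm.good.selfThree hC hv hm.ne_bot).exists_conj_coset
      (hm.good.subgroupOf_inv _) (hm.good.subgroupOf_p' Subgroup.le_normalizer)
      (d := ⟨w, Subgroup.le_normalizer hw⟩) hw
    have heq : w * v = (e : G)⁻¹ * v * (e : G) := congrArg Subtype.val hee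
    have heW : (e : G) ∈ W := he
    have := hm.map_conj (e : G)⁻¹
    rw [inv_inv, map_conj_eq_self.2 (Subgroup.le_normalizer (inv_mem heW)), ← heq] at this
    exact this
  obtain ⟨w, hw, rfl | rfl⟩ := h.three_cases hC hy hx hxN
  · exact main y hy h w hw
  · exact main y⁻¹ (by rw [orderOf_inv, hy]) h.inverse w hw

theorem Maxi.card_threes_normalizer (hC : Config G q a b) (hy : orderOf y = 3) (h : Maxi y W) :
    ((threes G).filter fun x => x ∈ Subgroup.normalizer (W : Set G)).card = 2 * Nat.card W := by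
  rw [← Nat.card_eq_finsetCard, show 2 * Nat.card W = Nat.card (W ⊕ W) by
    rw [Nat.card_sum, two_mul]]
  have hyi : orderOf y⁻¹ = 3 := by rw [orderOf_inv, hy]
  have hN := fun (w : W) => Subgroup.le_normalizer (H := W) w.2
  have m1 : ∀ w : W, (w : G) * y ∈ (threes G).filter fun x => x ∈ Subgroup.normalizer (W : Set G) :=
    fun w => by
      simp only [threes, Finset.mem_filter, Finset.mem_univ, true_and]
      exact ⟨h.good.order_coset hC hy w.2, mul_mem (hN w) h.good.mem_normalizer⟩
  have m2 : ∀ w : W, (w : G) * y⁻¹ ∈ (threes G).filter fun x => x ∈ Subgroup.normalizer (W : Set G) :=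
    fun w => by
      simp only [threes, Finset.mem_filter, Finset.mem_univ, true_and]
      exact ⟨h.good.inverse.order_coset hC hyi w.2, mul_mem (hN w) (inv_mem h.good.mem_normalizer)⟩
  let f : W ⊕ W → ((threes G).filter fun x => x ∈ Subgroup.normalizer (W : Set G)) := fun p =>
    match p with
    | .inl w => ⟨_, m1 w⟩
    | .inr w => ⟨_, m2 w⟩
  refine (Nat.card_congr (Equiv.ofBijective f ⟨?_, ?_⟩)).symm
  · have hno : ∀ v w : W, (v : G) * y ≠ (w : G) * y⁻¹ := fun v w e => by
      have h2 : y * y ∈ W := by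
        rw [show y * y = (v : G)⁻¹ * ((v : G) * y) * y by group, e,
          show (v : G)⁻¹ * ((w : G) * y⁻¹) * y = (v : G)⁻¹ * w by group]
        exact mul_mem (inv_mem v.2) w.2
      have h3 : y * y = y⁻¹ :=
        (inv_eq_of_mul_eq_one_right (by rw [← mul_assoc]; exact pow_three_of_order hy)).symm
      rw [h3] at h2
      exact h.good.p' (hyi ▸ Subgroup.orderOf_dvd_natCard W h2)
    rintro (v | v) (w | w) e <;> have e' := congrArg Subtype.val e
    · exact congrArg Sum.inl (Subtype.ext (mul_right_cancel (show (v : G) * y = (w : G) * y from e')))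
    · exact absurd e' (hno v w)
    · exact absurd e'.symm (hno w v)
    · exact congrArg Sum.inr
        (Subtype.ext (mul_right_cancel (show (v : G) * y⁻¹ = (w : G) * y⁻¹ from e')))
  · rintro ⟨x, hx⟩
    obtain ⟨hx1, hx2⟩ := Finset.mem_filter.1 hx
    obtain ⟨w, hw, e | e⟩ := h.three_cases hC hy (Finset.mem_filter.1 hx1).2 hx2
    · exact ⟨.inl ⟨w, hw⟩, Subtype.ext e.symm⟩
    · exact ⟨.inr ⟨w, hw⟩, Subtype.ext e.symm⟩

theorem Maxi.mem_normalizedBy (hC : Config G q a b) (hy : orderOf y = 3) (h : Maxi y W) {z : G}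
    (hz : orderOf z = 3) {V : Subgroup G} (hV : V ∈ normalizedBy W z) : Maxi z V := by
  obtain ⟨hV1, hV2⟩ := Finset.mem_filter.1 hV
  obtain ⟨g, rfl⟩ := mem_conjugates.1 hV1
  exact (h.map_conj g).of_mem hC (conj_order hy g) hz hV2

/-- Double counting of the pairs. -/
theorem Maxi.card_normalizedBy (hC : Config G q a b) (hy : orderOf y = 3) (h : Maxi y W) {z : G}
    (hz : orderOf z = 3) :
    (normalizedBy W z).card * Nat.card (Subgroup.normalizer (W : Set G)) = 18 * Nat.card W := by
  have hconst : ∀ x ∈ threes G, (normalizedBy W x).card = (normalizedBy W z).card := by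
    intro x hx
    obtain ⟨g, rfl⟩ := isConj_iff.1 (hC.conj z x hz (Finset.mem_filter.1 hx).2)
    symm
    refine Finset.card_bij (fun V _ => V.map (MulAut.conj g).toMonoidHom) ?_ ?_ ?_
    · intro V hV
      obtain ⟨hV1, hV2⟩ := Finset.mem_filter.1 hV
      obtain ⟨k, rfl⟩ := mem_conjugates.1 hV1
      refine Finset.mem_filter.2 ⟨mem_conjugates.2 ⟨g * k, (map_conj_map k g W).symm⟩, ?_⟩
      rw [← Subgroup.map_equiv_normalizer_eq]
      exact ⟨z, hV2, rfl⟩
    · intro V _ V' _ e
      exact Subgroup.map_injective (MulAut.conj g).injective e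
    · intro V hV
      obtain ⟨hV1, hV2⟩ := Finset.mem_filter.1 hV
      obtain ⟨k, rfl⟩ := mem_conjugates.1 hV1
      refine ⟨(W.map (MulAut.conj k).toMonoidHom).map (MulAut.conj g⁻¹).toMonoidHom,
        Finset.mem_filter.2 ⟨mem_conjugates.2 ⟨g⁻¹ * k, (map_conj_map k g⁻¹ W).symm⟩, ?_⟩, ?_⟩
      · rw [← Subgroup.map_equiv_normalizer_eq]
        exact ⟨g * z * g⁻¹, hV2, show g⁻¹ * (g * z * g⁻¹) * g⁻¹⁻¹ = z by group⟩
      · show ((W.map (MulAut.conj k).toMonoidHom).map (MulAut.conj g⁻¹).toMonoidHom).map
          (MulAut.conj g).toMonoidHom = _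
        rw [map_conj_map, mul_inv_cancel, map_conj_one]
  have hsum := Finset.sum_card_bipartiteAbove_eq_sum_card_bipartiteBelow
    (s := conjugates W) (t := threes G) (fun (V : Subgroup G) (x : G) => x ∈ Subgroup.normalizer (V : Set G))
  have hL : ∀ V ∈ conjugates W, ((threes G).bipartiteAbove
      (fun (V : Subgroup G) (x : G) => x ∈ Subgroup.normalizer (V : Set G)) V).card =
      2 * Nat.card W := by
    intro V hV
    rw [← (card_normalizer_conjugate hV).1]
    obtain ⟨g, rfl⟩ := mem_conjugates.1 hV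
    exact (h.map_conj g).card_threes_normalizer hC (conj_order hy g)
  rw [Finset.sum_congr rfl hL, Finset.sum_congr rfl (fun x hx => show ((conjugates W).bipartiteBelow
      (fun (V : Subgroup G) (x : G) => x ∈ Subgroup.normalizer (V : Set G)) x).card =
        (normalizedBy W z).card from hconst x hx), Finset.sum_const,
    Finset.sum_const, smul_eq_mul, smul_eq_mul, hC.card_threes] at hsum
  have hG := card_conjugates W
  rw [hC.card] at hG
  refine Nat.eq_of_mul_eq_mul_left hC.n_pos ?_
  calc 2 ^ a * q ^ b * ((normalizedBy W z).card * Nat.card (Subgroup.normalizer (W : Set G)))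
      = ((conjugates W).card * (2 * Nat.card W)) * Nat.card (Subgroup.normalizer (W : Set G)) := by
        rw [hsum]; ring
    _ = ((conjugates W).card * Nat.card (Subgroup.normalizer (W : Set G))) * (2 * Nat.card W) := by
        ring
    _ = _ := by rw [hG]; ring

/-- The normaliser of a Sylow 3-subgroup has order 72. -/
theorem Config.sylow_count (hC : Config G q a b) : 2 ^ a * q ^ b % 72 = 8 := by
  haveI := Fact.mk Nat.prime_three
  have h3 : 3 ∣ Nat.card G := by rw [hC.card]; exact dvd_mul_of_dvd_left (by norm_num) _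
  obtain ⟨z, hz⟩ := exists_prime_orderOf_dvd_card' 3 h3
  obtain ⟨S, hS, hzS⟩ := hC.syl z hz
  have hz1 := ne_one_of_three hz
  set N := Subgroup.normalizer ((S : Subgroup G) : Set G) with hN
  have horb := S3341.orbit_card hS hzS hz1
  have hset : {c : G | ∃ n ∈ N, n * z * n⁻¹ = c} = ((S : Subgroup G) : Set G) \ {1} := by
    ext c
    constructor
    · rintro ⟨n, hn, rfl⟩
      exact ⟨(Subgroup.mem_normalizer_iff.1 hn z).1 hzS, fun e => hz1 (conj_eq_one_iff.1 e)⟩
    · rintro ⟨hc, hc1⟩
      obtain ⟨g, hg⟩ := isConj_iff.1 (hC.conj z c hz (orderOf_eq_prime (hS.exp c hc) hc1))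
      exact ⟨g, hS.ctl hzS hz1 (hg ▸ hc), hg⟩
  rw [← hN, hset, Set.ncard_sdiff_singleton_of_mem (Subgroup.one_mem _),
    show ((S : Subgroup G) : Set G).ncard = 9 by rw [← Nat.card_coe_set_eq]; exact hS.card] at horb
  have hfix : ∀ P : Sylow 3 G, ∀ s ∈ (S : Subgroup G), s ≠ 1 → s • P = P → P = S := by
    intro P s hs hs1 hsP
    have hsP' : s ∈ (P : Subgroup G) := SmallSimple.mem_of_smul_sylow_eq hs hsP
    obtain ⟨g, hg⟩ := MulAction.exists_smul_eq G S P
    rw [← hg] at hsP' ⊢
    rw [Sylow.coe_subgroup_smul] at hsP'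
    obtain ⟨r, hr, hrs⟩ := hsP'
    have hr1 : r ≠ 1 := fun e => hs1 (by rw [← hrs, e]; exact map_one _)
    exact SmallSimple.smul_sylow_eq_iff.2 (hS.ctl hr hr1 (by
      rw [show g * r * g⁻¹ = s from hrs]; exact hs))
  have hcard : Nat.card (Sylow 3 G) * Nat.card N = Nat.card G := by
    rw [Sylow.card_eq_index_normalizer S]
    exact N.index_mul_card
  -- free action on the other Sylow subgroups
  have hmod : Nat.card (Sylow 3 G) % 9 = 1 := by
    haveI := Fintype.ofFinite (MulAction.orbitRel.Quotient (S : Subgroup G) (Sylow 3 G))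
    set o : MulAction.orbitRel.Quotient (S : Subgroup G) (Sylow 3 G) := Quotient.mk'' S with ho
    have hsum : Nat.card (Sylow 3 G) = ∑ ω : MulAction.orbitRel.Quotient (S : Subgroup G) (Sylow 3 G),
        Nat.card (MulAction.orbit (S : Subgroup G) ω.out) := by
      rw [Nat.card_congr (MulAction.selfEquivSigmaOrbits (S : Subgroup G) (Sylow 3 G)), Nat.card_sigma]
    have hSS : ∀ s : (S : Subgroup G), s • S = S := fun s =>
      SmallSimple.smul_sylow_eq_iff.2 (Subgroup.le_normalizer s.2)
    have hone : Nat.card (MulAction.orbit (S : Subgroup G) o.out) = 1 := by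
      have hmem : o.out ∈ MulAction.orbit (S : Subgroup G) S :=
        MulAction.orbitRel_apply.1 (Quotient.eq''.1 (Quotient.out_eq' o))
      obtain ⟨s, hs⟩ := hmem
      have hout : o.out = S := hs.symm.trans (hSS s)
      rw [hout, Nat.card_eq_one_iff_unique]
      refine ⟨⟨?_⟩, ⟨⟨S, MulAction.mem_orbit_self S⟩⟩⟩
      rintro ⟨x, s, rfl⟩ ⟨x', s', rfl⟩
      exact Subtype.ext ((hSS s).trans (hSS s').symm)
    have hrest : ∀ ω ∈ Finset.univ.erase o,
        9 ∣ Nat.card (MulAction.orbit (S : Subgroup G) ω.out) := by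
      intro ω hω
      have hne : ω.out ≠ S := fun e => (Finset.mem_erase.1 hω).1 (by
        exact (Quotient.out_eq' ω).symm.trans (congrArg Quotient.mk'' e))
      have hst : MulAction.stabilizer (S : Subgroup G) ω.out = ⊥ := by
        rw [Subgroup.eq_bot_iff_forall]
        intro s hs
        by_contra hs1
        exact hne (hfix _ s s.2 (fun e => hs1 (Subtype.ext e)) hs)
      have := MulAction.card_orbit_mul_card_stabilizer_eq_card_group (S : Subgroup G) ω.out
      simp only [Fintype.card_eq_nat_card] at this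
      rw [hst, Subgroup.card_bot, mul_one, show Nat.card (S : Subgroup G) = 9 from hS.card] at this
      rw [this]
    obtain ⟨r, hr⟩ := Finset.dvd_sum hrest
    rw [hsum, ← Finset.add_sum_erase _ _ (Finset.mem_univ o), hone, hr]
    omega
  rw [← horb, hC.card] at hcard
  omega

end Cfsg.Agent.SelfNineEight
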