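import Cfsg.Agent.Lib.SelfNineEight.Chars

/-!
# Pairs of elements of order three with product `z`
-/

set_option autoImplicit false
set_option linter.style.haveILetI false
set_option linter.unusedSectionVars false

namespace Cfsg.Agent.SelfNineEight

open Cfsg Cfsg.Agent Cfsg.Agent.Exceptional.SelfNine
open scoped Classical

universe u

variable {G : Type u} [Group G] [Fintype G] {q a b : ℕ}

/-- The nonidentity elements in good subgroups. -/
noncomputable def omegaSet (y : G) : Finset G :=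
  Finset.univ.filter fun d => d ≠ 1 ∧ ∃ D, Good y D ∧ d ∈ D

theorem mem_omegaSet {y d : G} : d ∈ omegaSet y ↔ d ≠ 1 ∧ ∃ D, Good y D ∧ d ∈ D := by
  simp [omegaSet]

/-- The two factors give a good abelian subgroup, unless they lie in the Sylow subgroup. -/
theorem Config.good_of_pair (hC : Config G q a b) {z : G} {S : Sylow 3 G} (hS : Setup S)
    (hzS : z ∈ (S : Subgroup G)) (hz : orderOf z = 3) {x : G} (hx : x * x * x = 1)
    (hy : x⁻¹ * z * (x⁻¹ * z) * (x⁻¹ * z) = 1) (hxS : x ∉ (S : Subgroup G)) :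
    ∃ D, Good z D ∧ x⁻¹ * z⁻¹ ∈ D := by
  haveI := Fact.mk Nat.prime_three
  have hz1 := ne_one_of_three hz
  set g := x⁻¹ with hg
  have ha3 : z * z * z = 1 := hS.cube hzS
  have hg3 : g * g * g = 1 := by
    rw [hg, ← mul_inv_rev, ← mul_inv_rev, ← mul_assoc, hx, inv_one]
  have hgi : g⁻¹ = g * g := inv_eq_of_mul_eq_one_right (by rw [← mul_assoc]; exact hg3)
  have hai : z⁻¹ = z * z := inv_eq_of_mul_eq_one_right (by rw [← mul_assoc]; exact ha3)
  have haa : z⁻¹ * z⁻¹ = z := by rw [← mul_inv_rev, ← hai, inv_inv]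
  set c := g * z⁻¹ with hc
  set c' := z⁻¹ * g with hc'
  have hgag : g * z * g = z⁻¹ * g⁻¹ * z⁻¹ := by
    calc g * z * g = g * z * (g * z) * (g * z) * (z⁻¹ * g⁻¹ * z⁻¹) := by group
      _ = z⁻¹ * g⁻¹ * z⁻¹ := by rw [hy, one_mul]
  have hcc : c * c' = g * z * g := by
    calc c * c' = g * (z⁻¹ * z⁻¹) * g := by simp only [hc, hc', mul_assoc]
      _ = g * z * g := by rw [haa]
  have hcomm : c' * c = c * c' := by
    rw [hcc, hgag, hgi]
    simp only [hc, hc', mul_assoc]
  set A := Subgroup.closure ({c, c'} : Set G) with hA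
  haveI := Subgroup.isMulCommutative_closure (k := ({c, c'} : Set G)) (by
    rintro p (rfl | rfl) r (rfl | rfl)
    exacts [rfl, hcomm.symm, hcomm, rfl])
  have hAc : ∀ p ∈ A, ∀ r ∈ A, p * r = r * p := fun p hp r hr =>
    congrArg Subtype.val (mul_comm' (⟨p, hp⟩ : A) ⟨r, hr⟩)
  have hmemA : c ∈ A ∧ c' ∈ A :=
    ⟨Subgroup.subset_closure (by simp), Subgroup.subset_closure (by simp)⟩
  have hAn : ∀ p ∈ A, z * p * z⁻¹ ∈ A := by
    have hle : A ≤ A.comap (MulAut.conj z).toMonoidHom := by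
      rw [hA, Subgroup.closure_le]
      rintro p (rfl | rfl)
      · show z * c * z⁻¹ ∈ A
        have : z * c * z⁻¹ = (c * c')⁻¹ := by
          calc z * c * z⁻¹ = z * g * (z⁻¹ * z⁻¹) := by simp only [hc, mul_assoc]
            _ = z * g * z := by rw [haa]
            _ = _ := by rw [hcc, hgag]; group
        rw [this]
        exact inv_mem (mul_mem hmemA.1 hmemA.2)
      · show z * c' * z⁻¹ ∈ A
        rw [show z * c' * z⁻¹ = c by rw [hc', hc]; group]
        exact hmemA.1
    exact fun p hp => hle hp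
  refine ⟨A, ⟨hAn, fun h3 => ?_⟩, hmemA.1⟩
  let E : Subgroup G :=
    { carrier := {p | p ∈ A ∧ p ^ 3 = 1}
      one_mem' := ⟨one_mem A, one_pow 3⟩
      mul_mem' := fun {p r} hp hr => ⟨mul_mem hp.1 hr.1, by
        rw [(show Commute p r from hAc p hp.1 r hr.1).mul_pow, hp.2, hr.2, one_mul]⟩
      inv_mem' := fun {p} hp => ⟨inv_mem hp.1, by rw [inv_pow, hp.2, inv_one]⟩ }
  have hEp : IsPGroup 3 E := fun p => ⟨1, Subtype.ext (by rw [pow_one]; exact p.2.2)⟩
  have haE : Subgroup.zpowers z ≤ Subgroup.normalizer (E : Set G) := by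
    rw [Subgroup.zpowers_le]
    exact mem_normalizer_of_conj fun p hp => ⟨hAn p hp.1, by rw [conj_pow, hp.2, mul_one, mul_inv_cancel]⟩
  have hap : IsPGroup 3 (Subgroup.zpowers z) :=
    IsPGroup.of_card (n := 1) (by rw [Nat.card_zpowers, hz, pow_one])
  obtain ⟨P, hP⟩ := (IsPGroup.to_sup_of_normal_left' hEp hap haE).exists_le_sylow
  have hP9 : Nat.card P = 3 ^ 2 := by
    rw [P.card_eq_multiplicity, ← S.card_eq_multiplicity, hS.card]; norm_num
  obtain ⟨⟨e, he⟩, heo⟩ := exists_prime_orderOf_dvd_card' 3 h3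
  rw [Subgroup.orderOf_mk] at heo
  have he1 : e ≠ 1 := ne_one_of_three heo
  have heE : e ∈ E := ⟨he, by rw [← heo, pow_orderOf_eq_one]⟩
  have hya : e * z = z * e := congrArg Subtype.val (IsPGroup.commutative_of_card_eq_prime_sq hP9
    ⟨e, hP (Subgroup.mem_sup_left heE)⟩ ⟨z, hP (Subgroup.mem_sup_right (Subgroup.mem_zpowers z))⟩)
  have heS := hS.mem_of_commute hzS hz1 hya
  have hcS := hS.mem_of_commute heS he1 (hAc c hmemA.1 e he)
  refine hxS ?_
  rw [show x = (c * z)⁻¹ by rw [hc, hg]; group]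
  exact inv_mem (mul_mem hcS hzS)

variable [IsSimpleGroup G]

/-- `E = 7 + U`. -/
theorem Config.pairCount_eq (hC : Config G q a b) {z : G} (hz : orderOf z = 3) :
    pairCount z = 7 + (omegaSet z).card := by
  haveI := Fact.mk Nat.prime_three
  obtain ⟨S, hS, hzS⟩ := hC.syl z hz
  have hz1 := ne_one_of_three hz
  let P : G → Prop := fun u => orderOf u = 3 ∧ orderOf (u⁻¹ * z) = 3
  have hsplit : pairCount z = Nat.card {u : G // P u ∧ u ∈ (S : Subgroup G)} +
      Nat.card {u : G // P u ∧ u ∉ (S : Subgroup G)} := by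
    rw [← Nat.card_sum]
    refine Nat.card_congr ?_
    refine ((Equiv.sumCompl fun u : {u : G // P u} => (u : G) ∈ (S : Subgroup G)).symm).trans
      (Equiv.sumCongr ?_ ?_)
    · exact Equiv.subtypeSubtypeEquivSubtypeInter P (fun u : G => u ∈ (S : Subgroup G))
    · exact Equiv.subtypeSubtypeEquivSubtypeInter P (fun u : G => u ∉ (S : Subgroup G))
  have hin : Nat.card {u : G // P u ∧ u ∈ (S : Subgroup G)} = 7 := by
    have he : {u : G | P u ∧ u ∈ (S : Subgroup G)} = ((S : Subgroup G) : Set G) \ {1, z} := by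
      ext u
      simp only [Set.mem_setOf_eq, Set.mem_sdiff, SetLike.mem_coe, Set.mem_insert_iff,
        Set.mem_singleton_iff, not_or]
      constructor
      · rintro ⟨⟨h1, h2⟩, hu⟩
        refine ⟨hu, ne_one_of_three h1, fun e => ?_⟩
        rw [e, inv_mul_cancel, orderOf_one] at h2
        omega
      · rintro ⟨hu, h1, h2⟩
        refine ⟨⟨orderOf_eq_prime (hS.exp u hu) h1, orderOf_eq_prime
          (hS.exp _ (mul_mem (inv_mem hu) hzS)) fun e => h2 (inv_mul_eq_one.1 e)⟩, hu⟩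
    show Nat.card {u : G | P u ∧ u ∈ (S : Subgroup G)} = 7
    rw [Nat.card_coe_set_eq, he, Set.ncard_sdiff
      (by rintro w (rfl | rfl); exacts [one_mem _, hzS]), ← Nat.card_coe_set_eq,
      Set.ncard_pair (Ne.symm hz1)]
    show Nat.card (S : Subgroup G) - 2 = 7
    rw [show Nat.card (S : Subgroup G) = 9 from hS.card]
  have hout : Nat.card {u : G // P u ∧ u ∉ (S : Subgroup G)} = (omegaSet z).card := by
    rw [← Nat.card_eq_finsetCard]
    refine Nat.card_congr
      { toFun := fun u => ⟨(u : G)⁻¹ * z⁻¹, ?_⟩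
        invFun := fun d => ⟨((d : G) * z)⁻¹, ?_⟩
        left_inv := fun u => Subtype.ext (show ((u : G)⁻¹ * z⁻¹ * z)⁻¹ = u by group)
        right_inv := fun d => Subtype.ext (show ((d : G) * z)⁻¹⁻¹ * z⁻¹ = d by group) }
    · obtain ⟨u, ⟨h1, h2⟩, hu⟩ := u
      rw [mem_omegaSet]
      refine ⟨fun e => hu ?_, hC.good_of_pair hS hzS hz ?_ ?_ hu⟩
      · have : u = z⁻¹ := (inv_mul_eq_one.1 e)
        rw [this]
        exact inv_mem hzS
      · exact SelfCentThree.pow_three_of_order h1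
      · exact SelfCentThree.pow_three_of_order h2
    · obtain ⟨d, hd⟩ := d
      obtain ⟨hd1, D, hD, hdD⟩ := mem_omegaSet.1 hd
      show P (d * z)⁻¹ ∧ (d * z)⁻¹ ∉ (S : Subgroup G)
      refine ⟨⟨by rw [orderOf_inv]; exact hD.order_coset hC hz hdD, ?_⟩, fun h => ?_⟩
      · have h' := hD.inverse.order_coset hC (by rw [orderOf_inv, hz]) hdD
        rwa [inv_inv, show d * z * z = d * z⁻¹ by
          rw [mul_assoc, show z * z = z⁻¹ from
            (inv_eq_of_mul_eq_one_right (by rw [← mul_assoc]; exact hS.cube hzS)).symm]]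
      · have hdS : d ∈ (S : Subgroup G) := by
          have := mul_mem (inv_mem h) (inv_mem hzS)
          rwa [inv_inv, mul_inv_cancel_right] at this
        exact hd1 (hD.eq_one_of_commute hC hz hdD (hS.comm hdS hzS))
  rw [hsplit, hin, hout]

end Cfsg.Agent.SelfNineEight
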