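import Cfsg.Agent.Lib.SelfNineEight.Final

/-!
# The cases for a strongly self-centralising Sylow subgroup of order nine
-/

set_option autoImplicit false
set_option linter.style.haveILetI false
set_option linter.unusedSectionVars false

namespace Cfsg.Agent.SelfNineEight

open Cfsg Cfsg.Agent Cfsg.Agent.Exceptional.SelfNine

universe u

variable {G : Type u} [Group G] [Finite G]

theorem card_sylow_nine {q a b : ℕ} (hq : q.Prime) (hq3 : q ≠ 3)
    (hcard : Nat.card G = 9 * 2 ^ a * q ^ b) (R : Sylow 3 G) : Nat.card R = 9 := by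
  haveI := Fact.mk Nat.prime_three
  have h9 : 3 ^ 2 ∣ Nat.card R :=
    R.pow_dvd_card_of_pow_dvd_card (by rw [hcard, mul_assoc]; exact dvd_mul_right _ _)
  obtain ⟨n, hn⟩ := IsPGroup.iff_card.1 R.2
  have hd : 3 ^ n ∣ 9 * 2 ^ a * q ^ b := by rw [← hcard, ← hn]; exact Subgroup.card_subgroup_dvd_card _
  have hcop : (3 ^ n).Coprime (2 ^ a * q ^ b) :=
    Nat.Coprime.pow_left n (Nat.Coprime.mul_right (Nat.Coprime.pow_right a (by norm_num))
      (Nat.Coprime.pow_right b ((Nat.coprime_primes Nat.prime_three hq).2 (Ne.symm hq3))))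
  rw [mul_assoc] at hd
  exact Nat.dvd_antisymm (hn ▸ hcop.dvd_of_dvd_mul_right hd) h9

/-- The setup is carried along by conjugation. -/
theorem setup_smul {R : Sylow 3 G} (h : Setup R) (g : G) : Setup (g • R) := by
  have hmem : ∀ x : G, x ∈ ((g • R : Sylow 3 G) : Subgroup G) ↔ g⁻¹ * x * g ∈ (R : Subgroup G) := by
    intro x
    rw [Sylow.coe_subgroup_smul, Subgroup.mem_pointwise_smul_iff_inv_smul_mem, ← map_inv,
      MulAut.smul_def, MulAut.conj_apply, inv_inv]
  refine ⟨?_, fun s hs => ?_, fun s hs hs1 => ?_⟩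
  · rw [← h.card]
    exact (Nat.card_congr (R.equivSMul g).toEquiv).symm
  · have hc := h.exp _ ((hmem s).1 hs)
    have e : g⁻¹ * s ^ 3 * g = (g⁻¹ * s * g) ^ 3 := by simp only [pow_three]; group
    rw [hc] at e
    calc s ^ 3 = g * (g⁻¹ * s ^ 3 * g) * g⁻¹ := by group
      _ = 1 := by rw [e]; group
  · ext x
    rw [hmem, ← h.cent _ ((hmem s).1 hs) (fun e => hs1 (by
        calc s = g * (g⁻¹ * s * g) * g⁻¹ := by group
          _ = 1 := by rw [e]; group)),
      Subgroup.mem_centralizer_singleton_iff, Subgroup.mem_centralizer_singleton_iff]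
    constructor <;> intro e
    · calc g⁻¹ * x * g * (g⁻¹ * s * g) = g⁻¹ * (x * s) * g := by group
        _ = g⁻¹ * (s * x) * g := by rw [e]
        _ = _ := by group
    · calc x * s = g * (g⁻¹ * x * g * (g⁻¹ * s * g)) * g⁻¹ := by group
        _ = g * (g⁻¹ * s * g * (g⁻¹ * x * g)) * g⁻¹ := by rw [e]
        _ = _ := by group

/-- With one class of elements of order three the configuration is present. -/
theorem config_of_setup {q a b : ℕ} (hG : ¬ IsMulCommutative G) (hq : q.Prime) (hq2 : q ≠ 2)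
    (hq3 : q ≠ 3) (hcard : Nat.card G = 9 * 2 ^ a * q ^ b) {R : Sylow 3 G} (hS : Setup R)
    (hconj : ∀ y z : G, orderOf y = 3 → orderOf z = 3 → IsConj y z) : Config G q a b where
  hq := hq
  hq5 := by
    have h2 := hq.two_le
    rcases lt_or_ge q 5 with h | h
    · interval_cases q <;> first | omega | exact absurd hq (by decide)
    · exact h
  nc := hG
  card := by rw [hcard, mul_assoc]
  conj := hconj
  syl y hy := by
    haveI := Fact.mk Nat.prime_three
    obtain ⟨r, hr⟩ := exists_prime_orderOf_dvd_card' (G := (R : Subgroup G)) 3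
      (by rw [hS.card]; norm_num)
    obtain ⟨g, hg⟩ := isConj_iff.1 (hconj (r : G) y (by rw [Subgroup.orderOf_coe, hr]) hy)
    refine ⟨g • R, setup_smul hS g, ?_⟩
    rw [Sylow.coe_subgroup_smul, Subgroup.mem_pointwise_smul_iff_inv_smul_mem, ← map_inv,
      MulAut.smul_def, MulAut.conj_apply, inv_inv, ← hg]
    simpa [mul_assoc] using r.2

/-- A cyclic self-centralising Sylow subgroup of order nine gives three classes. -/
theorem three_classes_of_cyclic {R : Sylow 3 G} (hR9 : Nat.card R = 9)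
    (hR : ∀ k ∈ (R : Subgroup G), k ≠ 1 → Subgroup.centralizer ({k} : Set G) = R) {t : G}
    (ht : t ∈ (R : Subgroup G)) (ht9 : orderOf t = 9) :
    3 ≤ Nat.card {C : ConjClasses G // ∃ g ∈ C.carrier, g ≠ 1 ∧ orderOf g ∣ 9} := by
  haveI := Fact.mk Nat.prime_three
  have hgen : Subgroup.zpowers t = (R : Subgroup G) :=
    Subgroup.eq_of_le_of_card_ge (Subgroup.zpowers_le.2 ht) (by rw [Nat.card_zpowers, ht9, hR9])
  have ht1 : t ≠ 1 := fun e => by rw [e, orderOf_one] at ht9; omega
  have h3 : orderOf (t ^ 3) = 3 := by rw [orderOf_pow, ht9]; norm_num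
  have h4 : orderOf (t ^ 4) = 9 := by rw [orderOf_pow, ht9]; norm_num
  have hdiff : ¬ IsConj t (t ^ 4) := by
    intro hc
    obtain ⟨g, hg⟩ := isConj_iff.1 hc
    have hpow : ∀ n : ℕ, g * t ^ n * g⁻¹ = t ^ (4 * n) := fun n => by
      rw [← conj_pow, hg, pow_mul]
    have hcomm : g ^ 3 * t = t * g ^ 3 := by
      have e : g ^ 3 * t * (g ^ 3)⁻¹ = t := by
        calc g ^ 3 * t * (g ^ 3)⁻¹ = g * (g * (g * t ^ 1 * g⁻¹) * g⁻¹) * g⁻¹ := by
              simp only [pow_three, pow_one]; group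
          _ = t ^ (4 * (4 * (4 * 1))) := by rw [hpow, hpow, hpow]
          _ = t ^ 1 := pow_eq_pow_iff_modEq.2 (by rw [ht9]; decide)
          _ = t := pow_one t
      exact mul_inv_eq_iff_eq_mul.1 e
    have hg3 : g ^ 3 ∈ (R : Subgroup G) := by
      rw [← hR t ht ht1]
      exact Subgroup.mem_centralizer_singleton_iff.2 hcomm
    obtain ⟨k, hk⟩ := R.2 ⟨g ^ 3, hg3⟩
    have hgp : IsPGroup 3 (Subgroup.zpowers g) := by
      have hpow1 : g ^ 3 ^ (k + 1) = 1 := by
        rw [pow_succ', pow_mul]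
        exact congrArg Subtype.val hk
      obtain ⟨j, -, hj⟩ := (Nat.dvd_prime_pow Nat.prime_three).1 (orderOf_dvd_of_pow_eq_one hpow1)
      exact IsPGroup.iff_card.2 ⟨j, by rw [Nat.card_zpowers, hj]⟩
    have hgN : Subgroup.zpowers g ≤ Subgroup.normalizer ((R : Subgroup G) : Set G) := by
      refine Subgroup.zpowers_le.2 (mem_normalizer_of_conj fun d hd => ?_)
      rw [← hgen] at hd ⊢
      obtain ⟨i, rfl⟩ := Subgroup.mem_zpowers_iff.1 hd
      rw [← conj_zpow, hg]
      exact Subgroup.zpow_mem _ (Subgroup.pow_mem _ (Subgroup.mem_zpowers t) 4) i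
    have hsup := IsPGroup.to_sup_of_normal_right' hgp R.2 hgN
    have hgR : g ∈ (R : Subgroup G) := by
      rw [← R.3 hsup le_sup_right]
      exact Subgroup.mem_sup_left (Subgroup.mem_zpowers g)
    rw [← hR t ht ht1, Subgroup.mem_centralizer_singleton_iff] at hgR
    have e : t ^ 4 = t ^ 1 := by rw [← hg, hgR, mul_inv_cancel_right, pow_one]
    exact absurd (pow_eq_pow_iff_modEq.1 e) (by rw [ht9]; decide)
  have hne : ∀ x : G, orderOf x = 9 → ConjClasses.mk x ≠ ConjClasses.mk (t ^ 3) := fun x hx e => by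
    obtain ⟨c, hc⟩ := isConj_iff.1 (ConjClasses.mk_eq_mk_iff_isConj.1 e)
    have := MulEquiv.orderOf_eq (MulAut.conj c) x
    rw [MulAut.conj_apply, hc, h3, hx] at this
    omega
  let f : Fin 3 → {C : ConjClasses G // ∃ g ∈ C.carrier, g ≠ 1 ∧ orderOf g ∣ 9} :=
    ![⟨ConjClasses.mk t, t, ConjClasses.mem_carrier_mk, ht1, by rw [ht9]⟩,
      ⟨ConjClasses.mk (t ^ 4), t ^ 4, ConjClasses.mem_carrier_mk,
        fun e => (by rw [e, orderOf_one] at h4; omega), by rw [h4]⟩,
      ⟨ConjClasses.mk (t ^ 3), t ^ 3, ConjClasses.mem_carrier_mk,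
        fun e => (by rw [e, orderOf_one] at h3; omega), by rw [h3]; norm_num⟩]
  have hf : Function.Injective f := by
    intro i j e
    have e' := congrArg Subtype.val e
    fin_cases i <;> fin_cases j <;> simp [f] at e' ⊢
    · exact hdiff (ConjClasses.mk_eq_mk_iff_isConj.1 e')
    · exact hne t ht9 e'
    · exact hdiff (ConjClasses.mk_eq_mk_iff_isConj.1 e'.symm)
    · exact hne _ h4 e'
    · exact hne t ht9 e'.symm
    · exact hne _ h4 e'.symm
  calc 3 = Nat.card (Fin 3) := (Nat.card_fin 3).symm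
    _ ≤ _ := Nat.card_le_card_of_injective f hf

end Cfsg.Agent.SelfNineEight
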