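import Mathlib

/-!
# A finite search over lists of signed degrees

An item `(c, d)` stands for a character of degree `d` with value `c` at the elements of order
three. `srch` decides whether some multiset of admissible items has given sums.
-/

set_option autoImplicit false

namespace Cfsg.Agent.SelfNineEight

/-- `c ^ 2`. -/
def unitsOf (x : ℤ × ℕ) : ℕ := x.1.natAbs * x.1.natAbs

/-- `c * d`. -/
def signedDeg (x : ℤ × ℕ) : ℤ := x.1 * x.2

/-- `c ^ 3 * n / d`. -/
def weightOf (n : ℕ) (x : ℤ × ℕ) : ℤ := x.1 ^ 3 * ((n / x.2 : ℕ) : ℤ)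

/-- Admissible items for a group of order `9 * n`. -/
def AdmItem (n : ℕ) (x : ℤ × ℕ) : Prop :=
  (x.1 = 1 ∨ x.1 = -1 ∨ x.1 = 2 ∨ x.1 = -2) ∧ 1 < x.2 ∧ x.2 * x.2 < 9 * n ∧
    ((x.2 : ℤ) - x.1) % 9 = 0 ∧ 0 ≤ (x.2 : ℤ) + 8 * x.1 ∧ (x.2 : ℤ) ≠ x.1

instance (n : ℕ) (x : ℤ × ℕ) : Decidable (AdmItem n x) := by unfold AdmItem; infer_instance

/-- All admissible items with degree `2 ^ i * q ^ j`. -/
def options (q a b : ℕ) : List (ℤ × ℕ) :=
  ((List.range (a + 1)).flatMap fun i => (List.range (b + 1)).flatMap fun j =>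
    [((1 : ℤ), 2 ^ i * q ^ j), ((-1 : ℤ), 2 ^ i * q ^ j), ((2 : ℤ), 2 ^ i * q ^ j),
      ((-2 : ℤ), 2 ^ i * q ^ j)]).filter fun x => decide (AdmItem (2 ^ a * q ^ b) x)

/-- Is there a multiset over `l` with unit sum `u`, whose signed degrees cancel `S` and whose weight
added to `T` satisfies `p`? -/
def srch (p : ℤ → Bool) (n : ℕ) : List (ℤ × ℕ) → ℕ → ℤ → ℤ → Bool
  | [], u, S, T => u == 0 && S == 0 && p T
  | x :: l, u, S, T => (List.range (u / unitsOf x + 1)).any fun m =>
      srch p n l (u - m * unitsOf x) (S + m * signedDeg x) (T + m * weightOf n x)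

theorem srch_true {p : ℤ → Bool} {n : ℕ} : ∀ (l : List (ℤ × ℕ)) (s : Multiset (ℤ × ℕ))
    (u : ℕ) (S T : ℤ), (∀ x ∈ s, x ∈ l) → (∀ x ∈ s, 0 < unitsOf x) →
    (s.map unitsOf).sum = u → S + (s.map signedDeg).sum = 0 →
    p (T + (s.map (weightOf n)).sum) = true → srch p n l u S T = true
  | [], s, u, S, T, hl, _, hu, hS, hp => by
    obtain rfl : s = 0 := Multiset.eq_zero_of_forall_notMem fun x hx => by simpa using hl x hx
    simp only [Multiset.map_zero, Multiset.sum_zero, add_zero] at hu hS hp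
    simp [srch, ← hu, hS, hp]
  | y :: l, s, u, S, T, hl, hpos, hu, hS, hp => by
    classical
    set m := s.count y
    set r := s.filter fun x => ¬ x = y with hr
    have hs : s = Multiset.replicate m y + r := by
      rw [← Multiset.filter_eq' s y]
      exact (Multiset.filter_add_not _ s).symm
    have hu' : m * unitsOf y + (r.map unitsOf).sum = u := by
      rw [← hu, hs, Multiset.map_add, Multiset.sum_add, Multiset.map_replicate,
        Multiset.sum_replicate, smul_eq_mul]
    rw [srch, List.any_eq_true]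
    refine ⟨m, List.mem_range.2 (Nat.lt_succ_of_le ?_), ?_⟩
    · rcases Nat.eq_zero_or_pos m with h0 | h0
      · rw [h0]; exact Nat.zero_le _
      · have hy : y ∈ s := Multiset.count_pos.1 h0
        rw [Nat.le_div_iff_mul_le (hpos y hy)]
        omega
    refine srch_true l r _ _ _ ?_ (fun x hx => hpos x (Multiset.mem_of_mem_filter hx)) (by omega) ?_ ?_
    · intro x hx
      obtain ⟨hxs, hxy⟩ := Multiset.mem_filter.1 hx
      exact (List.mem_cons.1 (hl x hxs)).resolve_left hxy
    · rw [hs, Multiset.map_add, Multiset.sum_add, Multiset.map_replicate, Multiset.sum_replicate,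
        nsmul_eq_mul] at hS
      linarith
    · rw [hs, Multiset.map_add, Multiset.sum_add, Multiset.map_replicate, Multiset.sum_replicate,
        nsmul_eq_mul, ← add_assoc] at hp
      exact hp

/-- The nontrivial characters not vanishing at an element of order three, as items, together with
`E = 7 + U`. -/
structure Items (q a b E : ℕ) (s : Multiset (ℤ × ℕ)) : Prop where
  adm : ∀ x ∈ s, AdmItem (2 ^ a * q ^ b) x ∧ ∃ i j, i ≤ a ∧ j ≤ b ∧ x.2 = 2 ^ i * q ^ j
  units : (s.map unitsOf).sum = 8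
  degs : 1 + (s.map signedDeg).sum = 0
  pairs : ((2 ^ a * q ^ b : ℕ) : ℤ) + (s.map (weightOf (2 ^ a * q ^ b))).sum = 9 * (E : ℤ)

theorem unitsOf_pos {n : ℕ} {x : ℤ × ℕ} (h : AdmItem n x) : 0 < unitsOf x := by
  rcases h.1 with e | e | e | e <;> simp [unitsOf, e]

theorem Items.mem_options {q a b E : ℕ} {s : Multiset (ℤ × ℕ)} (h : Items q a b E s)
    {x : ℤ × ℕ} (hx : x ∈ s) : x ∈ options q a b := by
  obtain ⟨hA, i, j, hi, hj, hd⟩ := h.adm x hx
  obtain ⟨c, d⟩ := x
  dsimp only at hd
  subst hd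
  simp only [options, List.mem_filter, List.mem_flatMap, List.mem_range, decide_eq_true_eq]
  refine ⟨⟨i, by omega, j, by omega, ?_⟩, hA⟩
  rcases hA.1 with e | e | e | e <;> (dsimp only at e; simp [e])

theorem Items.false_of_srch {q a b E : ℕ} {s : Multiset (ℤ × ℕ)} (h : Items q a b E s)
    (p : ℤ → Bool) (hp : p (9 * (E : ℤ)) = true)
    (hs : srch p (2 ^ a * q ^ b) (options q a b) 8 1 ((2 ^ a * q ^ b : ℕ) : ℤ) = false) : False := by
  have := srch_true (p := p) (n := 2 ^ a * q ^ b) (options q a b) s 8 1 _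
    (fun x hx => h.mem_options hx) (fun x hx => unitsOf_pos (h.adm x hx).1) h.units h.degs
    (by rw [h.pairs]; exact hp)
  rw [hs] at this
  exact Bool.false_ne_true this

/-- No configuration with the value `E`. -/
theorem Items.false_of_srch_eq {q a b E : ℕ} {s : Multiset (ℤ × ℕ)} (h : Items q a b E s)
    (hs : srch (fun T => decide (T = 9 * (E : ℤ))) (2 ^ a * q ^ b) (options q a b) 8 1
      ((2 ^ a * q ^ b : ℕ) : ℤ) = false) : False :=
  h.false_of_srch _ (by simp) hs


end Cfsg.Agent.SelfNineEight
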